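import Cfsg.Agent.Lib.CoM24.Moves
import Mathlib.LinearAlgebra.Matrix.Transvection
import Mathlib.LinearAlgebra.Matrix.GeneralLinearGroup.Card

/-!
The order of the normaliser of the abelian subgroup inside the centraliser of the central involution.
-/

set_option autoImplicit false
set_option linter.style.haveILetI false
set_option linter.unusedSectionVars false
set_option maxRecDepth 20000
set_option synthInstance.maxSize 4000
set_option synthInstance.maxHeartbeats 400000

namespace Cfsg.Agent.CoM24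

open Cfsg.Agent.CoT Subgroup LargeExtra

local notation "F" => ZMod 2

/-- The twelve transvections as matrices. -/
theorem gv_mat : ∀ t : Fin 12, ∀ i j : Fin 4, bil (Fv i) (gv t (E j)) =
    (if i = j then 1 else 0) + (if (gp t).1 = i ∧ (gp t).2 = j then 1 else 0) := by decide +kernel

theorem exists_gp : ∀ i j : Fin 4, i ≠ j → ∃ t, gp t = (i, j) := by decide +kernel

theorem bits4_inj : ∀ v w : Fin 16, (∀ k : Fin 4, bitF v k = bitF w k) → v = w := by decide +kernel

variable {G : Type*} [Group G] [Finite G] {z : G} {Q : Subgroup G} {π : G → V} {ρ : G → V → V}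
  {s g : Fin 4 → G}

/-- The normaliser inside the centraliser of the central involution. -/
abbrev HH (z : G) (s : Fin 4 → G) : Subgroup G :=
  centralizer ({z} : Set G) ⊓ normalizer (AA z s : Set G)

/-- The matrix on the singular subspace. -/
def mat (ρ : G → V → V) (c : G) : Matrix (Fin 4) (Fin 4) F := fun i j => bil (Fv i) (ρ c (E j))

namespace Base

variable (X : Base z Q π ρ s g)
include X

theorem HH_W {c : G} (hc : c ∈ HH z s) (i m : Fin 4) : bil (ρ c (E i)) (E m) = 0 := by
  have hcz := mem_centralizer_one.1 hc.1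
  have hm := X.su.conj_mem hcz (X.fr i).sQ
  have hA : c * s i * c⁻¹ ∈ AA z s := (mem_normalizer_iff.1 hc.2 _).1 (X.s_mem i)
  rw [← X.se, ← X.su.conj c hcz _ (X.fr i).sQ]
  exact (X.mem_Q hm).1 hA m

theorem mat_mul {a b : G} (ha : a ∈ HH z s) (hb : b ∈ HH z s) : mat ρ (a * b) = mat ρ a * mat ρ b := by
  have haz := mem_centralizer_one.1 ha.1
  have hbz := mem_centralizer_one.1 hb.1
  ext i j
  rw [Matrix.mul_apply, Fin.sum_univ_four]
  show bil (Fv i) (ρ (a * b) (E j)) = _
  rw [X.su.rho_mul haz hbz, dualW _ (X.HH_W hb j)]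
  simp only [X.su.rho_add haz, add_sm (X.su.rho_add haz), bil_add_right, bil_sm_right, mat]
  ring

theorem mat_fix {c : G} (h : ∀ i, ρ c (E i) = E i) : mat ρ c = 1 := by
  ext i j
  show bil (Fv i) (ρ c (E j)) = _
  rw [h, FE_bil, Matrix.one_apply]

/-- The action on the singular subspace. -/
noncomputable def mu (X : Base z Q π ρ s g) : ↥(HH z s) →* Matrix.GeneralLinearGroup (Fin 4) F :=
  MonoidHom.toHomUnits
    { toFun := fun c => mat ρ (c : G)
      map_one' := X.mat_fix fun i => by rw [Subgroup.coe_one, X.su.rho_one]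
      map_mul' := fun a b => X.mat_mul a.2 b.2 }

theorem mu_surj : Function.Surjective X.mu := by
  intro M
  have key : ∀ N : Matrix (Fin 4) (Fin 4) F, N.det ≠ 0 → ∃ c : ↥(HH z s), mat ρ (c : G) = N := by
    intro N hN
    refine Matrix.diagonal_transvection_induction_of_det_ne_zero
      (fun N => ∃ c : ↥(HH z s), mat ρ (c : G) = N) N hN (fun D hD => ⟨1, ?_⟩) (fun t => ?_)
      (fun A B _ _ ⟨a, ha⟩ ⟨b, hb⟩ => ⟨a * b, by rw [Subgroup.coe_mul, X.mat_mul a.2 b.2, ha, hb]⟩)
    · rw [Subgroup.coe_one, X.mat_fix fun i => X.su.rho_one _]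
      have : ∀ i, D i = 1 := fun i => (F_cases _).resolve_left fun e => hD (by
        rw [Matrix.det_diagonal]; exact Finset.prod_eq_zero (Finset.mem_univ i) e)
      rw [show D = fun _ => 1 from funext this, Matrix.diagonal_one]
    · rcases F_cases t.c with hc | hc
      · refine ⟨1, ?_⟩
        rw [Subgroup.coe_one, X.mat_fix fun i => X.su.rho_one _, Matrix.TransvectionStruct.toMatrix, hc,
          Matrix.transvection_zero]
      · obtain ⟨t', ht'⟩ := exists_gp t.i t.j t.hij
        obtain ⟨c, hcz, hρ, hn⟩ := X.exists_gen t'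
        refine ⟨⟨c, mem_centralizer_one.2 hcz, hn⟩, ?_⟩
        ext i j
        show bil (Fv i) (ρ c (E j)) = _
        rw [hρ, gv_mat, ht', Matrix.TransvectionStruct.toMatrix, hc]
        simp [Matrix.transvection, Matrix.single_apply, Matrix.one_apply]
  obtain ⟨c, hc⟩ := key (M : Matrix (Fin 4) (Fin 4) F)
    ((Matrix.isUnit_iff_isUnit_det _).1 M.isUnit).ne_zero
  exact ⟨c, Units.ext hc⟩

theorem mem_HH {c : G} (hc : c * z = z * c) (hn : c ∈ normalizer (AA z s : Set G)) : c ∈ HH z s :=
  ⟨mem_centralizer_one.2 hc, hn⟩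

end Base

namespace Four

variable (X : Four z Q π ρ s g) {r : Fin 6 → G} (hr : RSys z Q π ρ s g r) {a : Fin 4 → G}
  (ha : TSys Q π a)
include X hr ha

theorem tv_HH (v : ℕ) : tv a v ∈ HH z s := by
  obtain ⟨hm, -⟩ := X.tv_spec hr ha v
  exact X.base.mem_HH (X.base.su.Qz hm) (X.base.norm_AA (X.base.su.Qz hm) fun i m => by
    rw [X.base.su.rho_Q hm, E_bil])

theorem tv_inj {v w : Fin 16} (h : (tv a v)⁻¹ * tv a w ∈ AA z s) : v = w := by
  obtain ⟨hv, pv⟩ := X.tv_spec hr ha v
  obtain ⟨hw, pw⟩ := X.tv_spec hr ha w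
  have hW := (X.base.mem_Q (mul_mem (inv_mem hv) hw)).1 h
  refine bits4_inj v w fun k => F_eq_of_add _ _ ?_
  have := hW k
  rw [X.base.su.pi_mul _ (inv_mem hv) _ hw, X.base.su.pi_inv hv, pv, pw, bil_add_left] at this
  fin_cases k <;> simpa [bil_add_left, bil_sm_left, FE_bil] using this

/-- The stabiliser is large. -/
theorem card_HH : 322560 * 2048 ≤ Nat.card ↥(HH z s) := by
  have hA : ∀ u ∈ AA z s, u ∈ HH z s := fun u hu => X.base.mem_HH (X.base.Az hu) (le_normalizer hu)
  have h1 := X.base.mu.ker.card_mul_index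
  rw [index_ker, MonoidHom.range_eq_top.2 X.base.mu_surj, card_top, Matrix.card_GL_field] at h1
  have hker : 2048 * 16 ≤ Nat.card X.base.mu.ker := by
    rw [← X.card_AA hr, ← Nat.card_fin 16, ← Nat.card_prod]
    refine Nat.card_le_card_of_injective (fun p : ↥(AA z s) × Fin 16 =>
      (⟨⟨(p.1 : G) * tv a p.2, mul_mem (hA _ p.1.2) (X.tv_HH hr ha p.2)⟩, ?_⟩ : X.base.mu.ker)) ?_
    · refine Units.ext (X.base.mat_fix fun i => ?_)
      obtain ⟨hm, -⟩ := X.tv_spec hr ha p.2
      rw [X.base.su.rho_mul (X.base.Az p.1.2) (X.base.su.Qz hm), X.base.su.rho_Q hm, X.base.fix p.1.2]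
    · intro p p' e
      have e' : (p.1 : G) * tv a p.2 = p'.1 * tv a p'.2 := congrArg (fun u => ((u : ↥(HH z s)) : G))
        (congrArg Subtype.val e)
      have hv : (tv a p'.2)⁻¹ * tv a p.2 ∈ AA z s := by
        have hn := (X.tv_HH hr ha p'.2).2
        have h2 : tv a p'.2 * ((tv a p'.2)⁻¹ * tv a p.2) * (tv a p'.2)⁻¹ ∈ AA z s := by
          have : tv a p'.2 * ((tv a p'.2)⁻¹ * tv a p.2) * (tv a p'.2)⁻¹ = (p.1 : G)⁻¹ * p'.1 := by
            calc _ = tv a p.2 * (tv a p'.2)⁻¹ := by group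
              _ = (p.1 : G)⁻¹ * ((p.1 : G) * tv a p.2) * (tv a p'.2)⁻¹ := by group
              _ = _ := by rw [e']; group
          rw [this]
          exact mul_mem (inv_mem p.1.2) p'.1.2
        exact (mem_normalizer_iff.1 hn _).2 h2
      have h2 := X.tv_inj hr ha hv
      rw [h2] at e'
      exact Prod.ext (Subtype.ext (mul_right_cancel e')) h2.symm
  rw [← h1, show Fintype.card F = 2 from ZMod.card 2, Fin.prod_univ_four]
  calc 322560 * 2048 = 2048 * 16 * 20160 := by norm_num
    _ ≤ _ := Nat.mul_le_mul hker (by norm_num)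

end Four

end Cfsg.Agent.CoM24
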