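import Cfsg.Agent.Lib.CoM24.Moves
import Cfsg.Agent.Lib.CoT.Lower

/-!
Which elements of rank at most two on the radical are conjugates of the central involution.
-/

set_option autoImplicit false
set_option linter.style.haveILetI false
set_option linter.unusedSectionVars false
set_option maxRecDepth 20000
set_option synthInstance.maxSize 4000
set_option synthInstance.maxHeartbeats 400000

namespace Cfsg.Agent.CoM24

open Cfsg.Agent.CoT Subgroup LargeExtra

local notation "F" => ZMod 2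

variable {G : Type*} [Group G] [Finite G] {z : G} {Q : Subgroup G} {π : G → V} {ρ : G → V → V}
  {s g : Fin 4 → G}

/-- The criterion. -/
def CritP (z : G) (Q : Subgroup G) (t : G) : Prop :=
  ∀ x ∈ Q, (x * t * x⁻¹ = t ∨ x * t * x⁻¹ = t * z) → x * t * x⁻¹ = t

/-- The criterion decides on one class of the radical. -/
def Good (z : G) (Q : Subgroup G) (ρ : G → V → V) (s : Fin 4 → G) (o : ℕ) : Prop :=
  ∀ a, Rad z ρ s a o → (IsConj z a ↔ CritP z Q a)

/-- The classes reached in few steps from the first one. -/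
def levels : List (List ℕ) :=
  [[1], [1, 3, 5, 9, 17], [1, 2, 3, 4, 5, 7, 8, 9, 11, 16, 17, 21, 25, 45, 51],
    [1, 2, 3, 4, 5, 6, 7, 8, 9, 10, 11, 16, 17, 20, 21, 24, 25, 31, 34, 36, 40, 45, 47, 48, 51, 55, 59, 61],
    [1, 2, 3, 4, 5, 6, 7, 8, 9, 10, 11, 16, 17, 20, 21, 24, 25, 30, 31, 32, 34, 36, 38, 40, 42, 45, 47,
      48, 51, 52, 55, 56, 59, 61, 62]]

theorem levels_step : ∀ n : Fin 4, ∀ o ∈ levels.getD (n + 1) [], o < 64 ∧
    (o ∈ levels.getD n [] ∨ ∃ t, act t o ∈ levels.getD n []) := by decide +kernel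

theorem levels_cover : ∀ o : Fin 64, low (32 * o) = true → (o : ℕ) ≠ 0 → (o : ℕ) ∈ levels.getD 4 [] := by
  decide +kernel

theorem low_split : ((List.range 2048).all fun y => (low y == low (32 * om y))) = true := by decide +kernel

theorem crit_first : ((List.range' 32 32).all fun y =>
    crit y == (!(Nat.testBit y 3) && !(Nat.testBit y 4))) = true := by decide +kernel

theorem first_facts : ∀ b₁ b₂ b₃ b₄ : F, ¬ (b₃ = 0 ∧ b₄ = 0) →
    q (sm b₁ e0 + sm b₂ e1 + sm b₃ e2 + sm b₄ e3) = 0 ∧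
    bil (sm b₁ e0 + sm b₂ e1 + sm b₃ e2 + sm b₄ e3) e0 = 0 ∧
    bil (sm b₁ e0 + sm b₂ e1 + sm b₃ e2 + sm b₄ e3) e1 = 0 ∧
    sm b₁ e0 + sm b₂ e1 + sm b₃ e2 + sm b₄ e3 ≠ 0 ∧
    sm b₁ e0 + sm b₂ e1 + sm b₃ e2 + sm b₄ e3 ≠ e0 ∧
    e1 ≠ sm b₁ e0 + sm b₂ e1 + sm b₃ e2 + sm b₄ e3 ∧
    e1 ≠ e0 + (sm b₁ e0 + sm b₂ e1 + sm b₃ e2 + sm b₄ e3) := by decide +kernel

theorem e1_facts : q e1 = 0 ∧ bil e1 e0 = 0 ∧ bil e2 e0 = 0 ∧ e1 ≠ 0 ∧ e1 ≠ e0 := by decide +kernel

namespace Base

variable (X : Base z Q π ρ s g)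
include X

theorem good_step (t : Fin 12) {o : ℕ} (ho : o < 64) (h : Good z Q ρ s (act t o)) : Good z Q ρ s o := by
  intro a ha
  obtain ⟨c, hc, hρ, hn⟩ := X.exists_gen t
  have h' := h _ (X.rad_conj ho hc hρ hn ha)
  have hI : IsConj z (c * a * c⁻¹) ↔ IsConj z a :=
    ⟨fun e => e.trans (isConj_iff.2 ⟨c, rfl⟩).symm, fun e => e.trans (isConj_iff.2 ⟨c, rfl⟩)⟩
  have hci := X.su.comm_inv hc
  have hz : c * z * c⁻¹ = z := X.su.zpi hc
  have key : ∀ x, c * x * c⁻¹ * (c * a * c⁻¹) * (c * x * c⁻¹)⁻¹ = c * (x * a * x⁻¹) * c⁻¹ :=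
    fun x => by group
  have hcancel : ∀ u w, c * u * c⁻¹ = c * w * c⁻¹ ↔ u = w := fun u w =>
    ⟨fun e => mul_left_cancel (mul_right_cancel e), fun e => by rw [e]⟩
  have hzmul : ∀ u, c * u * c⁻¹ * z = c * (u * z) * c⁻¹ := fun u => by
    conv_lhs => rw [← hz]
    group
  have hC : CritP z Q (c * a * c⁻¹) ↔ CritP z Q a := by
    constructor
    · intro hh x hx hx'
      have := hh (c * x * c⁻¹) (X.su.conj_mem hc hx)
      rw [key, hzmul, hcancel, hcancel] at this
      exact this hx'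
    · intro hh x hx hx'
      obtain ⟨x', hx'', rfl⟩ : ∃ x' ∈ Q, c * x' * c⁻¹ = x :=
        ⟨c⁻¹ * x * c, by simpa using X.su.conj_mem hci hx, by group⟩
      rw [key, hzmul, hcancel, hcancel] at hx'
      rw [key, hcancel]
      exact hh x' hx'' hx'
  rw [← hI, h', hC]

end Base

namespace Four

variable (X : Four z Q π ρ s g) {r : Fin 6 → G} (hr : RSys z Q π ρ s g r) {a : Fin 4 → G}
  (ha : TSys Q π a)
include X hr ha

theorem tr_lt (k : Fin 4) (y : ℕ) : tr k y < 2048 := lin_lt _ (transL_lt k) y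

theorem tq_lt {y : ℕ} (hy : y < 2048) (v : ℕ) : tq v y < 2048 := by
  have h : ∀ (k : Fin 4) (n : ℕ), (k : ℕ) = n → ∀ (b : Bool) (y : ℕ), y < 2048 →
      (bif b then tr n y else y) < 2048 := fun k n hn b y hy => by
    subst hn
    cases b
    · exact hy
    · exact X.tr_lt hr ha k y
  exact h 3 3 rfl _ _ (h 2 2 rfl _ _ (h 1 1 rfl _ _ (h 0 0 rfl _ _ hy)))

theorem tq_om {y : ℕ} (hy : y < 2048) (v : ℕ) : om (tq v y) = om y := by
  obtain ⟨hm, -⟩ := X.tv_spec hr ha v
  have h1 := X.base.rad_eg hr hy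
  have h2 := X.base.rad_eg hr (X.tq_lt hr ha hy v)
  rw [← X.tq_conj hr ha v y] at h2
  have hA := h1.1
  have hz := X.base.su.Qz hm
  have hρ : ∀ u, ρ (tv a v * eg z s r y * (tv a v)⁻¹) u = ρ (eg z s r y) u := fun u => by
    rw [X.base.su.rho_mul (X.base.su.comm_mul hz (X.base.Az hA)) (X.base.su.comm_inv hz),
      X.base.su.rho_mul hz (X.base.Az hA), X.base.su.rho_Q (inv_mem hm), X.base.su.rho_Q hm]
  have hb : ∀ n, om n < 64 ∨ 2048 ≤ n := fun n => by unfold om; omega
  have ho : om (tq v y) < 64 := (hb _).resolve_right (by have := X.tq_lt hr ha hy v; omega)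
  have ho' : om y < 64 := (hb _).resolve_right (by omega)
  have h0 := om_inj ⟨om (tq v y) ^^^ om y, Nat.xor_lt_two_pow (n := 6) ho ho'⟩ fun k => by
    have e := hρ (Fv k)
    rw [h1.2, h2.2] at e
    rw [omV_xor, add_left_cancel e, CoT.add_self]
  exact Nat.xor_eq_zero_iff.1 (congrArg Fin.val h0)

theorem crit_iff {y : ℕ} (hy : y < 2048) (ho : om y ≠ 0) :
    crit y = true ↔ CritP z Q (eg z s r y) := by
  have hb : Nat.beq (om y) 0 = false := by
    cases h : Nat.beq (om y) 0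
    · rfl
    · exact absurd (Nat.eq_of_beq_eq_true h) ho
  have hlt : ∀ v, (tq v y ^^^ y) / 32 = 0 := fun v => by
    have h : (tq v y ^^^ y) / 2 ^ 5 = tq v y / 2 ^ 5 ^^^ y / 2 ^ 5 := by
      refine Nat.eq_of_testBit_eq fun i => ?_
      rw [Nat.testBit_div_two_pow, Nat.testBit_xor, Nat.testBit_xor, Nat.testBit_div_two_pow,
        Nat.testBit_div_two_pow]
    have e : tq v y / 32 = y / 32 := X.tq_om hr ha hy v
    simpa [e] using h
  have key : ∀ v, wpart (tq v y ^^^ y) = 0 ↔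
      (eg z s r (tq v y) = eg z s r y ∨ eg z s r (tq v y) = eg z s r y * z) := by
    intro v
    have hl := hlt v
    have hd : tq v y ^^^ y < 2048 := Nat.xor_lt_two_pow (n := 11) (X.tq_lt hr ha hy v) hy
    have hsplit : wpart (tq v y ^^^ y) = 0 ↔ tq v y ^^^ y = 0 ∨ tq v y ^^^ y = 1 := by
      unfold wpart; omega
    have e : eg z s r (tq v y) = eg z s r y * eg z s r (tq v y ^^^ y) := by
      rw [← X.eg_xor hr, Nat.xor_comm (tq v y) y, ← Nat.xor_assoc, Nat.xor_self, Nat.zero_xor]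
    rw [hsplit, e, mul_eq_left, mul_right_inj]
    constructor
    · rintro (h | h) <;> rw [h]
      · exact Or.inl (ev_zero _)
      · exact Or.inr (X.eg_z hr)
    · rintro (h | h)
      · exact Or.inl (X.base.eg_one hr hd h)
      · exact Or.inr (X.eg_inj hr hd (by norm_num) (h.trans (X.eg_z hr).symm))
  rw [crit, hb, cond_false, List.all_eq_true]
  simp only [List.mem_range, Bool.or_eq_true, Bool.not_eq_true', Nat.beq_eq_true_eq]
  constructor
  · intro h x hx hx'
    obtain ⟨v, hv, hcv⟩ := X.Q_translation hr ha hx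
    rw [hcv] at hx' ⊢
    rcases h v hv with h' | h'
    · have := (key v).2 hx'
      simp [this] at h'
    · rw [Nat.eq_of_beq_eq_true h']
  · intro h v hv
    by_cases hw : wpart (tq v y ^^^ y) = 0
    · right
      suffices e : tq v y = y by rw [e]; simp
      refine X.eg_inj hr (X.tq_lt hr ha hy v) hy ?_
      rw [← X.tq_conj hr ha v y]
      exact h _ (X.tv_spec hr ha v).1 (by rw [X.tq_conj hr ha v y]; exact (key v).1 hw)
    · left
      cases hb' : Nat.beq (wpart (tq v y ^^^ y)) 0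
      · rfl
      · exact absurd (Nat.eq_of_beq_eq_true hb') hw

theorem first_good : Good z Q ρ s 1 := by
  intro t ht
  obtain ⟨⟨y, hy⟩, rfl⟩ := X.base.eg_surj hr ht.1
  simp only at ht ⊢
  have h1 := X.base.rad_eg hr hy
  have ho : om y = 1 := by
    have hlt : om y < 64 := by unfold om; omega
    have h0 := om_inj ⟨om y ^^^ 1, Nat.xor_lt_two_pow (n := 6) hlt (by norm_num)⟩ fun k => by
      have e := h1.2 (Fv k)
      rw [ht.2] at e
      rw [omV_xor, ← add_left_cancel e, CoT.add_self]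
    exact Nat.xor_eq_zero_iff.1 (congrArg Fin.val h0)
  have hyr : 32 ≤ y ∧ y < 64 := by unfold om at ho; omega
  have hcr : crit y = (!(Nat.testBit y 3) && !(Nat.testBit y 4)) := by
    simpa using List.all_eq_true.1 crit_first y (List.mem_range'_1.2 ⟨hyr.1, by omega⟩)
  rw [← X.crit_iff hr ha hy (by omega), hcr]
  -- the decomposition
  set w := y - 32 with hw
  have hwy : y = w + 32 * 1 := by omega
  have hy2 := Base.eg_split (z := z) (s := s) (r := r) w 1 (by omega)
  rw [← hwy, show ev [r 0, r 1, r 2, r 3, r 4, r 5] 1 = r 0 by simp [ev]] at hy2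
  obtain ⟨hdQ, hdp⟩ := X.base.low_spec w
  have hbits : ∀ k < 5, bitF w k = bitF y k := fun k hk => by
    unfold bitF
    congr 1
    rw [Nat.testBit_eq_decide_div_mod_eq, Nat.testBit_eq_decide_div_mod_eq, hwy]
    congr 2
    interval_cases k <;> omega
  have X0 := X.fr 0
  set d := ev [z, s 0, s 1, s 2, s 3] w
  have hdW : bil (π d) (π (s 0)) = 0 := by
    rw [hdp, X.se]; simp only [bil_add_left, bil_sm_left, E_bil, mul_zero, add_zero]
  have hdA : d ∈ hA Q (s 0) := X0.mem_A.2 ⟨hdQ, hdW⟩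
  have hb : r 0 ∈ hB z Q (g 0) := (hr 0).1.1
  have hv : Vec π ρ (s 0) (r 0) e1 := (hr 0).1.2
  have hsq := X.eg_sq hr y
  have hne : eg z s r y ≠ 1 := fun e => by have := X.base.eg_one hr hy e; omega
  have hb3 : (!(Nat.testBit y 3) && !(Nat.testBit y 4)) = true ↔ bitF y 3 = 0 ∧ bitF y 4 = 0 := by
    unfold bitF
    cases Nat.testBit y 3 <;> cases Nat.testBit y 4 <;> simp
  rw [hb3]
  by_cases h34 : bitF y 3 = 0 ∧ bitF y 4 = 0
  · refine iff_of_true ?_ h34
    rw [hbits 1 (by norm_num), hbits 2 (by norm_num), hbits 3 (by norm_num), hbits 4 (by norm_num),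
      h34.1, h34.2, sm_zero, sm_zero, add_zero, add_zero] at hdp
    have hb1 : ∀ c : F, Eqv (π (s 0)) (sm c (E 0)) 0 := fun c => by
      rw [X.se]
      rcases F_cases c with rfl | rfl
      · rw [sm_zero]; exact Eqv.refl _ _
      · rw [sm_one]; exact Or.inr (zero_add _).symm
    rcases F_cases (bitF y 2) with h2 | h2
    · rw [h2, sm_zero, add_zero] at hdp
      refine X0.conj_map (k := g 0) ?_ hsq hne
      have hE := X0.A_diff (one_mem _) hdA (by rw [X.base.su.pi_one, hdp]; exact (hb1 _).symm)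
      rw [inv_one, one_mul] at hE
      rw [hy2]
      exact mul_mem hE.2 hb.1
    · rw [h2, sm_one] at hdp
      have hev : Eqv (π (s 0)) (π d) e1 := by
        rw [hdp]
        have := (hb1 (bitF y 1)).add (Eqv.refl (π (s 0)) (E 1))
        rwa [zero_add] at this
      obtain ⟨k, hk⟩ := X0.third_conj hdA hb hv hev
      rw [← hy2] at hk
      exact X0.conj_map hk hsq hne
  · refine iff_of_false (fun hconj => ?_) h34
    rw [hbits 1 (by norm_num), hbits 2 (by norm_num), hbits 3 (by norm_num), hbits 4 (by norm_num)] at hdp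
    change π d = sm (bitF y 1) e0 + sm (bitF y 2) e1 + sm (bitF y 3) e2 + sm (bitF y 4) e3 at hdp
    obtain ⟨hq, hp0, hp1, hn0, hn1, hn2, hn3⟩ := first_facts (bitF y 1) (bitF y 2) (bitF y 3) (bitF y 4) h34
    obtain ⟨qe1, e10, e20, e1n, e1e0⟩ := e1_facts
    rw [← hdp] at hq hp0 hp1 hn0 hn1 hn2 hn3
    obtain ⟨f, hf, hfe, hfa, hfv⟩ := move_tpair hq hp0 qe1 e10 hp1 hn0 hn1 e1n e1e0 hn2 hn3
    have se0 : π (s 0) = e0 := X.se 0
    obtain ⟨aT, haT, paT⟩ := X0.exists_A (v := e1) (by rw [se0, e10])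
    obtain ⟨bT, hbT, vbT⟩ := X0.exists_B (v := e2) (by rw [se0, e20])
    obtain ⟨h, -, hh⟩ := X0.pair_conj hdA hb hv haT hbT paT vbT hf (by rw [se0, hfe]) hfa hfv
      (fun c d => by rw [se0]; exact (shift_all c d).2)
    have P : Pr z Q π ρ (s 0) (g 0) aT bT e1 e2 := ⟨X0, se0, haT, hbT, paT, vbT, lin_t⟩
    refine P.not_conj_z (hconj.trans (isConj_iff.2 ⟨h, ?_⟩))
    rw [hy2]; exact hh

theorem low_good : ∀ (n : ℕ), n ≤ 4 → ∀ o ∈ levels.getD n [], Good z Q ρ s o
  | 0, _, o, ho => by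
    simp only [levels, List.getD_cons_zero, List.mem_singleton] at ho
    rw [ho]; exact X.first_good hr ha
  | n + 1, hn, o, ho => by
    obtain ⟨hlt, h | ⟨t, h⟩⟩ := levels_step ⟨n, by omega⟩ o ho
    · exact low_good n (by omega) o h
    · exact X.base.good_step t hlt (low_good n (by omega) _ h)

/-- The criterion on the elements of rank at most two. -/
theorem crit_conj {y : ℕ} (hy : y < 2048) (hlow : low y = true) :
    IsConj z (eg z s r y) ↔ critT y = true := by
  have htab : crit y = critT y := by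
    have h := List.all_eq_true.1 crit_table y (List.mem_range.2 hy)
    simpa [hlow] using h
  rw [← htab]
  by_cases ho : om y = 0
  · have hc : crit y = !(Nat.beq y 0) := by rw [crit, ho]; rfl
    rw [hc]
    by_cases hy0 : y = 0
    · subst hy0
      refine iff_of_false (fun h => ?_) (by simp)
      rw [show eg z s r 0 = 1 from ev_zero _] at h
      obtain ⟨k, hk⟩ := isConj_iff.1 h
      exact X.base.su.loc.ne_one (conj_eq_one_iff.1 hk)
    · refine iff_of_true ?_ ?_
      · have h32 : y < 32 := by unfold om at ho; omega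
        have hs := Base.eg_split (z := z) (s := s) (r := r) y 0 h32
        rw [mul_zero, add_zero, ev_zero, mul_one] at hs
        exact (X.fr 0).Q_invol (hs ▸ (X.base.low_spec y).1) (X.eg_sq hr y)
          fun e => hy0 (X.base.eg_one hr hy e)
      · cases h : Nat.beq y 0
        · rfl
        · exact absurd (Nat.eq_of_beq_eq_true h) hy0
  · have hlt : om y < 64 := by unfold om; omega
    have hl2 : low (32 * om y) = true := by
      have := List.all_eq_true.1 low_split y (List.mem_range.2 hy)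
      simpa [hlow] using this
    rw [X.crit_iff hr ha hy ho]
    exact X.low_good hr ha 4 le_rfl (om y) (levels_cover ⟨om y, hlt⟩ hl2 ho) _ (X.base.rad_eg hr hy)

end Four

end Cfsg.Agent.CoM24
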