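import Cfsg.Agent.Lib.CoM24.Swap
import Cfsg.Agent.Lib.CoM24.Crit

/-!
The exchange as a linear map on the coordinates, up to a few parameters.
-/

set_option autoImplicit false
set_option linter.style.haveILetI false
set_option linter.unusedSectionVars false
set_option maxRecDepth 20000
set_option synthInstance.maxSize 4000
set_option synthInstance.maxHeartbeats 400000

namespace Cfsg.Agent.CoM24

open Cfsg.Agent.CoT Subgroup LargeExtra

local notation "F" => ZMod 2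

/-- The last three pairs. -/
def p3 (k : Fin 3) : Fin 6 := ⟨k.val + 3, by omega⟩

/-- The point outside a pair. -/
def mm : Fin 3 → Fin 4 := ![3, 2, 1]

/-- The first parameters from the three images. -/
def pqOf (u v w : ℕ) : ℕ := u / 2 + 2 * (v / 2) + 4 * (w / 2) + 8 * (u % 2) + 16 * (v % 2) + 32 * (w % 2)

theorem pq_ok : ∀ u v w : Fin 4, pqOf u v w < 64 ∧
    (4 ^^^ lin [2, 0, 0, 1, 0, 0] (pqOf u v w)) = (4 ^^^ (u : ℕ)) ∧
    (8 ^^^ lin [0, 2, 0, 0, 1, 0] (pqOf u v w)) = (8 ^^^ (v : ℕ)) ∧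
    (16 ^^^ lin [0, 0, 2, 0, 0, 1] (pqOf u v w)) = (16 ^^^ (w : ℕ)) := by decide +kernel

theorem first_word : ∀ j : Fin 3, ∀ w : Fin 32,
    (∀ k : Fin 3, bitF w ((k : ℕ) + 2) = if k = j then 1 else 0) →
    (w : ℕ) = 2 ^ (2 + (j : ℕ)) ^^^ (w : ℕ) % 4 := by decide +kernel

theorem conj_class_bound : ((List.range' 256 32).all fun y =>
    low y && (!(critT y) || !(Nat.testBit y 4))) = true := by decide +kernel

theorem perm_words : (gv 8 (gv 11 (gv 8 f3)) = f2 ∧ act 8 (act 11 (act 8 8)) = 16) ∧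
    (gv 5 (gv 10 (gv 5 f3)) = f1 ∧ act 5 (act 10 (act 5 8)) = 32) := by decide +kernel

theorem gv_e0 : gv 8 e0 = e0 ∧ gv 11 e0 = e0 ∧ gv 5 e0 = e0 ∧ gv 10 e0 = e0 := by decide +kernel

theorem cross_omV : ∀ k : Fin 6, ∀ b : Bool,
    omV (2 ^ (k : ℕ)) (Fv (sel k b).1) = E (sel k b).2 := by decide +kernel

theorem p3_sel : ∀ k : Fin 3, ∀ b : Bool, (sel (p3 k) b).1 ≠ 0 ∧ (sel (p3 k) b).2 ≠ 0 := by decide

/-- One of the last three rows of the exchange. -/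
def rowC : ℕ → ℕ → ℕ
  | 0, X => 256 ^^^ 128 ^^^ 16 ^^^ freeX X 1 4 8 32 64
  | 1, X => 512 ^^^ 64 ^^^ 8 ^^^ freeX X 1 4 16 32 128
  | _, X => 1024 ^^^ 32 ^^^ 4 ^^^ freeX X 1 8 16 64 128

/-- The conditions on an image. -/
def condR (k : Fin 3) (y : ℕ) : Bool :=
  Nat.beq ((tr (sel (p3 k) false).1 y ^^^ y) / 4) (2 ^ (1 + ((sel (p3 k) false).2 : ℕ)) / 4) &&
    Nat.beq ((tr (sel (p3 k) true).1 y ^^^ y) / 4) (2 ^ (1 + ((sel (p3 k) true).2 : ℕ)) / 4) &&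
    Nat.beq (tr (mm k) y ^^^ y) 2

theorem cond_rows : ∀ k : Fin 3, ((List.range 2048).all fun y => !(condR k y) ||
    (List.range 32).any fun X => Nat.beq y (rowC k X) || Nat.beq y (rowC k X ^^^ 2)) = true := by
  decide +kernel

/-- The change of coordinates by signs. -/
def signL (c : Fin 3 → Fin 2) : List ℕ :=
  [1, 2, 4, 8, 16, 32, 64, 128, 256 ^^^ (c 0 : ℕ), 512 ^^^ (c 1 : ℕ), 1024 ^^^ (c 2 : ℕ)]

theorem sign_rows : ∀ k : Fin 3, ∀ X : Fin 32, ∀ a b d : Fin 2,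
    (X : ℕ) ^^^ ((![a, b, d] k : Fin 2) : ℕ) < 32 ∧
    lin (signL ![a, b, d]) (rowC k ((X : ℕ) ^^^ ((![a, b, d] k : Fin 2) : ℕ))) = rowC k X := by
  decide +kernel

theorem sign_low : ∀ a b d : Fin 2, ∀ y : Fin 256, lin (signL ![a, b, d]) y = y := by decide +kernel

theorem swapL_eq (u v w pq X0 X1 X2 : ℕ) (h0 : 4 ^^^ lin [2, 0, 0, 1, 0, 0] pq = 4 ^^^ u)
    (h1 : 8 ^^^ lin [0, 2, 0, 0, 1, 0] pq = 8 ^^^ v) (h2 : 16 ^^^ lin [0, 0, 2, 0, 0, 1] pq = 16 ^^^ w) :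
    swapL pq X0 X1 X2 = [2, 1, 32, 64, 128, 4 ^^^ u, 8 ^^^ v, 16 ^^^ w, rowC 0 X0, rowC 1 X1, rowC 2 X2] := by
  rw [swapL, h0, h1, h2]
  rfl

variable {G : Type*} [Group G] [Finite G] {z : G} {Q : Subgroup G} {π : G → V} {ρ : G → V → V}
  {s g : Fin 4 → G}

/-- Conjugates of the central involution in one class move the dual vector by the central involution. -/
def CLv (z : G) (Q : Subgroup G) (π : G → V) (ρ : G → V → V) (s g : Fin 4 → G) (o : ℕ) (v : V) : Prop :=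
  ∀ w ∈ hB z Q (g 0), Vec π ρ (s 0) w v → ∀ r', Rad z ρ s r' o → IsConj z r' → w * r' * w⁻¹ = r' * z

namespace Four

variable (X : Four z Q π ρ s g) {r : Fin 6 → G} (hr : RSys z Q π ρ s g r) {a : Fin 4 → G}
  (ha : TSys Q π a)
include X hr ha

theorem om_eq {y o : ℕ} (hy : y < 2048) (ho : o < 64) (h : Rad z ρ s (eg z s r y) o) : om y = o := by
  have hlt : om y < 64 := by unfold om; omega
  have h0 := om_inj ⟨om y ^^^ o, Nat.xor_lt_two_pow (n := 6) hlt ho⟩ fun k => by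
    have e := (X.base.rad_eg hr hy).2 (Fv k)
    rw [h.2] at e
    rw [omV_xor, ← add_left_cancel e, CoT.add_self]
  exact Nat.xor_eq_zero_iff.1 (congrArg Fin.val h0)

theorem cl_base : CLv z Q π ρ s g 8 f3 := by
  intro w hw hv r' hr' hc
  obtain ⟨⟨y, hy⟩, rfl⟩ := X.base.eg_surj hr hr'.1
  simp only at hr' hc ⊢
  have ho := X.om_eq hr ha hy (by norm_num) hr'
  have hyr : 256 ≤ y ∧ y < 288 := by unfold om at ho; omega
  have hb := List.all_eq_true.1 conj_class_bound y (List.mem_range'_1.2 ⟨hyr.1, by omega⟩)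
  simp only [Bool.and_eq_true, Bool.or_eq_true, Bool.not_eq_true'] at hb
  have h4 : Nat.testBit y 4 = false := hb.2.resolve_left fun e => by
    rw [(X.crit_conj hr ha hy hb.1).1 hc] at e
    exact Bool.noConfusion e
  set d := y - 256 with hd
  have hyd : y = d + 32 * 8 := by omega
  have hspl := Base.eg_split (z := z) (s := s) (r := r) d 8 (by omega)
  rw [← hyd, show ev [r 0, r 1, r 2, r 3, r 4, r 5] 8 = r 3 by simp [ev]] at hspl
  obtain ⟨hdQ, hdp⟩ := X.base.low_spec d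
  have hd4 : bitF d 4 = 0 := by
    have : Nat.testBit d 4 = false := by
      rw [← h4, Nat.testBit_eq_decide_div_mod_eq, Nat.testBit_eq_decide_div_mod_eq]
      congr 2
      omega
    simp [bitF, this]
  have hdA : ev [z, s 0, s 1, s 2, s 3] d ∈ hA Q (s 0) := (X.fr 0).mem_A.2 ⟨hdQ, by
    rw [hdp, X.se]; simp only [bil_add_left, bil_sm_left, E_bil, mul_zero, add_zero]⟩
  have hcm := (X.fr 0).conj_rule hdA hw hv
  rw [hdp, show bil (sm (bitF d 1) (E 0) + sm (bitF d 2) (E 1) + sm (bitF d 3) (E 2) + sm (bitF d 4) (E 3)) f3 = 0 by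
    rw [hd4, sm_zero, add_zero]
    simp only [bil_add_left, bil_sm_left]
    rw [show bil (E 0) f3 = 0 by decide +kernel, show bil (E 1) f3 = 0 by decide +kernel,
      show bil (E 2) f3 = 0 by decide +kernel]
    simp, zb_zero, zb_zero, one_mul, one_mul] at hcm
  have hmu := X.mu f3 f3_facts.1 f3_facts.2.1 f3_facts.2.2.1 w hw hv (r 3) (hr 3).1.1 (hr 3).1.2
  rw [f3_facts.2.2.2.1, zb_one] at hmu
  have hr3z := X.base.Az (X.base.rad_r hr 3).1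
  have hwz := ((X.fr 0).B_comm hw).1
  have hm : w * r 3 * w⁻¹ = r 3 * z := by
    have e1 : r 3 * w = w * z * r 3 := mul_inv_eq_iff_eq_mul.1 hmu
    have e2 : r 3 * w = w * (r 3 * z) := by rw [e1, mul_assoc, hr3z]
    have hzi : z⁻¹ = z := inv_eq_of_mul_eq_one_right X.base.su.loc.sq
    calc w * r 3 * w⁻¹ = w * (r 3 * z) * z⁻¹ * w⁻¹ := by group
      _ = r 3 * (w * z) * w⁻¹ := by rw [← e2, hzi]; group
      _ = r 3 * z := by rw [hwz, ← mul_assoc, mul_inv_cancel_right]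
  rw [hspl]
  set u := ev [z, s 0, s 1, s 2, s 3] d
  calc w * (u * r 3) * w⁻¹ = w * u * w⁻¹ * (w * r 3 * w⁻¹) := by group
    _ = u * r 3 * z := by rw [hcm, hm, mul_assoc]

omit hr ha in
theorem cl_step (t : Fin 12) (ht : gv t e0 = e0) {o : ℕ} (ho : o < 64) {v : V}
    (h : CLv z Q π ρ s g o v) : CLv z Q π ρ s g (act t o) (gv t v) := by
  intro w hw hv r' hr' hc
  have hi : bil (Fv (gp t).2) (E (gp t).1) = 0 := FE_ne (gv_facts t).1.symm
  obtain ⟨c, hcz, hcs, hρ⟩ := (X.fr 0).lift_fix (isOm_sg (E_sing (gp t).1).1 hi) (by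
    rw [X.se]; exact ht)
  have hρ' : ρ c = gv t := hρ
  have hn := X.base.norm_AA hcz fun i m => by rw [hρ']; exact (gv_facts t).2 i m
  obtain ⟨hw', hv'⟩ := (X.fr 0).conj_B hcz hcs hw hv
  rw [hρ', X.base.gv_gv] at hv'
  have hr'' := X.base.rad_conj (act_ok t ⟨o, ho⟩).1 hcz hρ' hn hr'
  rw [show act t (act t o) = o from act_invol t ⟨o, ho⟩] at hr''
  have e := h _ hw' hv' _ hr'' (hc.trans (isConj_iff.2 ⟨c, rfl⟩))
  have hzc : c⁻¹ * z * c = z := by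
    rw [mul_assoc, ← hcz, inv_mul_cancel_left]
  calc w * r' * w⁻¹ = c⁻¹ * (c * w * c⁻¹ * (c * r' * c⁻¹) * (c * w * c⁻¹)⁻¹) * c := by group
    _ = c⁻¹ * (c * r' * c⁻¹ * z) * c := by rw [e]
    _ = r' * (c⁻¹ * z * c) := by group
    _ = r' * z := by rw [hzc]

theorem cl_all (k : Fin 3) : CLv z Q π ρ s g (2 ^ ((p3 k : Fin 6) : ℕ)) (Fv (mm k)) := by
  obtain ⟨⟨v2, o2⟩, ⟨v1, o1⟩⟩ := perm_words
  obtain ⟨h8, h11, h5, h10⟩ := gv_e0
  have b := X.cl_base hr ha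
  fin_cases k
  · exact b
  · have c1 := X.cl_step 8 h8 (by norm_num) b
    have c2 := X.cl_step 11 h11 (act_ok 8 ⟨8, by norm_num⟩).1 c1
    have c3 := X.cl_step 8 h8 (act_ok 11 ⟨_, (act_ok 8 ⟨8, by norm_num⟩).1⟩).1 c2
    rw [v2, o2] at c3
    exact c3
  · have c1 := X.cl_step 5 h5 (by norm_num) b
    have c2 := X.cl_step 10 h10 (act_ok 5 ⟨8, by norm_num⟩).1 c1
    have c3 := X.cl_step 5 h5 (act_ok 10 ⟨_, (act_ok 5 ⟨8, by norm_num⟩).1⟩).1 c2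
    rw [v1, o1] at c3
    exact c3

theorem r_conj (k : Fin 6) : IsConj z (r k) := by
  refine (X.fr (pr k).1).conj_map (k := g (pr k).1) (hr k).1.1.1 (X.r_sq hr k) fun e => ?_
  rw [← X.eg_r hr] at e
  have := X.base.eg_one hr (show 2 ^ (5 + (k : ℕ)) < 2048 from
    lt_of_lt_of_le (Nat.pow_lt_pow_right (by norm_num) (show 5 + (k : ℕ) < 11 by omega)) (by norm_num)) e
  exact absurd this (pow_ne_zero _ (by norm_num))

theorem E_coord {d : G} (hd : d ∈ Q ⊓ Q₁ Q (g 0)) : ∃ v : Fin 4, d = eg z s r v := by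
  have h2 : eg z s r 2 = s 0 := X.eg_s hr 0
  rcases (X.fr 0).mem_inter.1 hd with e | e | e | e
  · exact ⟨0, e.trans (ev_zero _).symm⟩
  · exact ⟨1, e.trans (X.eg_z hr).symm⟩
  · exact ⟨2, e.trans h2.symm⟩
  · refine ⟨3, e.trans ?_⟩
    show s 0 * z = eg z s r (2 ^^^ 1)
    rw [X.eg_xor hr, h2, X.eg_z hr]

variable {n : G} (N : Sw z Q π ρ s g r a n)
include N

theorem n_zb (c : F) : n * zb z c * n⁻¹ = zb (s 0) c ∧ n * zb (s 0) c * n⁻¹ = zb z c :=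
  ⟨by rw [conj_zb, N.swap.1], by rw [conj_zb, N.swap.2]⟩

theorem first_image (j : Fin 3) :
    ∃ u : Fin 4, n * r (p0 j) * n⁻¹ = eg z s r (2 ^ (2 + (j : ℕ)) ^^^ (u : ℕ)) := by
  have X0 := X.fr 0
  have hrj := (hr (p0 j)).1
  rw [pr_p0] at hrj
  set Y := n * r (p0 j) * n⁻¹ with hY
  have hYA : Y ∈ hA Q (s 0) := X0.swap_B N.swap.1 N.swap.2 hrj.1
  have hYW := (X.base.mem_Q hYA.1).1 ((mem_normalizer_iff.1 N.norm _).1 (X.base.rad_r hr (p0 j)).1)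
  obtain ⟨w, hw⟩ := X.base.low_surj hYA.1 hYW
  have hbit : ∀ k : Fin 3, bil (Fv k.succ) (π Y) = if k = j then 1 else 0 := by
    intro k
    obtain ⟨wk, hwk, hvk, hak⟩ := N.w k
    have h1 := X0.B_rule hrj.1 hwk hrj.2 hvk
    set β := bil (E j.succ) (Fv k.succ) with hβ
    have h2 : a k.succ * Y = Y * a k.succ * zb z β := by
      calc a k.succ * Y = n * (wk * r (p0 j)) * n⁻¹ := by rw [← hak, hY]; group
        _ = n * (r (p0 j) * wk * zb (s 0) β) * n⁻¹ := by rw [h1]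
        _ = n * r (p0 j) * n⁻¹ * (n * wk * n⁻¹) * (n * zb (s 0) β * n⁻¹) := by group
        _ = _ := by rw [hak, (X.n_zb hr ha N β).2]
    have h3 := X.base.su.rule (ha k.succ).1 hYA.1
    rw [h2] at h3
    have h4 := mul_left_cancel h3
    have h5 : β = bil (π (a k.succ)) (π Y) :=
      (X0.zb_inj (c := β) (d := 0) (c' := bil (π (a k.succ)) (π Y)) (d' := 0) (by rw [h4])).1
    rw [(ha _).2] at h5
    rw [← h5, hβ, bil_comm, FE_bil]
    exact if_congr Fin.succ_inj rfl rfl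
  obtain ⟨-, hp⟩ := X.base.low_spec w
  rw [← hw] at hp
  have hw' := first_word j w fun k => by
    rw [← hbit k, hp]
    fin_cases k <;> simp [bil_add_right, bil_sm_right, FE_bil]
  refine ⟨⟨(w : ℕ) % 4, Nat.mod_lt _ (by norm_num)⟩, ?_⟩
  rw [hw]
  simp only
  rw [← hw']
  have hs := Base.eg_split (z := z) (s := s) (r := r) (w : ℕ) 0 w.2
  rw [mul_zero, add_zero, ev_zero, mul_one] at hs
  exact hs.symm

theorem cross_image (k : Fin 3) (b : Bool) {y : ℕ} (hy : y < 2048)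
    (hX : n * r (p3 k) * n⁻¹ = eg z s r y) :
    (tr (sel (p3 k) b).1 y ^^^ y) / 4 = 2 ^ (1 + ((sel (p3 k) b).2 : ℕ)) / 4 := by
  have X0 := X.fr 0
  obtain ⟨hi, hj⟩ := p3_sel k b
  obtain ⟨i', hi'⟩ := (succ_cases _).resolve_left hi
  obtain ⟨j', hj'⟩ := (succ_cases _).resolve_left hj
  rw [hi', hj']
  obtain ⟨w, hw, hv, hwa⟩ := N.w i'
  have hRr := X.base.rad_r hr (p3 k)
  obtain ⟨hc, hcv⟩ := X0.conj_B (X.base.Az hRr.1) ((mem_AA.1 hRr.1).2 0) hw hv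
  rw [hRr.2, ← hi', cross_omV, hi', hj'] at hcv
  have hrj := (hr (p0 j')).1
  rw [pr_p0] at hrj
  have he := X0.B_diff (mul_mem hw hrj.1) hc (X0.vec_mul hw hrj.1 hv hrj.2) hcv (Eqv.refl _ _)
  obtain ⟨v, hv'⟩ := X.E_coord hr ha (X0.swap_E N.swap.1 N.swap.2 he)
  obtain ⟨u, hu⟩ := X.first_image hr ha N j'
  have e1 : eg z s r y * a i'.succ * (eg z s r y)⁻¹ =
      a i'.succ * eg z s r ((2 ^ (2 + (j' : ℕ)) ^^^ (u : ℕ)) ^^^ (v : ℕ)) := by
    rw [X.eg_xor hr, ← hv', ← hu, ← hX, ← hwa]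
    group
  have ha2 : a i'.succ * a i'.succ = 1 := by
    rw [X.base.su.sq _ (ha _).1, (ha _).2, (base_bil _ _ : _ ∧ _ ∧ _ ∧ q (Fv i'.succ) = 0).2.2.2, zb_zero]
    exact i'.succ
  set D := (2 ^ (2 + (j' : ℕ)) ^^^ (u : ℕ)) ^^^ (v : ℕ) with hD
  have e2 : a i'.succ * eg z s r y * (a i'.succ)⁻¹ = eg z s r (D ^^^ y) := by
    rw [X.eg_xor hr, inv_eq_of_mul_eq_one_right ha2]
    calc a i'.succ * eg z s r y * a i'.succ
        = a i'.succ * (eg z s r y * a i'.succ * (eg z s r y)⁻¹) * eg z s r y := by group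
      _ = a i'.succ * a i'.succ * eg z s r D * eg z s r y := by rw [e1]; group
      _ = eg z s r D * eg z s r y := by rw [ha2, one_mul]
  rw [X.tr_conj hr ha] at e2
  have hpow : 2 ^ (2 + (j' : ℕ)) < 2048 :=
    lt_of_lt_of_le (Nat.pow_lt_pow_right (by norm_num) (show 2 + (j' : ℕ) < 11 by omega)) (by norm_num)
  have hu4 := u.2
  have hv4 := v.2
  have hDlt : D < 2048 := Nat.xor_lt_two_pow (n := 11) (Nat.xor_lt_two_pow (n := 11) hpow (by omega)) (by omega)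
  have e3 : tr i'.succ y = D ^^^ y :=
    X.eg_inj hr (X.tr_lt hr ha _ _) (Nat.xor_lt_two_pow (n := 11) hDlt hy) e2
  rw [e3, Nat.xor_assoc, Nat.xor_self, Nat.xor_zero, hD,
    show 1 + ((j'.succ : Fin 4) : ℕ) = 2 + (j' : ℕ) by simp; omega]
  have h4 : ∀ p : ℕ, ∀ q : ℕ, q < 4 → (p ^^^ q) / 4 = p / 4 := fun p q hq => by
    have : (p ^^^ q) / 2 ^ 2 = p / 2 ^ 2 ^^^ q / 2 ^ 2 := by
      refine Nat.eq_of_testBit_eq fun i => ?_
      rw [Nat.testBit_div_two_pow, Nat.testBit_xor, Nat.testBit_xor, Nat.testBit_div_two_pow,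
        Nat.testBit_div_two_pow]
    simpa [show q / 4 = 0 by omega] using this
  rw [h4 _ _ hv4, h4 _ _ hu4]

theorem middle_image (k : Fin 3) {y : ℕ} (hy : y < 2048)
    (hX : n * r (p3 k) * n⁻¹ = eg z s r y) : tr (mm k) y ^^^ y = 2 := by
  obtain ⟨k', hk'⟩ := (succ_cases (mm k)).resolve_left ((by decide : ∀ k, mm k ≠ 0) k)
  obtain ⟨w, hw, hv, hwa⟩ := N.w k'
  rw [← hk'] at hv hwa
  have e := X.cl_all hr ha k w hw hv _ (X.base.rad_r hr (p3 k)) (X.r_conj hr ha (p3 k))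
  have h2 : a (mm k) * eg z s r y * (a (mm k))⁻¹ = eg z s r (y ^^^ 2) := by
    rw [X.eg_xor hr, show eg z s r 2 = s 0 from X.eg_s hr 0, ← hX, ← hwa, ← N.swap.1]
    calc n * w * n⁻¹ * (n * r (p3 k) * n⁻¹) * (n * w * n⁻¹)⁻¹ = n * (w * r (p3 k) * w⁻¹) * n⁻¹ := by group
      _ = n * (r (p3 k) * z) * n⁻¹ := by rw [e]
      _ = _ := by group
  rw [X.tr_conj hr ha] at h2
  rw [X.eg_inj hr (X.tr_lt hr ha _ _) (Nat.xor_lt_two_pow (n := 11) hy (by norm_num)) h2,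
    Nat.xor_comm y 2, Nat.xor_assoc, Nat.xor_self, Nat.xor_zero]

theorem last_image (k : Fin 3) : ∃ (X' : Fin 32) (c : Fin 2),
    n * r (p3 k) * n⁻¹ = eg z s r (rowC k X' ^^^ 2 * (c : ℕ)) := by
  obtain ⟨⟨y, hy⟩, hY⟩ := X.base.eg_surj hr ((mem_normalizer_iff.1 N.norm _).1 (X.base.rad_r hr (p3 k)).1)
  simp only at hY
  have hcond : condR k y = true := by
    unfold condR
    rw [X.cross_image hr ha N k false hy hY.symm, X.cross_image hr ha N k true hy hY.symm,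
      X.middle_image hr ha N k hy hY.symm]
    simp
  have h := List.all_eq_true.1 (cond_rows k) y (List.mem_range.2 hy)
  rw [hcond] at h
  simp only [Bool.not_true, Bool.false_or, List.any_eq_true, List.mem_range, Bool.or_eq_true] at h
  obtain ⟨x, hx, e | e⟩ := h
  · exact ⟨⟨x, hx⟩, 0, by rw [← hY, Nat.eq_of_beq_eq_true e]; simp⟩
  · exact ⟨⟨x, hx⟩, 1, by rw [← hY, Nat.eq_of_beq_eq_true e]; simp⟩

end Four

/-- The exchange on the coordinates. -/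
theorem exists_params (X : Four z Q π ρ s g) :
    ∃ (r : Fin 6 → G) (a : Fin 4 → G) (n : G) (pq x0 x1 x2 : ℕ),
      RSys z Q π ρ s g r ∧ TSys Q π a ∧ n ∈ normalizer (AA z s : Set G) ∧
      n * z * n⁻¹ = s 0 ∧ pq < 64 ∧ x0 < 32 ∧ x1 < 32 ∧ x2 < 32 ∧
      ∀ y, n * eg z s r y * n⁻¹ = eg z s r (sw pq x0 x1 x2 y) := by
  classical
  obtain ⟨r₀, a, n, hr₀, ha, N⟩ := X.exists_sw
  choose u hu using fun j => X.first_image hr₀ ha N j
  choose x c hc using fun k => X.last_image hr₀ ha N k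
  let cc : Fin 6 → F := ![0, 0, 0, ((c 0 : ℕ) : F), ((c 1 : ℕ) : F), ((c 2 : ℕ) : F)]
  set r : Fin 6 → G := fun k => r₀ k * zb z (cc k) with hrdef
  have hr : RSys z Q π ρ s g r := X.rsys_twist hr₀ cc
  have hcc : ∀ k : Fin 3, zb z (cc (p3 k)) = eg z s r₀ (c k : ℕ) ∧
      zb (s 0) (cc (p3 k)) = eg z s r₀ (2 * (c k : ℕ)) := by
    intro k
    have : cc (p3 k) = ((c k : ℕ) : F) := by fin_cases k <;> rfl
    rw [this]
    rcases (show c k = 0 ∨ c k = 1 by omega) with e | e <;> rw [e]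
    · rw [show (((0 : Fin 2) : ℕ) : F) = 0 from rfl, zb_zero, zb_zero]
      exact ⟨(ev_zero _).symm, (ev_zero _).symm⟩
    · rw [show (((1 : Fin 2) : ℕ) : F) = 1 from by simp, zb_one, zb_one]
      exact ⟨(X.eg_z hr₀).symm, (X.eg_s hr₀ 0).symm⟩
  have h0 : ∀ j : Fin 3, r (p0 j) = r₀ (p0 j) := fun j => by
    have : cc (p0 j) = 0 := by fin_cases j <;> rfl
    rw [hrdef]; simp only [this, zb_zero, mul_one]
  have hnew : ∀ y, eg z s r y = eg z s r₀ (lin (signL c) y) := by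
    intro y
    have hm : gens z s r = (signL c).map (ev (gens z s r₀)) := by
      simp only [gens, signL, List.map_cons, List.map_nil, List.cons.injEq, and_true]
      refine ⟨(X.eg_z hr₀).symm, (X.eg_s hr₀ 0).symm, (X.eg_s hr₀ 1).symm, (X.eg_s hr₀ 2).symm,
        (X.eg_s hr₀ 3).symm, (h0 0).trans (X.eg_r hr₀ 0).symm, (h0 1).trans (X.eg_r hr₀ 1).symm,
        (h0 2).trans (X.eg_r hr₀ 2).symm, ?_, ?_, ?_⟩
      · show r (p3 0) = eg z s r₀ (256 ^^^ (c 0 : ℕ))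
        rw [X.eg_xor hr₀, ← (hcc 0).1]; exact congrArg (· * _) (X.eg_r hr₀ 3).symm
      · show r (p3 1) = eg z s r₀ (512 ^^^ (c 1 : ℕ))
        rw [X.eg_xor hr₀, ← (hcc 1).1]; exact congrArg (· * _) (X.eg_r hr₀ 4).symm
      · show r (p3 2) = eg z s r₀ (1024 ^^^ (c 2 : ℕ))
        rw [X.eg_xor hr₀, ← (hcc 2).1]; exact congrArg (· * _) (X.eg_r hr₀ 5).symm
    show ev (gens z s r) y = _
    rw [hm, ev_lin (X.gens_ok hr₀).2.2 (X.gens_ok hr₀).2.1]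
    rfl
  have hc' : c = ![c 0, c 1, c 2] := by
    funext k; fin_cases k <;> rfl
  have hlow : ∀ y, y < 256 → eg z s r y = eg z s r₀ y := fun y hy => by
    rw [hnew, hc', sign_low (c 0) (c 1) (c 2) ⟨y, hy⟩]
  have hrow : ∀ k : Fin 3, (x k : ℕ) ^^^ (c k : ℕ) < 32 ∧
      n * r (p3 k) * n⁻¹ = eg z s r (rowC k ((x k : ℕ) ^^^ (c k : ℕ))) := by
    intro k
    obtain ⟨h1, h2⟩ := sign_rows k (x k) (c 0) (c 1) (c 2)
    rw [← hc'] at h1 h2
    refine ⟨h1, ?_⟩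
    rw [hnew, h2, show n * r (p3 k) * n⁻¹ = n * r₀ (p3 k) * n⁻¹ * (n * zb z (cc (p3 k)) * n⁻¹) by
        rw [hrdef]; simp only; group, hc, (X.n_zb hr₀ ha N _).1, (hcc k).2, ← X.eg_xor hr₀,
      Nat.xor_assoc, Nat.xor_self, Nat.xor_zero]
  obtain ⟨hpq, q0, q1, q2⟩ := pq_ok (u 0) (u 1) (u 2)
  refine ⟨r, a, n, pqOf (u 0) (u 1) (u 2), (x 0 : ℕ) ^^^ (c 0 : ℕ), (x 1 : ℕ) ^^^ (c 1 : ℕ),
    (x 2 : ℕ) ^^^ (c 2 : ℕ), hr, ha, N.norm, N.swap.1, hpq, (hrow 0).1, (hrow 1).1, (hrow 2).1, fun y => ?_⟩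
  have hj : ∀ j : Fin 3, n * r (p0 j) * n⁻¹ = eg z s r (2 ^ (2 + (j : ℕ)) ^^^ (u j : ℕ)) := fun j => by
    rw [h0, hu, hlow]
    refine Nat.xor_lt_two_pow (n := 8) (Nat.pow_lt_pow_right (by norm_num) (by omega)) ?_
    have := (u j).2
    omega
  have hs : ∀ j : Fin 3, n * s j.succ * n⁻¹ = eg z s r (2 ^ (5 + (j : ℕ))) := fun j => by
    rw [N.ns, ← h0]
    exact (X.eg_r hr (p0 j)).symm
  have hm : (gens z s r).map (fun b => n * b * n⁻¹) =
      (swapL (pqOf (u 0) (u 1) (u 2)) ((x 0 : ℕ) ^^^ (c 0 : ℕ)) ((x 1 : ℕ) ^^^ (c 1 : ℕ))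
        ((x 2 : ℕ) ^^^ (c 2 : ℕ))).map (ev (gens z s r)) := by
    rw [swapL_eq (u 0) (u 1) (u 2) _ _ _ _ q0 q1 q2]
    simp only [gens, List.map_cons, List.map_nil, List.cons.injEq, and_true]
    exact ⟨N.swap.1.trans (X.eg_s hr 0).symm, N.swap.2.trans (X.eg_z hr).symm, hs 0, hs 1, hs 2,
      hj 0, hj 1, hj 2, (hrow 0).2, (hrow 1).2, (hrow 2).2⟩
  show n * ev (gens z s r) y * n⁻¹ = _
  rw [ev_conj, hm, ev_lin (X.gens_ok hr).2.2 (X.gens_ok hr).2.1]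
  rfl

end Cfsg.Agent.CoM24
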