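import Cfsg.Agent.Lib.CoM24.Radical

/-!
The centraliser of the singular subgroup is elementary abelian; its automorphisms from the centraliser of the
central involution; the translations by the dual subspace.
-/

set_option autoImplicit false
set_option linter.style.haveILetI false
set_option linter.unusedSectionVars false
set_option maxRecDepth 20000
set_option synthInstance.maxSize 4000
set_option synthInstance.maxHeartbeats 400000

namespace Cfsg.Agent.CoM24

open Cfsg.Agent.CoT Subgroup LargeExtra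

local notation "F" => ZMod 2

theorem lin_lt : ∀ (L : List ℕ), (∀ a ∈ L, a < 2048) → ∀ y, lin L y < 2048
  | [], _, _ => by simp [lin]
  | a :: L, h, y => by
    simp only [lin]
    refine Nat.xor_lt_two_pow (n := 11) ?_ (lin_lt L (fun b hb => h b (List.mem_cons_of_mem _ hb)) _)
    cases Nat.testBit y 0
    · exact (by norm_num : (0 : ℕ) < 2 ^ 11)
    · exact h a List.mem_cons_self

theorem xor_half (x y : ℕ) : (x ^^^ y) / 2 = x / 2 ^^^ y / 2 := by
  refine Nat.eq_of_testBit_eq fun i => ?_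
  simp [Nat.testBit_div_two, Nat.testBit_xor]

section Ev

variable {G : Type*} [Group G]

theorem ev_xor : ∀ (l : List G), (∀ a ∈ l, ∀ b ∈ l, a * b = b * a) → (∀ a ∈ l, a * a = 1) →
    ∀ x y, ev l (x ^^^ y) = ev l x * ev l y
  | [], _, _, _, _ => by simp [ev]
  | a :: l, hc, hs, x, y => by
    have hA : ev l (x / 2) ∈ centralizer ({a} : Set G) := ev_mem (fun b hb =>
      mem_centralizer_singleton_iff.2 (hc b (List.mem_cons_of_mem _ hb) a List.mem_cons_self)) _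
    have hA' : ev l (x / 2) * a = a * ev l (x / 2) := mem_centralizer_singleton_iff.1 hA
    have ih := ev_xor l (fun u hu w hw => hc u (List.mem_cons_of_mem _ hu) w (List.mem_cons_of_mem _ hw))
      (fun u hu => hs u (List.mem_cons_of_mem _ hu)) (x / 2) (y / 2)
    simp only [ev, Nat.testBit_xor, xor_half, ih]
    cases Nat.testBit x 0 <;> cases Nat.testBit y 0 <;> simp only [Bool.false_xor, Bool.true_xor,
      Bool.not_false, Bool.not_true, if_true, Bool.false_eq_true, if_false, one_mul, mul_assoc]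
    · rw [← mul_assoc a, ← hA', mul_assoc]
    · rw [← mul_assoc (ev l (x / 2)) a, hA', ← mul_assoc a (a * _), ← mul_assoc a a, hs a List.mem_cons_self,
        one_mul]

theorem ev_lin {B : List G} (hc : ∀ a ∈ B, ∀ b ∈ B, a * b = b * a) (hs : ∀ a ∈ B, a * a = 1) :
    ∀ (L : List ℕ) (y : ℕ), ev (L.map (ev B)) y = ev B (lin L y)
  | [], _ => by simp [ev, lin, ev_zero]
  | a :: L, y => by
    simp only [List.map_cons, ev, lin, ev_lin hc hs L, ev_xor B hc hs]
    cases Nat.testBit y 0 <;> simp [ev_zero]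

theorem ev_single : ∀ (l : List G) (n : ℕ), n < l.length → ev l (2 ^ n) = l.getD n 1
  | [], n, h => absurd h (Nat.not_lt_zero n)
  | a :: l, 0, _ => by simp [ev, ev_zero]
  | a :: l, n + 1, h => by
    have h0 : Nat.testBit (2 ^ (n + 1)) 0 = false := by simp [Nat.testBit_zero, pow_succ']
    rw [ev, h0, pow_succ', Nat.mul_div_cancel_left _ (by norm_num),
      ev_single l n (by simpa using h)]
    simp

end Ev

/-- The two sides of a pair. -/
def sel (k : Fin 6) (a : Bool) : Fin 4 × Fin 4 := bif a then ((pr k).2, (pr k).1) else pr k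

theorem share_cases : ∀ k l : Fin 6, k = l ∨ (∃ a b : Bool, (sel k a).1 = (sel l b).1) ∨
    (2 ^ (k : ℕ), 2 ^ (l : ℕ)) ∈ [(4, 8), (8, 4), (2, 16), (16, 2), (1, 32), (32, 1)] := by
  decide +kernel

theorem act_invol : ∀ t : Fin 12, ∀ o : Fin 64, act t (act t o) = o := by decide +kernel

theorem pair_words : act 8 (act 11 (act 8 4)) = 2 ∧ act 8 (act 11 (act 8 8)) = 16 ∧
    act 5 (act 10 (act 5 4)) = 1 ∧ act 5 (act 10 (act 5 8)) = 32 := by decide +kernel

/-- The change of a lift of the base by a translation. -/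
def dS (k i : Fin 4) : ℕ := if k = i then 1 else 0

/-- The change of a lift of a pair by a translation. -/
def dR (k : Fin 4) (m : Fin 6) : ℕ :=
  if k = (pr m).1 then 1 ^^^ 2 ^ (1 + ((pr m).2 : ℕ))
  else if k = (pr m).2 then 1 ^^^ 2 ^ (1 + ((pr m).1 : ℕ)) else 0

theorem transL_eq : ∀ k : Fin 4, transL.getD k [] =
    [1, 2 ^^^ dS k 0, 4 ^^^ dS k 1, 8 ^^^ dS k 2, 16 ^^^ dS k 3, 32 ^^^ dR k 0, 64 ^^^ dR k 1,
      128 ^^^ dR k 2, 256 ^^^ dR k 3, 512 ^^^ dR k 4, 1024 ^^^ dR k 5] := by decide +kernel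

theorem transL_lt : ∀ k : Fin 4, ∀ a ∈ transL.getD k [], a < 2048 := by decide +kernel

theorem bits4 : ∀ a b c d : F, ∃ v : Fin 16, bitF v 0 = a ∧ bitF v 1 = b ∧ bitF v 2 = c ∧
    bitF v 3 = d := by decide +kernel

/-- The product of translations. -/
def tv {G : Type*} [Group G] (a : Fin 4 → G) (v : ℕ) : G :=
  zb (a 3) (bitF v 3) * (zb (a 2) (bitF v 2) * (zb (a 1) (bitF v 1) * zb (a 0) (bitF v 0)))

variable {G : Type*} [Group G] [Finite G] {z : G} {Q : Subgroup G} {π : G → V} {ρ : G → V → V}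
  {s g : Fin 4 → G}

/-- The lifts of the dual base. -/
def TSys (Q : Subgroup G) (π : G → V) (a : Fin 4 → G) : Prop := ∀ k, a k ∈ Q ∧ π (a k) = Fv k

namespace Base

variable (X : Base z Q π ρ s g)
include X

theorem T_comm {a x : G} (ha : a ∈ AA z s) (hx : x ∈ Q) (h : ∀ i, bil (π x) (E i) = 0) :
    a * x = x * a := by
  obtain ⟨w, rfl⟩ := X.low_surj hx h
  have hm : ev [z, s 0, s 1, s 2, s 3] (w : ℕ) ∈ centralizer ({a} : Set G) := ev_mem (by
    simp only [List.forall_mem_cons, List.not_mem_nil, IsEmpty.forall_iff, implies_true, and_true,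
      mem_centralizer_one]
    exact ⟨(X.Az ha).symm, ((mem_AA.1 ha).2 0).symm, ((mem_AA.1 ha).2 1).symm,
      ((mem_AA.1 ha).2 2).symm, ((mem_AA.1 ha).2 3).symm⟩) _
  exact (mem_centralizer_one.1 hm).symm

theorem T_image {c : G} (hc : c * z = z * c) (h : ∀ i m, bil (ρ c (E i)) (E m) = 0) {x : G}
    (hx : x ∈ Q) (hW : ∀ i, bil (π x) (E i) = 0) (m : Fin 4) : bil (π (c * x * c⁻¹)) (E m) = 0 := by
  rw [X.su.conj c hc x hx, dualW _ hW]
  simp only [X.su.rho_add hc, add_sm (X.su.rho_add hc), bil_add_left, bil_sm_left, h, mul_zero,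
    add_zero]

/-- Elements of the centraliser keeping the singular subspace normalise the abelian subgroup. -/
theorem norm_AA {c : G} (hc : c * z = z * c) (h : ∀ i m, bil (ρ c (E i)) (E m) = 0) :
    c ∈ normalizer (AA z s : Set G) := by
  classical
  set T : Set G := {x | x ∈ Q ∧ ∀ i, bil (π x) (E i) = 0} with hT
  have hmaps : Set.MapsTo (fun x => c * x * c⁻¹) T T := fun x hx =>
    ⟨X.su.conj_mem hc hx.1, X.T_image hc h hx.1 hx.2⟩
  have hinj : Set.InjOn (fun x => c * x * c⁻¹) T := fun x _ y _ e =>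
    mul_left_cancel (mul_right_cancel e)
  have hsurj : Set.SurjOn (fun x => c * x * c⁻¹) T T :=
    ((Set.toFinite T).injOn_iff_bijOn_of_mapsTo hmaps).1 hinj |>.surjOn
  have hle : (AA z s).map (MulAut.conj c).toMonoidHom ≤ AA z s := by
    rintro _ ⟨a, ha, rfl⟩
    show c * a * c⁻¹ ∈ AA z s
    refine mem_AA.2 ⟨(((show Commute c z from hc).mul_left (X.Az ha)).mul_left
      (show Commute c z from hc).inv_left).eq, fun i => ?_⟩
    obtain ⟨x, hx, e⟩ := hsurj (show s i ∈ T from ⟨(X.fr i).sQ, fun m => by rw [X.se, E_bil]⟩)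
    rw [← e]
    calc c * a * c⁻¹ * (c * x * c⁻¹) = c * (a * x) * c⁻¹ := by group
      _ = c * (x * a) * c⁻¹ := by rw [X.T_comm ha hx.1 hx.2]
      _ = c * x * c⁻¹ * (c * a * c⁻¹) := by group
  exact mem_normalizer_iff_map_conj_eq.2 (eq_of_le_of_card_ge hle
    (Nat.card_congr ((AA z s).equivMapOfInjective _ (MulAut.conj c).injective).toEquiv).le)

theorem gv_gv (t : Fin 12) (x : V) : gv t (gv t x) = x := by
  have h : bil (Fv (gp t).2) (E (gp t).1) = 0 := FE_ne (gv_facts t).1.symm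
  rw [gv, sg_sg (E_sing _).1 h h, CoT.add_self, sg_zero]

theorem exists_gen (t : Fin 12) : ∃ c, c * z = z * c ∧ ρ c = gv t ∧
    c ∈ normalizer (AA z s : Set G) := by
  obtain ⟨c, hc, e⟩ := X.su.lift _ (isOm_sg (E_sing (gp t).1).1
    (FE_ne (gv_facts t).1.symm : bil (Fv (gp t).2) (E (gp t).1) = 0))
  exact ⟨c, hc, e, X.norm_AA hc fun i m => by rw [e]; exact (gv_facts t).2 i m⟩

theorem rad_conj {t : Fin 12} {c a : G} {o : ℕ} (ho : o < 64) (hc : c * z = z * c)
    (hρ : ρ c = gv t) (hn : c ∈ normalizer (AA z s : Set G)) (ha : Rad z ρ s a o) :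
    Rad z ρ s (c * a * c⁻¹) (act t o) := by
  refine ⟨(mem_normalizer_iff.1 hn a).1 ha.1, fun x => ?_⟩
  have hci := X.su.comm_inv hc
  have hinv : ρ c⁻¹ x = gv t x := X.su.rho_inj hc (by
    rw [← X.su.rho_mul hc hci, mul_inv_cancel, X.su.rho_one, hρ, X.gv_gv])
  have hg : ∀ u v, gv t (u + v) = gv t u + gv t v := sg_add _ _
  have hW : ∀ k m, bil (gv t (E k)) (E m) = 0 := (gv_facts t).2
  have key : gv t (omV o (gv t x)) = omV (act t o) x := by
    have h := ext8 (f := fun y => gv t (omV o y)) (f' := fun y => omV (act t o) (gv t y))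
      (fun u v => by simp only [omV_add, hg]) (fun u v => by simp only [omV_add, hg])
      (fun k => by
        simp only [omV_E, omV_perp (hW k)]
        exact left_eq_add.1 (show gv t 0 = gv t 0 + gv t 0 by rw [← hg, add_zero]))
      (fun k => (act_ok t ⟨o, ho⟩).2 k) (gv t x)
    simpa only [X.gv_gv] using h
  rw [X.su.rho_mul (X.su.comm_mul hc (X.Az ha.1)) hci, X.su.rho_mul hc (X.Az ha.1), hinv, ha.2, hρ,
    hg, X.gv_gv, key]

end Base

/-- Commutation of two radical classes. -/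
def CommP (z : G) (ρ : G → V → V) (s : Fin 4 → G) (o o' : ℕ) : Prop :=
  ∀ a b, Rad z ρ s a o → Rad z ρ s b o' → a * b = b * a

theorem CommP.symm {o o' : ℕ} (h : CommP z ρ s o o') : CommP z ρ s o' o :=
  fun a b ha hb => (h b a hb ha).symm

namespace Four

variable (X : Four z Q π ρ s g)
include X

theorem comm_step (t : Fin 12) {o o' : ℕ} (ho : o < 64) (ho' : o' < 64) (h : CommP z ρ s o o') :
    CommP z ρ s (act t o) (act t o') := by
  intro a b ha hb
  obtain ⟨c, hc, hρ, hn⟩ := X.base.exists_gen t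
  have ha' := X.base.rad_conj (act_ok t ⟨o, ho⟩).1 hc hρ hn ha
  have hb' := X.base.rad_conj (act_ok t ⟨o', ho'⟩).1 hc hρ hn hb
  rw [show act t (act t o) = o from act_invol t ⟨o, ho⟩] at ha'
  rw [show act t (act t o') = o' from act_invol t ⟨o', ho'⟩] at hb'
  have e := h _ _ ha' hb'
  calc a * b = c⁻¹ * (c * a * c⁻¹ * (c * b * c⁻¹)) * c := by group
    _ = c⁻¹ * (c * b * c⁻¹ * (c * a * c⁻¹)) * c := by rw [e]
    _ = b * a := by group

variable {r : Fin 6 → G} (hr : RSys z Q π ρ s g r)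
include hr

theorem comm_base : CommP z ρ s 4 8 := by
  intro a b ha hb
  have h2 : Rad z ρ s (r 2) 4 := X.base.rad_r hr 2
  have h3 : Rad z ρ s (r 3) 8 := X.base.rad_r hr 3
  have hmu : r 3 * r 2 * (r 3)⁻¹ = r 2 * zb z (bil e3 e3) :=
    X.mu e3 (E_bil 3 0) (E_bil 3 1) (E_bil 3 2) (r 2) (hr 2).1.1 (hr 2).1.2 (r 3) (hr 3).1.1 (hr 3).1.2
  rw [bil_self, zb_zero, mul_one] at hmu
  have h23 : Commute (r 2) (r 3) := (mul_inv_eq_iff_eq_mul.1 hmu).symm
  obtain ⟨hd, hdW⟩ := X.base.rad_diff ha h2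
  obtain ⟨he, heW⟩ := X.base.rad_diff hb h3
  have c : ∀ {u x : G}, u ∈ AA z s → x ∈ Q → (∀ i, bil (π x) (E i) = 0) → Commute u x :=
    fun {u x} hu hx hW => X.base.T_comm hu hx hW
  have e1 : Commute (a * (r 2)⁻¹ * r 2) (b * (r 3)⁻¹ * r 3) :=
    ((c ((X.base.mem_Q hd).2 hdW) he heW).mul_right (c h3.1 hd hdW).symm).mul_left
      ((c h2.1 he heW).mul_right h23)
  simpa using e1.eq

theorem comm_pairs : ∀ p ∈ ([(4, 8), (8, 4), (2, 16), (16, 2), (1, 32), (32, 1)] : List (ℕ × ℕ)),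
    CommP z ρ s p.1 p.2 := by
  obtain ⟨w1, w2, w3, w4⟩ := pair_words
  have h0 := X.comm_base hr
  have h1 : CommP z ρ s 2 16 := by
    have a := X.comm_step 8 (by norm_num) (by norm_num) h0
    have b := X.comm_step 11 (act_ok 8 ⟨4, by norm_num⟩).1 (act_ok 8 ⟨8, by norm_num⟩).1 a
    have c := X.comm_step 8 (act_ok 11 ⟨_, (act_ok 8 ⟨4, by norm_num⟩).1⟩).1
      (act_ok 11 ⟨_, (act_ok 8 ⟨8, by norm_num⟩).1⟩).1 b
    rwa [w1, w2] at c
  have h2 : CommP z ρ s 1 32 := by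
    have a := X.comm_step 5 (by norm_num) (by norm_num) h0
    have b := X.comm_step 10 (act_ok 5 ⟨4, by norm_num⟩).1 (act_ok 5 ⟨8, by norm_num⟩).1 a
    have c := X.comm_step 5 (act_ok 10 ⟨_, (act_ok 5 ⟨4, by norm_num⟩).1⟩).1
      (act_ok 10 ⟨_, (act_ok 5 ⟨8, by norm_num⟩).1⟩).1 b
    rwa [w3, w4] at c
  simp only [List.forall_mem_cons, List.not_mem_nil, IsEmpty.forall_iff, implies_true, and_true]
  exact ⟨h0, h0.symm, h1, h1.symm, h2, h2.symm⟩

theorem r_comm (k l : Fin 6) : r k * r l = r l * r k := by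
  have side : ∀ k a, r k ∈ hB z Q (g (sel k a).1) ∧
      Vec π ρ (s (sel k a).1) (r k) (E (sel k a).2) := fun k a => by
    cases a
    · exact (hr k).1
    · exact (hr k).2
  rcases share_cases k l with rfl | ⟨a, b, e⟩ | h
  · rfl
  · obtain ⟨h1, h2⟩ := side k a
    obtain ⟨h3, h4⟩ := side l b
    rw [← e] at h3 h4
    have h := (X.fr _).B_rule h1 h3 h2 h4
    rw [E_bil, zb_zero, mul_one] at h
    exact h.symm
  · exact X.comm_pairs hr _ h _ _ (X.base.rad_r hr k) (X.base.rad_r hr l)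

theorem r_sq (k : Fin 6) : r k * r k = 1 := by
  rw [(X.fr _).B_sq (hr k).1.1 (hr k).1.2, (E_sing _).1, zb_zero]

theorem gens_ok : (∀ a ∈ gens z s r, a ∈ AA z s) ∧ (∀ a ∈ gens z s r, a * a = 1) ∧
    ∀ a ∈ gens z s r, ∀ b ∈ gens z s r, a * b = b * a := by
  have B := X.base
  have hm : ∀ a ∈ gens z s r, a = z ∨ (∃ i, a = s i) ∨ ∃ k, a = r k := by
    simp only [gens, List.forall_mem_cons, List.not_mem_nil, IsEmpty.forall_iff, implies_true, and_true]
    exact ⟨Or.inl trivial, Or.inr (Or.inl ⟨0, rfl⟩), Or.inr (Or.inl ⟨1, rfl⟩), Or.inr (Or.inl ⟨2, rfl⟩),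
      Or.inr (Or.inl ⟨3, rfl⟩), Or.inr (Or.inr ⟨0, rfl⟩), Or.inr (Or.inr ⟨1, rfl⟩),
      Or.inr (Or.inr ⟨2, rfl⟩), Or.inr (Or.inr ⟨3, rfl⟩), Or.inr (Or.inr ⟨4, rfl⟩),
      Or.inr (Or.inr ⟨5, rfl⟩)⟩
  have hA : ∀ a ∈ gens z s r, a ∈ AA z s := fun a ha => by
    rcases hm a ha with rfl | ⟨i, rfl⟩ | ⟨k, rfl⟩
    exacts [B.z_mem, B.s_mem i, (B.rad_r hr k).1]
  refine ⟨hA, fun a ha => ?_, fun a ha b hb => ?_⟩
  · rcases hm a ha with rfl | ⟨i, rfl⟩ | ⟨k, rfl⟩
    exacts [B.su.loc.sq, (B.fr i).ss, X.r_sq hr k]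
  · rcases hm b hb with rfl | ⟨j, rfl⟩ | ⟨l, rfl⟩
    · exact B.Az (hA a ha)
    · exact (mem_AA.1 (hA a ha)).2 j
    · rcases hm a ha with rfl | ⟨i, rfl⟩ | ⟨k, rfl⟩
      · exact (B.Az (B.rad_r hr l).1).symm
      · exact ((mem_AA.1 (B.rad_r hr l).1).2 i).symm
      · exact X.r_comm hr k l

theorem eg_xor (x y : ℕ) : eg z s r (x ^^^ y) = eg z s r x * eg z s r y :=
  ev_xor _ (X.gens_ok hr).2.2 (X.gens_ok hr).2.1 x y

theorem eg_sq (y : ℕ) : eg z s r y * eg z s r y = 1 := by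
  rw [← X.eg_xor hr, Nat.xor_self]; exact ev_zero _

theorem eg_inj {x y : ℕ} (hx : x < 2048) (hy : y < 2048) (h : eg z s r x = eg z s r y) : x = y :=
  Nat.xor_eq_zero_iff.1 (X.base.eg_one hr (Nat.xor_lt_two_pow (n := 11) hx hy)
    (by rw [X.eg_xor hr, h, X.eg_sq hr]))

theorem AA_comm {a b : G} (ha : a ∈ AA z s) (hb : b ∈ AA z s) : a * b = b * a := by
  obtain ⟨x, rfl⟩ := X.base.eg_surj hr ha
  obtain ⟨y, rfl⟩ := X.base.eg_surj hr hb
  rw [← X.eg_xor hr, Nat.xor_comm, X.eg_xor hr]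

theorem card_AA : Nat.card ↥(AA z s) = 2048 := by
  refine le_antisymm (X.base.card_le hr) ?_
  conv_lhs => rw [← Nat.card_fin 2048]
  exact Nat.card_le_card_of_injective (fun y : Fin 2048 => (⟨eg z s r y, X.base.eg_mem hr y⟩ : AA z s))
    fun x y e => Fin.ext (X.eg_inj hr x.2 y.2 (congrArg Subtype.val e))

theorem elementary : Cfsg.IsElementaryAbelian 2 (AA z s) :=
  ⟨⟨⟨fun a b => Subtype.ext (X.AA_comm hr a.2 b.2)⟩⟩, fun a ha => by
    obtain ⟨x, rfl⟩ := X.base.eg_surj hr ha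
    rw [pow_two, X.eg_sq hr]⟩

theorem cent_AA {c : G} (h : ∀ a ∈ AA z s, c * a = a * c) : c ∈ AA z s :=
  mem_AA.2 ⟨h z X.base.z_mem, fun i => h _ (X.base.s_mem i)⟩

theorem eg_z : eg z s r 1 = z := by
  have := ev_single (gens z s r) 0 (by simp [gens])
  simpa [eg, gens] using this

theorem eg_s (i : Fin 4) : eg z s r (2 ^ (1 + (i : ℕ))) = s i := by
  unfold eg
  rw [ev_single _ _ (by simp only [gens, List.length_cons, List.length_nil]; omega)]
  fin_cases i <;> rfl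

theorem eg_r (m : Fin 6) : eg z s r (2 ^ (5 + (m : ℕ))) = r m := by
  unfold eg
  rw [ev_single _ _ (by simp only [gens, List.length_cons, List.length_nil]; omega)]
  fin_cases m <;> rfl

variable {a : Fin 4 → G} (ha : TSys Q π a)
include ha

theorem tr_s (k i : Fin 4) : a k * s i * (a k)⁻¹ = eg z s r (2 ^ (1 + (i : ℕ)) ^^^ dS k i) := by
  rw [X.base.su.conj_Q (ha k).1 (X.fr i).sQ, (ha k).2, X.se, FE_bil, X.eg_xor hr, X.eg_s hr, dS]
  split_ifs
  · rw [zb_one, X.eg_z hr]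
  · rw [zb_zero]; exact congrArg _ (ev_zero _).symm

theorem tr_r (k : Fin 4) (m : Fin 6) : a k * r m * (a k)⁻¹ = eg z s r (2 ^ (5 + (m : ℕ)) ^^^ dR k m) := by
  have hne : ∀ m, (pr m).1 ≠ (pr m).2 := by decide
  have hmem : ∀ i, k ≠ i → a k ∈ hA Q (s i) := fun i h =>
    (X.fr i).mem_A.2 ⟨(ha k).1, by rw [(ha k).2, X.se, FE_ne h]⟩
  rw [X.eg_xor hr, X.eg_r hr, dR]
  split_ifs with h1 h2
  · have hk : k ≠ (pr m).2 := h1 ▸ hne m
    have h := (X.fr _).conj_B_by_A (hmem _ hk) (hr m).2.1 (hr m).2.2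
    rw [(ha k).2, h1, FE_self, zb_one, zb_one] at h
    rw [X.eg_xor hr, X.eg_z hr, X.eg_s hr, h1]
    exact h
  · have h := (X.fr _).conj_B_by_A (hmem _ h1) (hr m).1.1 (hr m).1.2
    rw [(ha k).2, h2, FE_self, zb_one, zb_one] at h
    rw [X.eg_xor hr, X.eg_z hr, X.eg_s hr, h2]
    exact h
  · have h := (X.fr _).conj_B_by_A (hmem _ h1) (hr m).1.1 (hr m).1.2
    rw [(ha k).2, FE_ne h2, zb_zero, zb_zero, one_mul] at h
    rw [h]; exact congrArg _ (ev_zero _).symm

/-- Conjugation by one translation. -/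
theorem tr_conj (k : Fin 4) (y : ℕ) : a k * eg z s r y * (a k)⁻¹ = eg z s r (tr k y) := by
  have hz : a k * z * (a k)⁻¹ = eg z s r 1 := by rw [X.eg_z hr, X.base.su.zpi (X.base.su.Qz (ha k).1)]
  have hmap : (gens z s r).map (fun u => a k * u * (a k)⁻¹) =
      (transL.getD k []).map (ev (gens z s r)) := by
    rw [transL_eq]
    simp only [gens, List.map_cons, List.map_nil, List.cons.injEq, and_true]
    exact ⟨hz, X.tr_s hr ha k 0, X.tr_s hr ha k 1, X.tr_s hr ha k 2, X.tr_s hr ha k 3,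
      X.tr_r hr ha k 0, X.tr_r hr ha k 1, X.tr_r hr ha k 2, X.tr_r hr ha k 3, X.tr_r hr ha k 4,
      X.tr_r hr ha k 5⟩
  show a k * ev (gens z s r) y * (a k)⁻¹ = ev (gens z s r) (lin (transL.getD k []) y)
  rw [ev_conj, hmap, ev_lin (X.gens_ok hr).2.2 (X.gens_ok hr).2.1]

/-- Conjugation by a product of translations. -/
theorem tq_conj (v y : ℕ) : tv a v * eg z s r y * (tv a v)⁻¹ = eg z s r (tq v y) := by
  have step : ∀ (k : Fin 4) (n : ℕ), (k : ℕ) = n → ∀ y,
      zb (a k) (bitF v n) * eg z s r y * (zb (a k) (bitF v n))⁻¹ =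
        eg z s r (bif Nat.testBit v n then tr n y else y) := fun k n hn y => by
    subst hn
    unfold bitF
    cases Nat.testBit v k
    · simp [zb_zero]
    · simp [zb_one, X.tr_conj hr ha k y]
  have hc : ∀ p q u : G, p * q * u * (p * q)⁻¹ = p * (q * u * q⁻¹) * p⁻¹ := fun p q u => by group
  rw [tv, hc, hc, hc, step 0 0 rfl, step 1 1 rfl, step 2 2 rfl, step 3 3 rfl]
  rfl

theorem tv_spec (v : ℕ) : tv a v ∈ Q ∧ π (tv a v) =
    sm (bitF v 3) (Fv 3) + (sm (bitF v 2) (Fv 2) + (sm (bitF v 1) (Fv 1) + sm (bitF v 0) (Fv 0))) := by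
  have hz : ∀ k c, zb (a k) c ∈ Q ∧ π (zb (a k) c) = sm c (Fv k) := fun k c => by
    rcases F_cases c with rfl | rfl
    · rw [zb_zero, sm_zero]; exact ⟨one_mem _, X.base.su.pi_one⟩
    · rw [zb_one, sm_one]; exact ha k
  obtain ⟨m3, e3'⟩ := hz 3 (bitF v 3)
  obtain ⟨m2, e2'⟩ := hz 2 (bitF v 2)
  obtain ⟨m1, e1'⟩ := hz 1 (bitF v 1)
  obtain ⟨m0, e0'⟩ := hz 0 (bitF v 0)
  refine ⟨mul_mem m3 (mul_mem m2 (mul_mem m1 m0)), ?_⟩
  rw [tv, X.base.su.pi_mul _ m3 _ (mul_mem m2 (mul_mem m1 m0)), X.base.su.pi_mul _ m2 _ (mul_mem m1 m0),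
    X.base.su.pi_mul _ m1 _ m0, e0', e1', e2', e3']

omit ha in
theorem exists_tsys : ∃ a, TSys Q π a := by
  choose a ha using fun k => X.base.su.pi_surj (Fv k)
  exact ⟨a, ha⟩

/-- Every element of the extraspecial subgroup acts as a product of translations. -/
theorem Q_translation {x : G} (hx : x ∈ Q) :
    ∃ v < 16, ∀ y, x * eg z s r y * x⁻¹ = eg z s r (tq v y) := by
  obtain ⟨v, h0, h1, h2, h3⟩ := bits4 (bil (π x) (E 0)) (bil (π x) (E 1)) (bil (π x) (E 2))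
    (bil (π x) (E 3))
  refine ⟨v, v.2, fun y => ?_⟩
  obtain ⟨hm, hp⟩ := X.tv_spec hr ha v
  set d := (tv a v)⁻¹ * x with hd
  have hdQ : d ∈ Q := mul_mem (inv_mem hm) hx
  have hdW : ∀ i, bil (π d) (E i) = 0 := fun i => by
    rw [hd, X.base.su.pi_mul _ (inv_mem hm) _ hx, X.base.su.pi_inv hm, hp, bil_add_left]
    fin_cases i <;>
      simp [bil_add_left, bil_sm_left, FE_bil, h0, h1, h2, h3, F_add_self]
  have hcd : d * eg z s r y = eg z s r y * d := (X.base.T_comm (X.base.eg_mem hr y) hdQ hdW).symm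
  calc x * eg z s r y * x⁻¹ = tv a v * (d * eg z s r y * d⁻¹) * (tv a v)⁻¹ := by rw [hd]; group
    _ = eg z s r (tq v y) := by rw [hcd, mul_inv_cancel_right, X.tq_conj hr ha]

end Four

end Cfsg.Agent.CoM24
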