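import Cfsg.Agent.Lib.CoM24.SylowPart
import Cfsg.Agent.Lib.CoM24.Moves
import Cfsg.Agent.Lib.Solvable.Gaschutz

/-!
The normalizer of the large abelian subgroup splits over it.
-/

set_option autoImplicit false
set_option linter.style.haveILetI false
set_option linter.unusedSectionVars false

namespace Cfsg.Agent.CoM24

open Cfsg.Agent.CoT Subgroup LargeExtra

variable {G : Type*} [Group G] [Finite G] {z : G} {Q : Subgroup G} {π : G → V} {ρ : G → V → V}
  {s g : Fin 4 → G}

theorem exists_complement (X : Four z Q π ρ s g)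
    (hN : Nat.card ↥(normalizer (AA z s : Set G)) = 2048 * 244823040) :
    ∃ K : Subgroup ↥(normalizer (AA z s : Set G)),
      ((AA z s).subgroupOf (normalizer (AA z s : Set G))).IsComplement' K := by
  obtain ⟨S0, hle, hc, hinf⟩ := exists_sylow_part X
  obtain ⟨r, R⟩ := X.base.exists_rsys
  have hAN : AA z s ≤ normalizer (AA z s : Set G) := le_normalizer
  set N := normalizer (AA z s : Set G) with hNdef
  haveI : ((AA z s).subgroupOf N).Normal := normal_in_normalizer
  haveI : IsMulCommutative ((AA z s).subgroupOf N) :=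
    ⟨⟨fun a b => Subtype.ext (Subtype.ext (X.AA_comm R a.2 b.2))⟩⟩
  have hcA : Nat.card ↥((AA z s).subgroupOf N) = 2048 := by
    rw [Nat.card_congr (subgroupOfEquivOfLe hAN).toEquiv, X.card_AA R]
  have hcS : Nat.card ↥(S0.subgroupOf N) = 1024 := by
    rw [Nat.card_congr (subgroupOfEquivOfLe hle).toEquiv, hc]
  have hd : S0.subgroupOf N ⊓ (AA z s).subgroupOf N = ⊥ := by
    refine eq_bot_iff.2 fun x hx => ?_
    have hx' : (x : G) ∈ S0 ⊓ AA z s := ⟨mem_subgroupOf.1 hx.1, mem_subgroupOf.1 hx.2⟩
    rw [hinf] at hx'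
    exact Subtype.ext hx'
  have hU : Nat.card ↥((AA z s).subgroupOf N ⊔ S0.subgroupOf N) = 2097152 := by
    rw [SolvBasic.card_sup_of_inf_eq_bot (by rw [normalizer_eq_top]; exact le_top)
      (by rw [inf_comm]; exact hd), hcA, hcS]
  refine SolvGaschutz.existence (U := (AA z s).subgroupOf N ⊔ S0.subgroupOf N) le_sup_left ?_
    le_sup_right hd rfl
  have hi := card_mul_index ((AA z s).subgroupOf N ⊔ S0.subgroupOf N)
  rw [hU, hN] at hi
  have : ((AA z s).subgroupOf N ⊔ S0.subgroupOf N).index = 239085 := by omega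
  rw [hcA, this]
  norm_num

end Cfsg.Agent.CoM24
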