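import Cfsg.Agent.Lib.CoM24.Data
import Cfsg.Agent.Lib.Golay.Basic

/-!
Finite checks in the coordinates: the set of conjugates of the central involution is determined by the action
of the four translations and of an element exchanging the central involution with a conjugate.
-/

set_option autoImplicit false
set_option maxRecDepth 100000
set_option maxHeartbeats 400000
set_option Elab.async false

namespace Cfsg.Agent.CoM24

open Cfsg.Agent.Golay (popCount)

/-- A linear map given by the images of the bits. -/
def lin : List ℕ → ℕ → ℕ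
  | [], _ => 0
  | a :: l, y => (bif Nat.testBit y 0 then a else 0) ^^^ lin l (y / 2)

/-- One translation. -/
def tr (k y : ℕ) : ℕ := lin (transL.getD k []) y

/-- A product of translations. -/
def tq (v y : ℕ) : ℕ :=
  let y₀ := bif Nat.testBit v 0 then tr 0 y else y
  let y₁ := bif Nat.testBit v 1 then tr 1 y₀ else y₀
  let y₂ := bif Nat.testBit v 2 then tr 2 y₁ else y₁
  bif Nat.testBit v 3 then tr 3 y₂ else y₂

/-- The coordinates on the radical. -/
def om (y : ℕ) : ℕ := y / 32

/-- Rank at most two on the radical. -/
def low (y : ℕ) : Bool :=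
  let o := om y
  !((Nat.testBit o 0 && Nat.testBit o 5) ^^ ((Nat.testBit o 1 && Nat.testBit o 4) ^^
    (Nat.testBit o 2 && Nat.testBit o 3)))

/-- The part of a coordinate in the singular subspace. -/
def wpart (y : ℕ) : ℕ := y / 2 % 16

/-- An element of rank at most two is a conjugate of the central involution. -/
def crit (y : ℕ) : Bool :=
  bif Nat.beq (om y) 0 then !(Nat.beq y 0)
  else (List.range 16).all fun v => !(Nat.beq (wpart (tq v y ^^^ y)) 0) || Nat.beq (tq v y) y

/-- The word of a coordinate. -/
def word (y : ℕ) : ℕ := lin octW y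

/-- The coordinate gives an octad. -/
def octB (y : ℕ) : Bool :=
  let w := popCount (word y) 24
  Nat.beq w 8 || Nat.beq w 16

/-- A change of the signs of the lifts of the radical. -/
def twist (δ y : ℕ) : ℕ :=
  y ^^^ (bif (lin [0, 0, 0, 0, 0, δ % 2, δ / 2 % 2, δ / 4 % 2, δ / 8 % 2, δ / 16 % 2, δ / 32 % 2] y == 1) then 1 else 0)

/-- The free part of an image. -/
def freeX (X c0 c1 c2 c3 c4 : ℕ) : ℕ := lin [c0, c1, c2, c3, c4] X

/-- The map exchanging the central involution and the first lift, from the parameters. -/
def swapL (pq a b c : ℕ) : List ℕ :=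
  [2, 1, 32, 64, 128,
    4 ^^^ lin [2, 0, 0, 1, 0, 0] pq, 8 ^^^ lin [0, 2, 0, 0, 1, 0] pq, 16 ^^^ lin [0, 0, 2, 0, 0, 1] pq,
    256 ^^^ 128 ^^^ 16 ^^^ freeX a 1 4 8 32 64,
    512 ^^^ 64 ^^^ 8 ^^^ freeX b 1 4 16 32 128,
    1024 ^^^ 32 ^^^ 4 ^^^ freeX c 1 8 16 64 128]

/-- The swap as a map. -/
def sw (pq a b c y : ℕ) : ℕ := lin (swapL pq a b c) y

/-- The criterion, tabulated. -/
def critT (y : ℕ) : Bool := critMask.testBit y

/-- The octads, tabulated. -/
def octT (y : ℕ) : Bool := octMask.testBit y

theorem crit_table : ((List.range 2048).all fun y => !(low y) || crit y == critT y) = true := by decide +kernel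

theorem oct_table : ((List.range 2048).all fun y => Nat.beq y 0 || octB y == octT y) = true := by decide +kernel

/-- A test fails. -/
def fails (pq a b c : ℕ) (p : ℕ × ℕ) : Bool :=
  let u := bif Nat.beq p.2 16 then sw pq a b c p.1 else sw pq a b c (tq p.2 (sw pq a b c p.1))
  low p.1 && low u && (critT u != critT p.1)

/-- Only the bits of one image are used. -/
def within (t pq X : ℕ) (p : ℕ × ℕ) : Bool :=
  let a := bif Nat.beq t 0 then X else 0
  let b := bif Nat.beq t 1 then X else 0
  let c := bif Nat.beq t 2 then X else 0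
  let m := 2047 - (255 + 256 * 2 ^ t)
  Nat.beq (p.1 &&& m) 0 && Nat.beq (tq p.2 (sw pq a b c p.1) &&& m) 0 && fails pq a b c p

/-- A parameter pair is good or fails. -/
def oneOK (t pq X : ℕ) : Bool :=
  (oneTests.getD t []).any (within t pq X) ||
    (oneGood.getD t []).any fun g => Nat.beq g.1 pq && Nat.beq g.2 X

/-- The check for a block of parameters. -/
def oneBlock (t lo : ℕ) : Bool :=
  (List.range' lo 512).all fun i => oneOK t (i / 32) (i % 32)

theorem one_0_0 : oneBlock 0 0 = true := by decide +kernel

theorem one_0_1 : oneBlock 0 512 = true := by decide +kernel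

theorem one_0_2 : oneBlock 0 1024 = true := by decide +kernel

theorem one_0_3 : oneBlock 0 1536 = true := by decide +kernel

theorem one_1_0 : oneBlock 1 0 = true := by decide +kernel

theorem one_1_1 : oneBlock 1 512 = true := by decide +kernel

theorem one_1_2 : oneBlock 1 1024 = true := by decide +kernel

theorem one_1_3 : oneBlock 1 1536 = true := by decide +kernel

theorem one_2_0 : oneBlock 2 0 = true := by decide +kernel

theorem one_2_1 : oneBlock 2 512 = true := by decide +kernel

theorem one_2_2 : oneBlock 2 1024 = true := by decide +kernel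

theorem one_2_3 : oneBlock 2 1536 = true := by decide +kernel

theorem joint_ok : ((oneGood.getD 0 []).all fun g0 => (oneGood.getD 1 []).all fun g1 =>
    !(Nat.beq g1.1 g0.1) || (oneGood.getD 2 []).all fun g2 => !(Nat.beq g2.1 g0.1) ||
      (sols.any fun s => Nat.beq s.1 g0.1 && Nat.beq s.2.1 g0.2 && Nat.beq s.2.2.1 g1.2 && Nat.beq s.2.2.2.1 g2.2) ||
        jointTests.any (fails g0.1 g0.2 g1.2 g2.2)) = true := by decide +kernel

/-- A solution gives the octads. -/
def solOK (s : ℕ × ℕ × ℕ × ℕ × ℕ) : Bool :=
  (List.range 2047).all fun i =>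
    let y := i + 1
    bif low y then critT y == octT (twist s.2.2.2.2 y)
    else
      match (List.range 16).find? fun v => low (sw s.1 s.2.1 s.2.2.1 s.2.2.2.1 (tq v y)) with
      | some v => critT (sw s.1 s.2.1 s.2.2.1 s.2.2.2.1 (tq v y)) == octT (twist s.2.2.2.2 y)
      | none => false

theorem sol_ok_0 : (sols[0]?).all solOK = true := by decide +kernel

theorem sol_ok_1 : (sols[1]?).all solOK = true := by decide +kernel

theorem sol_ok_2 : (sols[2]?).all solOK = true := by decide +kernel

theorem sol_ok_3 : (sols[3]?).all solOK = true := by decide +kernel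

theorem sol_ok_4 : (sols[4]?).all solOK = true := by decide +kernel

theorem sol_ok_5 : (sols[5]?).all solOK = true := by decide +kernel

theorem sol_ok_6 : (sols[6]?).all solOK = true := by decide +kernel

theorem sol_ok_7 : (sols[7]?).all solOK = true := by decide +kernel

end Cfsg.Agent.CoM24
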