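/-!
Coordinates on the large abelian subgroup of a group of Conway type, bit by bit: the central involution, four
lifts of the basis of the singular subspace, six lifts of the radical. Tables for the finite checks.
-/

set_option autoImplicit false

namespace Cfsg.Agent.CoM24

/-- The action of the four elements lifting the dual basis. -/
def transL : List (List Nat) := [[1, 3, 4, 8, 16, 37, 73, 145, 256, 512, 1024], [1, 2, 5, 8, 16, 35, 64, 128, 265, 529, 1024], [1, 2, 4, 9, 16, 32, 67, 128, 261, 512, 1041], [1, 2, 4, 8, 17, 32, 64, 131, 256, 517, 1033]]

/-- The code words of the coordinates. -/
def octW : List Nat := [5279, 15515712, 4038912, 8077824, 14919680, 133817, 10558, 1050548, 8391797, 18147, 262637]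

/-- The tests for the images of the three coordinates. -/
def oneTests : List (List (Nat × Nat)) := [[(332, 0), (356, 0), (268, 6), (256, 6), (260, 2), (256, 4), (256, 0)], [(544, 10), (640, 0), (544, 8), (560, 8), (512, 0), (512, 8), (516, 0)], [(1088, 12), (1112, 12), (1152, 4), (1096, 8), (1024, 4), (1024, 0), (1024, 8)]]

/-- The surviving parameters. -/
def oneGood : List (List (Nat × Nat)) := [[(3, 7), (3, 12), (3, 18), (3, 25), (7, 6), (7, 13), (7, 19), (7, 24), (35, 7), (35, 12), (35, 18), (35, 25), (39, 6), (39, 13), (39, 19), (39, 24)], [(5, 7), (5, 12), (5, 18), (5, 25), (7, 6), (7, 13), (7, 19), (7, 24), (21, 7), (21, 12), (21, 18), (21, 25), (23, 6), (23, 13), (23, 19), (23, 24)], [(6, 7), (6, 12), (6, 18), (6, 25), (7, 6), (7, 13), (7, 19), (7, 24), (14, 7), (14, 12), (14, 18), (14, 25), (15, 6), (15, 13), (15, 19), (15, 24)]]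

/-- The joint tests. -/
def jointTests : List (Nat × Nat) := [(1345, 16), (1893, 16), (801, 16), (1633, 16)]

/-- The solutions with their changes of sign. -/
def sols : List (Nat × Nat × Nat × Nat × Nat) := [(7, 6, 19, 24, 1), (7, 6, 24, 19, 13), (7, 13, 19, 13, 27), (7, 13, 24, 6, 55), (7, 19, 6, 24, 56), (7, 19, 13, 19, 36), (7, 24, 6, 13, 42), (7, 24, 13, 6, 22)]

/-- The coordinates of rank at most two satisfying the criterion, as bits. -/
def critMask : Nat := 5643638115766684045309893185215940425380566005849778097597067161508995719245519415180916895451531738098394820434785388076650912232604144161469260266763798171895753342467002903871777881442626697647971302858195251105918859463647025641714847040441768866718755157498294840911631366030712122419859136036412781837456224797715770679007780359384718796549437599873462271354313235944279487456911111655936971847281655829705997744743598093694754339629481047318218956750772832157196913247339495734987642452050022092134430882756459709797487122050962389479015957148204168867568459381246387307595552956972161320457475194878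

/-- The coordinates of the octads, as bits. -/
def octMask : Nat := 18852082080701545832998329289747963834107479490196486851929089055146663684720296052040340387136268008486241754988732294462826253144825213766712964808119876383754988300059764040937642909700055898050282384380774168900023295654588095679420838792013093759704945917291611488519243304948840296863102447395466679349919533401284827490567810018043495501605019178449021376691127191447863211948412543009694327212913356670244298599372381612789542459404877696406457426299602068223684569897846879411896467334870811701089779106018033784682481660297006269123465755954047059296248249227562441456881260671936312153112397453260629213182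

end Cfsg.Agent.CoM24
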