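import Cfsg.Agent.Lib.CoT.Cocycle
import Cfsg.Agent.Lib.CoT.Wrap

/-!
Four orthogonal frames in a group of Conway type, with coordinates in which the commutator cocycle of the
first two frames vanishes on the third and the fourth base vector.
-/

set_option autoImplicit false
set_option linter.style.haveILetI false
set_option linter.unusedSectionVars false
set_option maxRecDepth 20000
set_option synthInstance.maxSize 4000
set_option synthInstance.maxHeartbeats 400000

namespace Cfsg.Agent.CoM24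

open Cfsg.Agent.CoT Subgroup

local notation "F" => ZMod 2

/-- Exchange of the last hyperbolic pair. -/
def flip3 (v : V) : V := (v.1, (v.2.1, (v.2.2.1, (v.2.2.2.2, v.2.2.2.1))))

theorem flip3_add (u v : V) : flip3 (u + v) = flip3 u + flip3 v := rfl

theorem flip3_flip3 (v : V) : flip3 (flip3 v) = v := rfl

theorem flip3_q (v : V) : q (flip3 v) = q v := by simp only [q, flip3]; ring

theorem flip3_bil (u v : V) : bil (flip3 u) (flip3 v) = bil u v := by simp only [bil, flip3]; ring

theorem flip3_zero : flip3 0 = 0 := rfl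

theorem flip3_sm (c : F) (v : V) : flip3 (sm c v) = sm c (flip3 v) := by
  rcases F_cases c with rfl | rfl
  · rw [sm_zero, sm_zero, flip3_zero]
  · rw [sm_one, sm_one]

theorem flip3_sg (e v x : V) : flip3 (sg e v x) = sg (flip3 e) (flip3 v) (flip3 x) := by
  simp only [sg, flip3_add, flip3_sm, flip3_bil, flip3_q]

theorem flip3_om {f : V → V} (hf : IsOm f) : IsOm fun v => flip3 (f (flip3 v)) := by
  obtain ⟨g₀, hg₀⟩ := exists_app flip3 flip3_add flip3_q flip3_flip3
  obtain ⟨g, hg, rfl⟩ := hf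
  have h2 : g₀ * g₀ = 1 := app_inj (funext fun v => by rw [app_mul, app_one, hg₀, flip3_flip3])
  refine ⟨g₀ * g * g₀⁻¹, (inferInstance : Om.Normal).conj_mem g hg g₀, funext fun v => ?_⟩
  rw [inv_eq_of_mul_eq_one_right h2, app_mul, app_mul, hg₀]

/-- The four base vectors. -/
def E : Fin 4 → V := ![e0, e1, e2, e3]

/-- The four dual vectors. -/
def Fv : Fin 4 → V := ![f0, f1, f2, f3]

variable {G : Type*} [Group G] [Finite G] {z : G} {Q : Subgroup G} {π : G → V} {ρ : G → V → V}

/-- The coordinates after the exchange. -/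
abbrev pi' (π : G → V) : G → V := fun x => flip3 (π x)

/-- The action after the exchange. -/
abbrev rho' (ρ : G → V → V) : G → V → V := fun h v => flip3 (ρ h (flip3 v))

theorem flip_su (S : Su z Q π ρ) : Su z Q (pi' π) (rho' ρ) where
  loc := S.loc
  card := S.card
  pi_mul x hx y hy := by simp only [pi', S.pi_mul x hx y hy, flip3_add]
  pi_eq x hx := by
    rw [← S.pi_eq x hx]
    exact ⟨fun e => by simpa [pi', flip3_flip3, flip3_zero] using congrArg flip3 e,
      fun e => by simp only [pi', e, flip3_zero]⟩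
  pi_surj v := by
    obtain ⟨x, hx, e⟩ := S.pi_surj (flip3 v)
    exact ⟨x, hx, by simp only [pi', e, flip3_flip3]⟩
  sq x hx := by simp only [pi', flip3_q, S.sq x hx]
  conj h hh x hx := by simp only [pi', rho', flip3_flip3, S.conj h hh x hx]
  ker h hh := by
    rw [← S.ker h hh]
    refine ⟨fun e v => ?_, fun e v => by simp only [rho', e, flip3_flip3]⟩
    have := congrArg flip3 (e (flip3 v))
    simpa [rho', flip3_flip3] using this
  om h hh := flip3_om (S.om h hh)
  lift f hf := by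
    obtain ⟨h, hh, e⟩ := S.lift _ (flip3_om hf)
    exact ⟨h, hh, funext fun v => by simp only [rho', e, flip3_flip3]⟩

theorem flip_fr {s g : G} (X : Fr z Q π ρ s g) : Fr z Q (pi' π) (rho' ρ) s g :=
  ⟨flip_su X.S, X.sconj, X.sQ, X.sne⟩

theorem flip_vec {s b : G} {v : V} (h : Vec (pi' π) (rho' ρ) s b v) : Vec π ρ s b (flip3 v) := by
  refine ⟨?_, fun x => ?_⟩
  · rw [← flip3_bil, flip3_flip3]; exact h.1
  · have h2 := congrArg flip3 (h.2 (flip3 x))
    simpa [rho', pi', flip3_sg, flip3_flip3] using h2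

/-- Four frames, with the cocycle of the first two. -/
structure Four (z : G) (Q : Subgroup G) (π : G → V) (ρ : G → V → V) (s g : Fin 4 → G) : Prop where
  fr : ∀ i, Fr z Q π ρ (s i) (g i)
  se : ∀ i, π (s i) = E i
  mu : ∀ v, bil v e0 = 0 → bil v e1 = 0 → bil v e2 = 0 →
    MU z Q π ρ (s 0) (g 0) (s 1) (g 1) v e2 (bil v e3)

theorem E_sing : ∀ i, q (E i) = 0 ∧ E i ≠ 0 := by decide +kernel

theorem flip_base : flip3 e0 = e0 ∧ flip3 e1 = e1 ∧ flip3 e2 = e2 ∧ flip3 e3 = f3 := by decide +kernel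

theorem exists_four_of {s₀ g₀ : G} (X : Fr z Q π ρ s₀ g₀) {s g s' g' : G} (T : Two z Q π ρ s g s' g')
    (h : ∀ v, bil v e0 = 0 → bil v e1 = 0 → bil v e2 = 0 →
      MU z Q π ρ s g s' g' v e2 (bil v e3)) :
    ∃ S G' : Fin 4 → G, Four z Q π ρ S G' := by
  obtain ⟨a, ga, Xa, ea⟩ := X.exists_vec (E_sing 2).1 (E_sing 2).2
  obtain ⟨b, gb, Xb, eb⟩ := X.exists_vec (E_sing 3).1 (E_sing 3).2
  refine ⟨![s, s', a, b], ![g, g', ga, gb], fun i => ?_, fun i => ?_, h⟩
  · fin_cases i
    exacts [T.X, T.X', Xa, Xb]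
  · fin_cases i
    exacts [T.se, T.se', ea, eb]

theorem exists_four {s₀ g₀ : G} (X : Fr z Q π ρ s₀ g₀) :
    ∃ (π : G → V) (ρ : G → V → V) (s g : Fin 4 → G), Four z Q π ρ s g := by
  obtain ⟨b0, b1, b2, b3⟩ := flip_base
  obtain ⟨s, g, s', g', T⟩ := Two.exists_two X
  obtain ⟨m, hm, h⟩ := T.cocycle
  rcases hm with rfl | rfl
  · exact ⟨π, ρ, exists_four_of X T h⟩
  · refine ⟨pi' π, rho' ρ, exists_four_of (flip_fr X)
      ⟨flip_fr T.X, flip_fr T.X', by simp only [pi', T.se, b0], by simp only [pi', T.se', b1]⟩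
      fun v v0 v1 v2 β hβ hvβ β' hβ' hvβ' => ?_⟩
    have h0 : bil (flip3 v) e0 = 0 := by rw [← b0, flip3_bil, v0]
    have h1 : bil (flip3 v) e1 = 0 := by rw [← b1, flip3_bil, v1]
    have h2 : bil (flip3 v) e2 = 0 := by rw [← b2, flip3_bil, v2]
    have hv' := flip_vec hvβ'
    rw [b2] at hv'
    have := h (flip3 v) h0 h1 h2 β hβ (flip_vec hvβ) β' hβ' hv'
    rwa [← b3, flip3_bil] at this

end Cfsg.Agent.CoM24
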