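import Cfsg.Agent.Lib.CoM24.Checks
import Cfsg.Agent.Lib.Golay.OctadSpace
import Cfsg.Agent.Lib.Golay.OctadStab

/-!
Linear actions on the coordinates preserving the octads: they come from the group of the code; if
the image contains the stabiliser of the reference octad and moves it into every class it is the
whole group, with two orbits on the nonzero coordinates.
-/

set_option autoImplicit false
set_option linter.style.haveILetI false
set_option linter.unusedSectionVars false
set_option maxRecDepth 100000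

namespace Cfsg.Agent.CoM24

open Cfsg Cfsg.Agent.Golay Cfsg.Agent.Golay.Cert Cfsg.Agent.Golay.Local Cfsg.Agent.Golay.OctadSpace
open scoped Pointwise

/-- A coordinate. -/
@[ext] structure Coord where
  /-- The number. -/
  y : ℕ
  lt : y < 2048

instance : Mul Coord := ⟨fun a b => ⟨a.y ^^^ b.y, Nat.xor_lt_two_pow (n := 11) a.lt b.lt⟩⟩
instance : One Coord := ⟨⟨0, by norm_num⟩⟩
instance : Inv Coord := ⟨fun a => a⟩

theorem coord_mul (a b : Coord) : (a * b).y = a.y ^^^ b.y := rfl
theorem coord_one : (1 : Coord).y = 0 := rfl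

instance : Group Coord where
  mul_assoc a b c := Coord.ext (Nat.xor_assoc _ _ _)
  one_mul a := Coord.ext (Nat.zero_xor _)
  mul_one a := Coord.ext (Nat.xor_zero _)
  inv_mul_cancel a := Coord.ext (Nat.xor_self _)

/-- The octad of a coordinate in the class of the octads. -/
def octOf (y : ℕ) : ℕ := bif Nat.beq (popCount (word y) 24) 8 then word y else word y ^^^ 16777215

theorem lin_xor : ∀ (l : List ℕ) (x y : ℕ), lin l (x ^^^ y) = lin l x ^^^ lin l y
  | [], x, y => (Nat.xor_self 0).symm
  | a :: l, x, y => by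
    have hdiv : (x ^^^ y) / 2 = x / 2 ^^^ y / 2 := by
      have := Nat.shiftRight_xor_distrib (a := x) (b := y) (i := 1)
      simpa [Nat.shiftRight_eq_div_pow] using this
    simp only [lin, Nat.testBit_xor, hdiv, lin_xor l]
    generalize lin l (x / 2) = u
    generalize lin l (y / 2) = v
    cases x.testBit 0 <;> cases y.testBit 0 <;>
      simp only [cond_true, cond_false, Bool.xor_false, Bool.xor_true, Bool.not_false, Bool.not_true,
        Nat.zero_xor]
    · rw [Nat.xor_left_comm]
    · rw [Nat.xor_assoc]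
    · rw [show a ^^^ u ^^^ (a ^^^ v) = (a ^^^ a) ^^^ (u ^^^ v) by ac_rfl, Nat.xor_self, Nat.zero_xor]

theorem word_xor (x y : ℕ) : word (x ^^^ y) = word x ^^^ word y := lin_xor octW x y

theorem words_ok : ((List.range 2048).all fun y =>
    inF (word y) && Nat.blt (word y) 16777216 &&
      (Nat.beq y 0 || (!(Nat.beq (word y) 0) && !(Nat.beq (word y) 16777215)))) = true := by
  decide +kernel

theorem word_spec {y : ℕ} (hy : y < 2048) : word y ∈ codeList ∧ word y < 2 ^ 24 ∧
    (y ≠ 0 → word y ≠ 0 ∧ word y ≠ 16777215) := by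
  have h := List.all_eq_true.1 words_ok y (List.mem_range.2 hy)
  simp only [Bool.and_eq_true, Nat.blt_eq, Bool.or_eq_true, Nat.beq_eq, Bool.not_eq_true'] at h
  refine ⟨?_, h.1.2, fun h0 => ?_⟩
  · exact inCode_iff.1 (by rw [← inF_eq]; exact h.1.1)
  · rcases h.2 with e | ⟨e1, e2⟩
    · exact absurd e h0
    · exact ⟨fun e => by rw [e] at e1; simp at e1, fun e => by rw [e] at e2; simp at e2⟩

theorem word_injective {x y : ℕ} (hx : x < 2048) (hy : y < 2048)
    (h : word x = word y ∨ word x = word y ^^^ 16777215) : x = y := by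
  by_contra hne
  have hd : x ^^^ y ≠ 0 := fun e => hne (Nat.xor_eq_zero_iff.1 e)
  obtain ⟨h0, h1⟩ := (word_spec (Nat.xor_lt_two_pow (n := 11) hx hy)).2.2 hd
  rw [word_xor] at h0 h1
  rcases h with e | e <;> rw [e] at h0 h1
  · exact h0 (Nat.xor_self _)
  · exact h1 (by rw [Nat.xor_comm _ 16777215, Nat.xor_assoc, Nat.xor_self, Nat.xor_zero])

theorem exists_coord {c : GolayPt → ZMod 2} (hc : c ∈ golayCode) :
    ∃ a : Coord, ofMask (word a.y) = c ∨ ofMask (word a.y) = c + fun _ => 1 := by
  classical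
  let T : Finset ℕ := (Finset.range 2048).image word ∪ (Finset.range 2048).image fun y => word y ^^^ 16777215
  have hsub : T ⊆ codeList.toFinset := by
    intro m hm
    rw [List.mem_toFinset]
    simp only [T, Finset.mem_union, Finset.mem_image, Finset.mem_range] at hm
    rcases hm with ⟨y, hy, rfl⟩ | ⟨y, hy, rfl⟩
    · exact (word_spec hy).1
    · exact spanList_xor _ _ (word_spec hy).1 _ all_mem_codeList
  have hcard : T.card = 4096 := by
    rw [Finset.card_union_of_disjoint, Finset.card_image_of_injOn, Finset.card_image_of_injOn,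
      Finset.card_range]
    · intro x hx y hy e
      simp only [Finset.coe_range, Set.mem_Iio] at hx hy
      exact word_injective hx hy (Or.inl (Nat.xor_left_injective e))
    · intro x hx y hy e
      simp only [Finset.coe_range, Set.mem_Iio] at hx hy
      exact word_injective hx hy (Or.inl e)
    · rw [Finset.disjoint_left]
      intro m hm hm'
      simp only [Finset.mem_image, Finset.mem_range] at hm hm'
      obtain ⟨x, hx, rfl⟩ := hm
      obtain ⟨y, hy, e⟩ := hm'
      obtain rfl := word_injective hx hy (Or.inr e.symm)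
      have := congrArg (fun m => word x ^^^ m) e
      simp at this
  have hlen : codeList.toFinset.card = 4096 := by
    rw [List.toFinset_card_of_nodup codeList_nodup]
    have := congrArg List.length codeList_top
    simpa using this
  have heq := Finset.eq_of_subset_of_card_le hsub (le_of_eq (hlen.trans hcard.symm))
  obtain ⟨m, hm, rfl⟩ := mem_golayCode.1 hc
  have hmT : m ∈ T := by rw [heq, List.mem_toFinset]; exact hm
  simp only [T, Finset.mem_union, Finset.mem_image, Finset.mem_range] at hmT
  rcases hmT with ⟨y, hy, rfl⟩ | ⟨y, hy, rfl⟩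
  · exact ⟨⟨y, hy⟩, Or.inl rfl⟩
  · refine ⟨⟨y, hy⟩, Or.inr ?_⟩
    rw [ofMask_xor, ← one_eq, add_assoc]
    funext p
    simp [CharTwo.add_self_eq_zero]

open Classical in
/-- The coordinate of a word. -/
noncomputable def kap (c : GolayPt → ZMod 2) : Coord :=
  if h : c ∈ golayCode then (exists_coord h).choose else 1

theorem kap_spec {c : GolayPt → ZMod 2} (hc : c ∈ golayCode) :
    ofMask (word (kap c).y) = c ∨ ofMask (word (kap c).y) = c + fun _ => 1 := by
  rw [kap, dif_pos hc]
  exact (exists_coord hc).choose_spec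

theorem kap_eq {c : GolayPt → ZMod 2} (hc : c ∈ golayCode) {a : Coord}
    (h : ofMask (word a.y) = c ∨ ofMask (word a.y) = c + fun _ => 1) : kap c = a := by
  have key : ofMask (word (kap c).y) = ofMask (word a.y) ∨
      ofMask (word (kap c).y) = ofMask (word a.y ^^^ 16777215) := by
    rw [ofMask_xor, ← one_eq]
    rcases kap_spec hc with e | e <;> rcases h with e' | e'
    · exact Or.inl (e.trans e'.symm)
    · right; rw [e, e']; funext p; simp [add_assoc, CharTwo.add_self_eq_zero]
    · right; rw [e, e']; rfl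
    · exact Or.inl (e.trans e'.symm)
  have hlt := (word_spec (kap c).lt).2.1
  have hlt' := (word_spec a.lt).2.1
  refine Coord.ext (word_injective (kap c).lt a.lt ?_)
  rcases key with e | e
  · exact Or.inl (ofMask_inj hlt hlt' e)
  · exact Or.inr (ofMask_inj hlt (Nat.xor_lt_two_pow (n := 24) hlt' (by norm_num)) e)

theorem model : Model kap where
  mul x hx y hy := kap_eq (add_mem hx hy) (by
    rw [coord_mul, word_xor, ofMask_xor]
    rcases kap_spec hx with e | e <;> rcases kap_spec hy with e' | e' <;> rw [e, e']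
    · exact Or.inl rfl
    · right; abel
    · right; abel
    · left; funext p
      show x p + 1 + (y p + 1) = x p + y p
      rw [add_add_add_comm, CharTwo.add_self_eq_zero, add_zero])
  surj a := ⟨ofMask (word a.y), mem_golayCode.2 ⟨_, (word_spec a.lt).1, rfl⟩,
    kap_eq (mem_golayCode.2 ⟨_, (word_spec a.lt).1, rfl⟩) (Or.inl rfl)⟩
  ker x hx := by
    have h0 : ofMask (word (1 : Coord).y) = 0 := by
      rw [coord_one, show word 0 = 0 by decide +kernel, ofMask_zero]
    constructor
    · intro e
      have := kap_spec hx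
      rw [e, h0] at this
      rcases this with e' | e'
      · exact Or.inl e'.symm
      · refine Or.inr (funext fun p => ?_)
        have := congrFun e' p
        simp only [Pi.zero_apply, Pi.add_apply] at this
        exact CharTwo.add_eq_zero.1 this.symm
    · rintro (rfl | rfl)
      · exact kap_eq hx (Or.inl h0)
      · refine kap_eq hx (Or.inr ?_)
        rw [h0]
        funext p
        simp [CharTwo.add_self_eq_zero]

theorem octOf_spec {y : ℕ} (hy : y < 2048) (hB : octB y = true) :
    maskSet (octOf y) ∈ octads ∧ kap (ind (maskSet (octOf y))) = ⟨y, hy⟩ := by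
  obtain ⟨hmem, hlt, -⟩ := word_spec hy
  have key : ∃ m, (m = word y ∨ m = word y ^^^ 16777215) ∧ octOf y = m ∧ popCount m 24 = 8 ∧ m ∈ codeList := by
    simp only [octB, Bool.or_eq_true, Nat.beq_eq] at hB
    rcases hB with e | e
    · exact ⟨word y, Or.inl rfl, by simp [octOf, e], e, hmem⟩
    · refine ⟨word y ^^^ 16777215, Or.inr rfl, by unfold octOf; rw [e]; rfl, ?_, spanList_xor _ _ hmem _ all_mem_codeList⟩
      have hset : maskSet (word y ^^^ 16777215) = Finset.univ \ maskSet (word y) := by
        ext p; simp [mem_maskSet, testBit_full (idx_lt p)]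
      rw [← card_maskSet, hset, Finset.card_sdiff_of_subset (Finset.subset_univ _), card_maskSet, e]
      rfl
  obtain ⟨m, hm, ho, hpc, hmc⟩ := key
  have hoct : maskSet m ∈ octads := mem_octads.2 ⟨m, mem_octadList.2 ⟨hmc, hpc⟩, rfl⟩
  rw [ho]
  refine ⟨hoct, kap_eq (ind_octad hoct) ?_⟩
  rw [← ofMask_eq_ind]
  rcases hm with rfl | rfl
  · exact Or.inl rfl
  · refine Or.inr ?_
    rw [ofMask_xor, ← one_eq]
    funext p
    simp [add_assoc, CharTwo.add_self_eq_zero]

theorem kap_octad {o : Finset GolayPt} (ho : o ∈ octads) :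
    (kap (ind o)).y ≠ 0 ∧ octB (kap (ind o)).y = true ∧ maskSet (octOf (kap (ind o)).y) = o := by
  obtain ⟨m, hm, rfl⟩ := mem_octads.1 ho
  obtain ⟨hmc, hpc⟩ := mem_octadList.1 hm
  have hlt := lt_of_mem_octadList hm
  set a := kap (ind (maskSet m))
  have h := kap_spec (ind_octad ho)
  have hw : word a.y = m ∨ word a.y = m ^^^ 16777215 := by
    rcases h with e | e
    · exact Or.inl (ofMask_inj (word_spec a.lt).2.1 hlt (e.trans (ofMask_eq_ind m).symm))
    · refine Or.inr (ofMask_inj (word_spec a.lt).2.1 (Nat.xor_lt_two_pow (n := 24) hlt (by norm_num)) ?_)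
      rw [e, ofMask_xor, ← one_eq, ofMask_eq_ind]
      rfl
  have hfull : popCount (m ^^^ 16777215) 24 = 16 := by
    have hset : maskSet (m ^^^ 16777215) = Finset.univ \ maskSet m := by
      ext p; simp [mem_maskSet, testBit_full (idx_lt p)]
    rw [← card_maskSet, hset, Finset.card_sdiff_of_subset (Finset.subset_univ _), card_maskSet, hpc]
    rfl
  have hB : octB a.y = true := by
    simp only [octB, Bool.or_eq_true, Nat.beq_eq]
    rcases hw with e | e <;> rw [e]
    exacts [Or.inl hpc, Or.inr hfull]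
  refine ⟨fun h0 => ?_, hB, ?_⟩
  · rw [h0] at hB
    exact absurd hB (by decide +kernel)
  · exact model.octad_inj (octOf_spec a.lt hB).1 ho (octOf_spec a.lt hB).2

theorem octad_one : octB 1 = true ∧ octOf 1 = refOctad := by decide +kernel

variable {N : Type*} [Group N] {f : N → ℕ → ℕ}

/-- A linear action on the coordinates preserving the octads. -/
structure Act (f : N → ℕ → ℕ) : Prop where
  lt : ∀ n y, y < 2048 → f n y < 2048
  mul : ∀ n m y, y < 2048 → f (n * m) y = f n (f m y)
  one : ∀ y, y < 2048 → f 1 y = y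
  xor : ∀ n x y, x < 2048 → y < 2048 → f n (x ^^^ y) = f n x ^^^ f n y
  oct : ∀ n y, y ≠ 0 → y < 2048 → octB (f n y) = octB y

/-- What the map to the group of the code satisfies. -/
def Compat (f : N → ℕ → ℕ) (Φ : N →* ↥M24) : Prop :=
  ∀ n y, y < 2048 →
    ofMask (word (f n y)) = moved (Φ n : Equiv.Perm GolayPt) (ofMask (word y)) ∨
      ofMask (word (f n y)) = moved (Φ n : Equiv.Perm GolayPt) (ofMask (word y)) + fun _ => 1

/-- An action preserving the octads comes from the group of the code. -/
theorem octad_hom (h : Act f) : ∃ Φ : N →* ↥M24,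
    (∀ n, Φ n = 1 ↔ ∀ y < 2048, f n y = y) ∧ Compat f Φ := by
  let g : N → Coord → Coord := fun n a => ⟨f n a.y, h.lt n a.y a.lt⟩
  have g1 : ∀ a, g 1 a = a := fun a => Coord.ext (h.one a.y a.lt)
  have gm : ∀ n m a, g (n * m) a = g n (g m a) := fun n m a => Coord.ext (h.mul n m a.y a.lt)
  let φ : N →* MulAut Coord := MonoidHom.mk' (fun n =>
    { toFun := g n
      invFun := g n⁻¹
      left_inv := fun a => by rw [← gm, inv_mul_cancel, g1]
      right_inv := fun a => by rw [← gm, mul_inv_cancel, g1]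
      map_mul' := fun a b => Coord.ext (h.xor n a.y b.y a.lt b.lt) })
    fun n m => MulEquiv.ext fun a => gm n m a
  have hpres : ∀ n, Preserves kap (φ n) := by
    intro n o ho
    obtain ⟨h0, hB, -⟩ := kap_octad ho
    rw [← h.oct n _ h0 (kap (ind o)).lt] at hB
    obtain ⟨h1, h2⟩ := octOf_spec (h.lt n _ (kap (ind o)).lt) hB
    exact ⟨_, h1, h2.symm⟩
  obtain ⟨Φ, hker, hcomp⟩ := model.exists_hom φ hpres
  refine ⟨Φ, fun n => ?_, fun n y hy => ?_⟩
  · rw [← MonoidHom.mem_ker, hker, MonoidHom.mem_ker]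
    exact ⟨fun e y hy => by simpa [φ, g] using congrArg Coord.y (DFunLike.congr_fun e (⟨y, hy⟩ : Coord)),
      fun e => MulEquiv.ext fun a => Coord.ext (e a.y a.lt)⟩
  · have hc : ofMask (word y) ∈ golayCode := mem_golayCode.2 ⟨_, (word_spec hy).1, rfl⟩
    have e : kap (ofMask (word y)) = ⟨y, hy⟩ := kap_eq hc (Or.inl rfl)
    have h2 := hcomp n _ hc
    rw [e] at h2
    have := kap_spec (moved_mem (Φ n).2 hc)
    rwa [← h2] at this

theorem Compat.octOf {Φ : N →* ↥M24} (h : Act f) (hΦ : Compat f Φ) (n : N) {y : ℕ} (hy0 : y ≠ 0)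
    (hy : y < 2048) (hB : octB y = true) :
    maskSet (CoM24.octOf (f n y)) = (Φ n : Equiv.Perm GolayPt) • maskSet (CoM24.octOf y) := by
  obtain ⟨ho, hk⟩ := octOf_spec hy hB
  obtain ⟨ho', hk'⟩ := octOf_spec (h.lt n y hy) ((h.oct n y hy0 hy).trans hB)
  refine model.octad_inj ho' (smul_octad (Φ n).2 ho) (hk'.trans (kap_eq (ind_octad (smul_octad (Φ n).2 ho)) ?_).symm)
  rw [← moved_ind]
  have h1 : ofMask (word y) = ind (maskSet (CoM24.octOf y)) ∨
      ofMask (word y) = ind (maskSet (CoM24.octOf y)) + fun _ => 1 := by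
    have := kap_spec (ind_octad ho)
    rwa [hk] at this
  rcases hΦ n y hy with e | e <;> rcases h1 with e' | e' <;> simp only [] <;> rw [e, e']
  · exact Or.inl rfl
  · exact Or.inr (funext fun p => rfl)
  · exact Or.inr rfl
  · refine Or.inl (funext fun p => ?_)
    simp [moved, add_assoc, CharTwo.add_self_eq_zero]

/-- The image is everything if it contains the stabiliser of an octad and meets all classes. -/
theorem octad_surjective (h : Act f) {Φ : N →* ↥M24} (hΦ : Compat f Φ) (H : Subgroup N)
    (hH : ∀ n ∈ H, f n 1 = 1) (hcard : 322560 ≤ Nat.card ↥(H.map Φ))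
    (hreach : ∀ k ∈ [0, 2, 4], ∃ n, popCount (octOf (f n 1) &&& refOctad) 24 = k) :
    Function.Surjective Φ := by
  classical
  have href : maskSet (CoM24.octOf 1) = refOct := by rw [octad_one.2]
  have hle : (H.map Φ).map M24.subtype ≤ stOct refOct := by
    rintro _ ⟨_, ⟨n, hn, rfl⟩, rfl⟩
    refine mem_stOct.2 ⟨(Φ n).2, ?_⟩
    have := hΦ.octOf h n one_ne_zero (by norm_num) octad_one.1
    rw [hH n hn, href] at this
    exact this.symm
  have heq : (H.map Φ).map M24.subtype = stOct refOct :=
    Subgroup.eq_of_le_of_card_ge hle (by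
      rw [card_stOct refOct_mem, Subgroup.card_map_of_injective M24.subtype_injective]; exact hcard)
  have hst : ∀ σ ∈ stOct refOct, ∃ n, (Φ n : Equiv.Perm GolayPt) = σ := by
    intro σ hσ
    rw [← heq] at hσ
    obtain ⟨_, ⟨n, -, rfl⟩, rfl⟩ := hσ
    exact ⟨n, rfl⟩
  intro σ
  obtain ⟨m, hm, hme⟩ := mem_octads.1 (smul_octad σ.2 refOct_mem)
  obtain ⟨i, hi⟩ : ∃ i, (Φ i : Equiv.Perm GolayPt) • refOct = (σ : Equiv.Perm GolayPt) • refOct := by
    have hclass : ∀ n, popCount (refOctad &&& CoM24.octOf (f n 1)) 24 = popCount (refOctad &&& m) 24 →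
        ∃ i, (Φ i : Equiv.Perm GolayPt) • refOct = (σ : Equiv.Perm GolayPt) • refOct := by
      intro n hn
      have hB : octB (f n 1) = true := (h.oct n 1 one_ne_zero (by norm_num)).trans octad_one.1
      have hsm := hΦ.octOf h n one_ne_zero (by norm_num) octad_one.1
      rw [href] at hsm
      obtain ⟨m', hm', hme'⟩ := mem_octads.1 (octOf_spec (h.lt n 1 (by norm_num)) hB).1
      have hm'' : CoM24.octOf (f n 1) = m' := by
        refine (maskSet_inj ?_ (lt_of_mem_octadList hm') hme'.symm)
        unfold CoM24.octOf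
        obtain ⟨-, hlt, -⟩ := word_spec (h.lt n 1 (by norm_num))
        cases Nat.beq (popCount (word (f n 1)) 24) 8
        · exact Nat.xor_lt_two_pow (n := 24) hlt (by norm_num)
        · exact hlt
      rw [hm''] at hn
      obtain ⟨g, hg, hgm⟩ := classes_transitive oct_classes hm' hm hn
      obtain ⟨j, hj⟩ := hst g (mem_stOct.2 ⟨hg.1, hg.2 refOctad (List.mem_singleton_self _)⟩)
      refine ⟨j * n, ?_⟩
      rw [map_mul, Subgroup.coe_mul, mul_smul, hj, ← hsm, ← hme', hgm, hme]
    have hcl := List.all_eq_true.1 (show ((octadList.map fun m => popCount (refOctad &&& m) 24).all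
      fun k => memB k [0, 2, 4, 8]) = true by decide +kernel) _ (List.mem_map.2 ⟨m, hm, rfl⟩)
    have hcl' := memB_spec hcl
    simp only [List.mem_cons, List.not_mem_nil, or_false] at hcl'
    rcases hcl' with e | e | e | e
    · obtain ⟨n, hn⟩ := hreach 0 (by simp); exact hclass n (by rw [Nat.and_comm, hn, e])
    · obtain ⟨n, hn⟩ := hreach 2 (by simp); exact hclass n (by rw [Nat.and_comm, hn, e])
    · obtain ⟨n, hn⟩ := hreach 4 (by simp); exact hclass n (by rw [Nat.and_comm, hn, e])
    · refine hclass 1 ?_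
      rw [h.one 1 (by norm_num), octad_one.2, e]
      decide +kernel
  obtain ⟨j, hj⟩ := hst ((Φ i : Equiv.Perm GolayPt)⁻¹ * σ)
    (mem_stOct.2 ⟨mul_mem (inv_mem (Φ i).2) σ.2, by rw [mul_smul, inv_smul_eq_iff, hi]⟩)
  refine ⟨i * j, Subtype.ext ?_⟩
  rw [map_mul, Subgroup.coe_mul, hj, mul_inv_cancel_left]

/-- The image is large if the subgroup is, compared with its elements acting trivially. -/
theorem card_map_ge {Φ : N →* ↥M24} (hker : ∀ n, Φ n = 1 ↔ ∀ y < 2048, f n y = y) (H : Subgroup N)
    (hcard : 322560 * Nat.card {n : N // n ∈ H ∧ ∀ y < 2048, f n y = y} ≤ Nat.card H) [Finite N] :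
    322560 ≤ Nat.card ↥(H.map Φ) := by
  have h1 := Subgroup.card_eq_card_quotient_mul_card_subgroup (Φ.subgroupMap H).ker
  rw [Nat.card_congr (QuotientGroup.quotientKerEquivOfSurjective _ (Φ.subgroupMap_surjective H)).toEquiv] at h1
  have h2 : Nat.card (Φ.subgroupMap H).ker = Nat.card {n : N // n ∈ H ∧ ∀ y < 2048, f n y = y} :=
    Nat.card_congr
      { toFun := fun k => ⟨k.1.1, k.1.2, (hker _).1 (congrArg Subtype.val k.2)⟩
        invFun := fun n => ⟨⟨n.1, n.2.1⟩, Subtype.ext ((hker _).2 n.2.2)⟩
        left_inv := fun _ => rfl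
        right_inv := fun _ => rfl }
  rw [h1, h2] at hcard
  exact Nat.le_of_mul_le_mul_right hcard (Nat.card_pos_iff.2 ⟨⟨⟨1, one_mem _, fun y _ => by
    rw [(hker 1).1 (map_one Φ) y ‹_›]⟩⟩, inferInstance⟩)

/-- Two orbits on the nonzero coordinates. -/
theorem octad_orbits (h : Act f) {Φ : N →* ↥M24} (hΦ : Compat f Φ) (hs : Function.Surjective Φ) :
    ∃ a b : ℕ, a ≠ 0 ∧ b ≠ 0 ∧ a < 2048 ∧ b < 2048 ∧ (∀ n, f n a ≠ b) ∧
      ∀ c, c ≠ 0 → c < 2048 → ∃ n, f n c = a ∨ f n c = b := by
  have hmov : ∀ n y (hy : y < 2048), kap (moved (Φ n : Equiv.Perm GolayPt) (ofMask (word y))) =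
      ⟨f n y, h.lt n y hy⟩ := fun n y hy =>
    kap_eq (moved_mem (Φ n).2 (mem_golayCode.2 ⟨_, (word_spec hy).1, rfl⟩)) (hΦ n y hy)
  have htrans : ∀ (s t : Finset GolayPt), ind s ∈ golayCode → ∀ σ ∈ M24, σ • s = t →
      ∃ n, f n (kap (ind s)).y = (kap (ind t)).y := by
    intro s t hs' σ hσ hst
    obtain ⟨n, hn⟩ := hs ⟨σ, hσ⟩
    refine ⟨n, congrArg Coord.y (?_ : (⟨f n (kap (ind s)).y, h.lt n _ (kap (ind s)).lt⟩ : Coord) = kap (ind t))⟩
    rw [← hmov n _ (kap (ind s)).lt, hn, ← hst, ← moved_ind]
    have hmem := moved_mem hσ hs'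
    rcases kap_spec hs' with e | e <;> rw [e]
    refine (model.eq_iff (moved_mem hσ (add_mem hs' one_mem_code)) hmem).2 (Or.inr ?_)
    rfl
  have hdod : ∀ d ∈ dodecads, ind d ∈ golayCode := fun d hd => by
    obtain ⟨m, hm, rfl⟩ := mem_dodecads.1 hd
    rw [← ofMask_eq_ind]
    exact mem_golayCode.2 ⟨m, (mem_dodecadList.1 hm).1, rfl⟩
  set a := kap (ind refOct) with ha
  set b := kap (ind Spor.squareDodecad) with hb
  obtain ⟨ha0, haB, -⟩ := kap_octad refOct_mem
  have hb0 : b.y ≠ 0 := by
    intro e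
    have e1 : b = 1 := Coord.ext e
    rcases (model.ker _ (hdod _ squareDodecad_mem)).1 e1 with e' | e'
    all_goals
      have := congrArg (fun w => (support₂ w).card) e'
      simp only [support_ind, card_dodecad' squareDodecad_mem] at this
    · simp [support₂] at this
    · rw [show support₂ (fun _ : GolayPt => (1 : ZMod 2)) = Finset.univ by ext; simp [support₂],
        Finset.card_univ, show Fintype.card GolayPt = 24 from rfl] at this
      omega
  have hbB : octB b.y = false := by
    rw [← Bool.not_eq_true]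
    intro hB
    obtain ⟨ho, hk⟩ := octOf_spec b.lt hB
    rcases (model.eq_iff (ind_octad ho) (hdod _ squareDodecad_mem)).1 (hk.trans rfl) with e | e
    · have := congrArg (fun w => (support₂ w).card) e
      simp only [support_ind, card_dodecad' squareDodecad_mem, card_octad ho] at this
      omega
    · have hc : maskSet (octOf b.y) = Finset.univ \ Spor.squareDodecad := by
        ext p
        have hp' := congrFun e p
        simp only [ind, Pi.add_apply] at hp'
        by_cases hp : p ∈ maskSet (octOf b.y) <;> by_cases hq : p ∈ Spor.squareDodecad <;>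
          simp [hp, hq] at hp' ⊢
      have := card_octad ho
      rw [hc, Finset.card_sdiff_of_subset (Finset.subset_univ _), card_dodecad' squareDodecad_mem,
        Finset.card_univ, show Fintype.card GolayPt = 24 from rfl] at this
      omega
  refine ⟨a.y, b.y, ha0, hb0, a.lt, b.lt, fun n e => ?_, fun c hc0 hc => ?_⟩
  · have := h.oct n a.y ha0 a.lt
    rw [e, hbB, haB] at this
    exact Bool.false_ne_true this
  · rcases model.cases (h := (⟨c, hc⟩ : Coord)) (fun e => hc0 (congrArg Coord.y e)) with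
      ⟨o, ho, e⟩ | ⟨d, hd, e⟩
    · obtain ⟨σ, hσ, hst⟩ := exists_M24_octad ho refOct_mem
      obtain ⟨n, hn⟩ := htrans o refOct (ind_octad ho) σ hσ hst
      rw [← e] at hn
      exact ⟨n, Or.inl hn⟩
    · obtain ⟨σ, hσ, hst⟩ := exists_M24_dodecad hd
      obtain ⟨n, hn⟩ := htrans d Spor.squareDodecad (hdod d hd) σ⁻¹ (inv_mem hσ)
        (by rw [inv_smul_eq_iff, hst])
      rw [← e] at hn
      exact ⟨n, Or.inr hn⟩

end Cfsg.Agent.CoM24
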