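import Cfsg.Agent.Lib.CoM24.Images
import Cfsg.Agent.Lib.CoM24.Stab
import Cfsg.Agent.Lib.CoM24.OctadAut

/-!
In suitable coordinates the conjugates of the central involution are the octads.
-/

set_option autoImplicit false
set_option linter.style.haveILetI false
set_option linter.unusedSectionVars false
set_option maxRecDepth 100000
set_option maxHeartbeats 400000
set_option synthInstance.maxSize 4000
set_option synthInstance.maxHeartbeats 400000

namespace Cfsg.Agent.CoM24

open Cfsg.Agent.CoT Subgroup LargeExtra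
open Cfsg.Agent.Golay (popCount)
open Cfsg.Agent.Golay.Cert (refOctad)

/-- The change of signs as a list. -/
def twistL (δ : ℕ) : List ℕ :=
  [1, 2, 4, 8, 16, 32 ^^^ δ % 2, 64 ^^^ δ / 2 % 2, 128 ^^^ δ / 4 % 2, 256 ^^^ δ / 8 % 2,
    512 ^^^ δ / 16 % 2, 1024 ^^^ δ / 32 % 2]

theorem twist_ok : (sols.all fun p => (List.range 2048).all fun y =>
    Nat.beq (lin (twistL p.2.2.2.2) y) (twist p.2.2.2.2 y) &&
      Nat.beq (twist p.2.2.2.2 (twist p.2.2.2.2 y)) y && Nat.blt (twist p.2.2.2.2 y) 2048 &&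
      Nat.beq (om (twist p.2.2.2.2 y)) (om y) && (low (twist p.2.2.2.2 y) == low y)) = true := by
  decide +kernel

theorem class_table : ((List.range 2048).all fun y => Nat.beq y 0 || !(octT y) ||
    (let k := popCount (octOf y &&& refOctad) 24
    bif Nat.beq (om y) 0 then Nat.beq y 1 || Nat.beq k 0
    else bif low y then Nat.beq k 4 else Nat.beq k 2)) = true := by decide +kernel

theorem sol_high : (sols.all fun p => (List.range' 288 32).all fun y =>
    !(critT y) || !(low (sw p.1 p.2.1 p.2.2.1 p.2.2.2.1 y))) = true := by decide +kernel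

theorem sol_mid : (sols.all fun p => (List.range 4).all fun v =>
    Nat.beq (om (sw p.1 p.2.1 p.2.2.1 p.2.2.2.1 (6 ^^^ v))) 1) = true := by decide +kernel

theorem low_first : ((List.range' 32 32).all fun y => low y) = true ∧
    ((List.range' 288 32).all fun y => low y) = true := by decide +kernel

theorem act_mid : act 6 1 = 9 ∧ gv 3 (E 0) = E 0 + E 1 := by decide +kernel

theorem sols_len : sols.length = 8 := rfl

theorem sols_all : ∀ i, i < 8 → (sols[i]?).all solOK = true
  | 0, _ => sol_ok_0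
  | 1, _ => sol_ok_1
  | 2, _ => sol_ok_2
  | 3, _ => sol_ok_3
  | 4, _ => sol_ok_4
  | 5, _ => sol_ok_5
  | 6, _ => sol_ok_6
  | 7, _ => sol_ok_7
  | n + 8, h => absurd h (Nat.not_lt.2 (Nat.le_add_left 8 n))

theorem sol_ok_all : ∀ p ∈ sols, solOK p = true := by
  intro p hp
  obtain ⟨i, hi⟩ := List.mem_iff_getElem?.1 hp
  have h := sols_all i (sols_len ▸ (List.getElem?_eq_some_iff.1 hi).1)
  rw [hi, Option.all_some] at h
  exact h

theorem lt11 {x y : ℕ} (hx : x < 2048) (hy : y < 2048) : x ^^^ y < 2048 :=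
  Nat.xor_lt_two_pow (n := 11) hx hy

theorem swapL_lt (pq a b c : ℕ) : ∀ x ∈ swapL pq a b c, x < 2048 := by
  have h6 : ∀ L : List ℕ, (∀ x ∈ L, x < 2048) → ∀ y, lin L y < 2048 := lin_lt
  simp only [swapL, freeX, List.forall_mem_cons, List.not_mem_nil, IsEmpty.forall_iff, implies_true, and_true]
  refine ⟨by norm_num, by norm_num, by norm_num, by norm_num, by norm_num, ?_, ?_, ?_, ?_, ?_, ?_⟩
  all_goals
    refine lt11 ?_ (h6 _ (by simp) _)
    decide

theorem sw_lt (pq a b c y : ℕ) : sw pq a b c y < 2048 := lin_lt _ (swapL_lt pq a b c) y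

theorem beq_false' {a b : ℕ} (h : a ≠ b) : Nat.beq a b = false := by
  cases e : Nat.beq a b
  · rfl
  · exact absurd (Nat.eq_of_beq_eq_true e) h

theorem lin_congr : ∀ (L L' : List ℕ) (y : ℕ),
    (∀ k, Nat.testBit y k = true → L.getD k 0 = L'.getD k 0) → lin L y = lin L' y
  | [], [], _, _ => rfl
  | [], b :: L', y, h => by
    have ih := lin_congr [] L' (y / 2) fun k hk => by
      simpa using h (k + 1) (by rw [Nat.testBit_add_one]; exact hk)
    have hd : (bif Nat.testBit y 0 then b else 0) = 0 := by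
      cases h0 : Nat.testBit y 0
      · rfl
      · simpa using (h 0 h0).symm
    simp only [lin, hd, Nat.zero_xor] at ih ⊢
    exact ih
  | a :: L, [], y, h => by
    have ih := lin_congr L [] (y / 2) fun k hk => by
      simpa using h (k + 1) (by rw [Nat.testBit_add_one]; exact hk)
    have hd : (bif Nat.testBit y 0 then a else 0) = 0 := by
      cases h0 : Nat.testBit y 0
      · rfl
      · simpa using h 0 h0
    simp only [lin, hd, Nat.zero_xor] at ih ⊢
    exact ih
  | a :: L, b :: L', y, h => by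
    have ih := lin_congr L L' (y / 2) fun k hk => by
      simpa using h (k + 1) (by rw [Nat.testBit_add_one]; exact hk)
    have hd : (bif Nat.testBit y 0 then a else 0) = (bif Nat.testBit y 0 then b else 0) := by
      cases h0 : Nat.testBit y 0
      · rfl
      · simpa using h 0 h0
    simp only [lin, hd, ih]

theorem bit_zero {y m k : ℕ} (h : y &&& m = 0) (hm : Nat.testBit m k = true) :
    Nat.testBit y k = false := by
  have := congrArg (fun n => Nat.testBit n k) h
  simpa [hm] using this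

theorem sw_part {t : ℕ} (ht : t < 3) (pq x0 x1 x2 X y : ℕ) (hX : X = [x0, x1, x2].getD t 0)
    (hy : y &&& (2047 - (255 + 256 * 2 ^ t)) = 0) :
    sw pq (bif Nat.beq t 0 then X else 0) (bif Nat.beq t 1 then X else 0) (bif Nat.beq t 2 then X else 0) y =
      sw pq x0 x1 x2 y := by
  subst hX
  refine lin_congr _ _ _ fun k hk => ?_
  interval_cases t
  all_goals
    rcases k with _ | _ | _ | _ | _ | _ | _ | _ | _ | _ | _ | k
    all_goals first
      | rfl
      | exact absurd hk (by rw [bit_zero hy (by decide)]; exact Bool.false_ne_true)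

theorem block_ok {t : ℕ} (ht : t < 3) {i : ℕ} (hi : i < 2048) : oneOK t (i / 32) (i % 32) = true := by
  have key : ∀ lo, oneBlock t lo = true → lo ≤ i → i < lo + 512 → oneOK t (i / 32) (i % 32) = true :=
    fun lo h h1 h2 => List.all_eq_true.1 h i (List.mem_range'_1.2 ⟨h1, h2⟩)
  rcases (show i < 512 ∨ (512 ≤ i ∧ i < 1024) ∨ (1024 ≤ i ∧ i < 1536) ∨ (1536 ≤ i ∧ i < 2048) by omega)
    with h | h | h | h <;> interval_cases t
  exacts [key 0 one_0_0 (by omega) (by omega), key 0 one_1_0 (by omega) (by omega),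
    key 0 one_2_0 (by omega) (by omega), key 512 one_0_1 (by omega) (by omega),
    key 512 one_1_1 (by omega) (by omega), key 512 one_2_1 (by omega) (by omega),
    key 1024 one_0_2 (by omega) (by omega), key 1024 one_1_2 (by omega) (by omega),
    key 1024 one_2_2 (by omega) (by omega), key 1536 one_0_3 (by omega) (by omega),
    key 1536 one_1_3 (by omega) (by omega), key 1536 one_2_3 (by omega) (by omega)]

variable {G : Type*} [Group G] [Finite G] {z : G} {Q : Subgroup G} {π : G → V} {ρ : G → V → V}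
  {s g : Fin 4 → G}

theorem conj_iff_conj (c x y : G) (h : c * x * c⁻¹ = y) : IsConj z x ↔ IsConj z y :=
  ⟨fun e => e.trans (isConj_iff.2 ⟨c, h⟩), fun e => e.trans (isConj_iff.2 ⟨c, h⟩).symm⟩

/-- Coordinates of the abelian subgroup in which the conjugates of the central involution are the octads. -/
structure OctCoords (z : G) (s : Fin 4 → G) (e : ℕ → G) : Prop where
  mem : ∀ y, e y ∈ AA z s
  xor : ∀ x y, x < 2048 → y < 2048 → e (x ^^^ y) = e x * e y
  inj : ∀ x y, x < 2048 → y < 2048 → e x = e y → x = y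
  surj : ∀ a ∈ AA z s, ∃ y < 2048, e y = a
  one : e 1 = z
  oct : ∀ y, y ≠ 0 → y < 2048 → (IsConj z (e y) ↔ octB y = true)

namespace Four

variable (X : Four z Q π ρ s g) {r : Fin 6 → G} (hr : RSys z Q π ρ s g r) {a : Fin 4 → G}
  (ha : TSys Q π a) {n : G} {pq x0 x1 x2 : ℕ}
include X hr ha

theorem no_fail (hn : ∀ y, n * eg z s r y * n⁻¹ = eg z s r (sw pq x0 x1 x2 y)) (p : ℕ × ℕ) :
    p.1 < 2048 → fails pq x0 x1 x2 p = false := by
  intro hp
  unfold fails
  simp only
  set u := bif Nat.beq p.2 16 then sw pq x0 x1 x2 p.1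
    else sw pq x0 x1 x2 (tq p.2 (sw pq x0 x1 x2 p.1)) with hu
  have hult : u < 2048 := by rw [hu]; cases Nat.beq p.2 16 <;> exact sw_lt _ _ _ _ _
  have hI : IsConj z (eg z s r p.1) ↔ IsConj z (eg z s r u) := by
    rw [hu]
    cases Nat.beq p.2 16
    · exact (conj_iff_conj _ _ _ (hn p.1)).trans
        ((conj_iff_conj _ _ _ (X.tq_conj hr ha p.2 _)).trans (conj_iff_conj _ _ _ (hn _)))
    · exact conj_iff_conj _ _ _ (hn p.1)
  cases hl : low p.1
  · rfl
  cases hlu : low u
  · rfl
  rw [X.crit_conj hr ha hp hl, X.crit_conj hr ha hult hlu] at hI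
  cases h1 : critT p.1 <;> cases h2 : critT u <;> simp_all

theorem params_sol (hpq : pq < 64) (h0 : x0 < 32) (h1 : x1 < 32) (h2 : x2 < 32)
    (hn : ∀ y, n * eg z s r y * n⁻¹ = eg z s r (sw pq x0 x1 x2 y)) :
    ∃ δ, (pq, x0, x1, x2, δ) ∈ sols := by
  have hone : ∀ t, t < 3 → (pq, [x0, x1, x2].getD t 0) ∈ oneGood.getD t [] := by
    intro t ht
    set Xt := [x0, x1, x2].getD t 0 with hXt
    have hX : Xt < 32 := by interval_cases t <;> simpa [hXt]
    have h := block_ok ht (i := pq * 32 + Xt) (by omega)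
    rw [show (pq * 32 + Xt) / 32 = pq by omega, show (pq * 32 + Xt) % 32 = Xt by omega] at h
    simp only [oneOK, Bool.or_eq_true, List.any_eq_true] at h
    rcases h with ⟨p, hp, hw⟩ | ⟨g', hg, he⟩
    · exfalso
      have hlt : ∀ t < 3, ∀ p ∈ oneTests.getD t [], p.1 < 2048 := by decide +kernel
      have hf := X.no_fail hr ha hn p (hlt t ht p hp)
      simp only [within, Bool.and_eq_true, Nat.beq_eq] at hw
      obtain ⟨⟨w1, w2⟩, w3⟩ := hw
      have e1 := sw_part ht pq x0 x1 x2 Xt p.1 hXt w1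
      rw [e1] at w2
      have e2 := sw_part ht pq x0 x1 x2 Xt _ hXt w2
      unfold fails at w3 hf
      simp only [e1, e2] at w3
      rw [hf] at w3
      exact Bool.noConfusion w3
    · simp only [Bool.and_eq_true, Nat.beq_eq] at he
      obtain ⟨a', b'⟩ := g'
      simp only at he
      rw [← he.1, ← he.2]
      exact hg
  have hj := List.all_eq_true.1 (List.all_eq_true.1 joint_ok _ (hone 0 (by norm_num))) _ (hone 1 (by norm_num))
  simp only [List.getD_cons_zero, List.getD_cons_succ, Nat.beq_refl, Bool.not_true, Bool.false_or] at hj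
  have hj2 := List.all_eq_true.1 hj _ (hone 2 (by norm_num))
  simp only [List.getD_cons_zero, List.getD_cons_succ, Nat.beq_refl, Bool.not_true, Bool.false_or,
    Bool.or_eq_true, List.any_eq_true, Bool.and_eq_true, Nat.beq_eq] at hj2
  rcases hj2 with ⟨⟨a', b', c', d', δ⟩, hs, he⟩ | ⟨p, hp, hf⟩
  · simp only at he
    obtain ⟨⟨⟨e1, e2⟩, e3⟩, e4⟩ := he
    subst e1 e2 e3 e4
    exact ⟨δ, hs⟩
  · have hlt : ∀ p ∈ jointTests, p.1 < 2048 := by decide +kernel
    rw [X.no_fail hr ha hn p (hlt p hp)] at hf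
    exact Bool.noConfusion hf

theorem conj_octT {δ : ℕ} (hs : (pq, x0, x1, x2, δ) ∈ sols)
    (hn : ∀ y, n * eg z s r y * n⁻¹ = eg z s r (sw pq x0 x1 x2 y)) {y : ℕ} (hy0 : y ≠ 0) (hy : y < 2048) :
    IsConj z (eg z s r y) ↔ octT (twist δ y) = true := by
  have h := List.all_eq_true.1 (sol_ok_all _ hs) (y - 1) (List.mem_range.2 (by omega))
  simp only [show y - 1 + 1 = y by omega] at h
  cases hl : low y
  · rw [hl] at h
    simp only [cond_false] at h
    split at h
    · rename_i v hv
      simp only [beq_iff_eq] at h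
      have hlv : low (sw pq x0 x1 x2 (tq v y)) = true :=
        List.find?_some (p := fun x => low (sw pq x0 x1 x2 (tq x y))) hv
      rw [← h, ← X.crit_conj hr ha (sw_lt _ _ _ _ _) hlv]
      exact (conj_iff_conj _ _ _ (X.tq_conj hr ha v y)).trans (conj_iff_conj _ _ _ (hn _))
    · exact Bool.noConfusion h
  · rw [hl] at h
    simp only [cond_true, beq_iff_eq] at h
    rw [← h, X.crit_conj hr ha hy hl]

end Four

theorem exists_octCoords_low (X : Four z Q π ρ s g) :
    ∃ e : ℕ → G, OctCoords z s e ∧ (∀ y < 32, e y ∈ Q) ∧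
      ∀ k ∈ [0, 2, 4], ∃ m ∈ normalizer (AA z s : Set G),
      ∃ y < 2048, m * z * m⁻¹ = e y ∧ popCount (octOf y &&& refOctad) 24 = k := by
  obtain ⟨r, a, n, pq, x0, x1, x2, hr, ha, hnN, hnz, hpq, h0, h1, h2, hn⟩ := exists_params X
  obtain ⟨δ, hs⟩ := X.params_sol hr ha hpq h0 h1 h2 hn
  have htw : ∀ y, y < 2048 → lin (twistL δ) y = twist δ y ∧ twist δ (twist δ y) = y ∧
      twist δ y < 2048 ∧ om (twist δ y) = om y ∧ low (twist δ y) = low y := fun y hy => by
    have h := List.all_eq_true.1 (List.all_eq_true.1 twist_ok _ hs) y (List.mem_range.2 hy)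
    simp only [Bool.and_eq_true, Nat.beq_eq, Nat.blt_eq, beq_iff_eq] at h
    obtain ⟨⟨⟨⟨a, b⟩, c⟩, d⟩, e⟩ := h
    exact ⟨a, b, c, d, e⟩
  refine ⟨fun y => eg z s r (lin (twistL δ) y), ⟨fun y => X.base.eg_mem hr _, fun x y _ _ => ?_,
    fun x y hx hy e => ?_, fun u hu => ?_, ?_, fun y hy0 hy => ?_⟩, fun y hy => ?_, ?_⟩
  · simp only [lin_xor, X.eg_xor hr]
  · simp only [(htw x hx).1, (htw y hy).1] at e
    have := X.eg_inj hr (htw x hx).2.2.1 (htw y hy).2.2.1 e
    rw [← (htw x hx).2.1, this, (htw y hy).2.1]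
  · obtain ⟨⟨y, hy⟩, rfl⟩ := X.base.eg_surj hr hu
    refine ⟨twist δ y, (htw y hy).2.2.1, ?_⟩
    simp only [(htw _ (htw y hy).2.2.1).1, (htw y hy).2.1]
  · have : lin (twistL δ) 1 = 1 := by simp [twistL, lin]
    simp only [this, X.eg_z hr]
  · have hne : twist δ y ≠ 0 := fun e => hy0 (by
      rw [← (htw y hy).2.1, e]; simp [twist, lin])
    simp only [(htw y hy).1]
    rw [X.conj_octT hr ha hs hn hne (htw y hy).2.2.1, (htw y hy).2.1]
    have ht := List.all_eq_true.1 oct_table y (List.mem_range.2 hy)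
    simp only [Bool.or_eq_true, Nat.beq_eq, beq_iff_eq] at ht
    rw [← ht.resolve_left hy0]
  · have h32 : twist δ y < 32 := by
      have := (htw y (by omega)).2.2.2.1
      unfold om at this
      omega
    have hs' := Base.eg_split (z := z) (s := s) (r := r) (twist δ y) 0 h32
    rw [mul_zero, add_zero, ev_zero, mul_one] at hs'
    show eg z s r (lin (twistL δ) y) ∈ Q
    rw [(htw y (by omega)).1, hs']
    exact (X.base.low_spec _).1
  · -- images of the central involution in all classes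
    have hz2 : eg z s r 2 = s 0 := X.eg_s hr 0
    have key : ∀ (m : G), m ∈ normalizer (AA z s : Set G) → ∀ y, y < 2048 → m * z * m⁻¹ = eg z s r y →
        ∀ k, (om y = 0 ∧ y ≠ 1 ∧ k = 0 ∨ om y ≠ 0 ∧ low y = true ∧ k = 4 ∨ low y = false ∧ k = 2) →
        ∃ m ∈ normalizer (AA z s : Set G), ∃ y < 2048, m * z * m⁻¹ = eg z s r (lin (twistL δ) y) ∧
          popCount (octOf y &&& refOctad) 24 = k := by
      intro m hm y hy he k hk
      obtain ⟨-, t2, t3, t4, t5⟩ := htw y hy
      refine ⟨m, hm, twist δ y, t3, ?_, ?_⟩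
      · rw [(htw _ t3).1, t2, he]
      · have hy0 : y ≠ 0 := fun e => by
          rw [e, show eg z s r 0 = 1 from ev_zero _] at he
          exact X.base.su.loc.ne_one (conj_eq_one_iff.1 he)
        have hoct : octT (twist δ y) = true :=
          (X.conj_octT hr ha hs hn hy0 hy).1 (isConj_iff.2 ⟨m, he⟩)
        have hne : twist δ y ≠ 0 := fun e => hy0 (by rw [← t2, e]; simp [twist, lin])
        have h := List.all_eq_true.1 class_table _ (List.mem_range.2 t3)
        rw [show Nat.beq (twist δ y) 0 = false from beq_false' hne, hoct] at h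
        simp only [Bool.not_true, Bool.false_or, t4, t5] at h
        rcases hk with ⟨ho, hne1, rfl⟩ | ⟨ho, hl, rfl⟩ | ⟨hl, rfl⟩
        · rw [show Nat.beq (om y) 0 = true by simp [ho], cond_true,
            show Nat.beq (twist δ y) 1 = false from beq_false' (fun e => hne1 (by
              rw [← t2, e]; simp [twist, lin]))] at h
          simpa using h
        · rw [show Nat.beq (om y) 0 = false from beq_false' ho, cond_false, hl, cond_true] at h
          simpa using h
        · have ho : om y ≠ 0 := fun e => by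
            have : low y = true := by unfold low; rw [e]; rfl
            rw [this] at hl; exact Bool.noConfusion hl
          rw [show Nat.beq (om y) 0 = false from beq_false' ho, cond_false, hl, cond_false] at h
          simpa using h
    -- a conjugate outside the singular subspace
    obtain ⟨c, hcz, hρ, hcn⟩ := X.base.exists_gen 3
    obtain ⟨⟨v0, hv0⟩, e0'⟩ := X.base.eg_surj hr ((mem_normalizer_iff.1 hcn _).1 (X.base.s_mem 0))
    simp only at e0'
    have hv : ∃ v < 4, v0 = 6 ^^^ v := by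
      have hQ := X.base.su.conj_mem hcz (X.fr 0).sQ
      have hπ : π (eg z s r v0) = E 0 + E 1 := by
        rw [e0', X.base.su.conj c hcz _ (X.fr 0).sQ, X.se, hρ, act_mid.2]
      obtain ⟨w, hw⟩ := X.base.low_surj hQ (fun i => by
        rw [← e0', hπ, bil_add_left, E_bil, E_bil, add_zero])
      have hs' := Base.eg_split (z := z) (s := s) (r := r) (w : ℕ) 0 w.2
      rw [mul_zero, add_zero, ev_zero, mul_one, ← hw] at hs'
      have hvw : v0 = w := X.eg_inj hr hv0 (by omega) (e0'.trans hs'.symm)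
      obtain ⟨-, hp⟩ := X.base.low_spec w
      rw [← hw, ← e0', hπ] at hp
      have hd : ∀ w : Fin 32, E 0 + E 1 = sm (bitF w 1) (E 0) + sm (bitF w 2) (E 1) + sm (bitF w 3) (E 2) +
          sm (bitF w 4) (E 3) → ∃ v : Fin 4, (w : ℕ) = 6 ^^^ (v : ℕ) := by decide +kernel
      obtain ⟨v, hv⟩ := hd w hp
      exact ⟨v, v.2, hvw.trans hv⟩
    obtain ⟨v, hv4, rfl⟩ := hv
    set y1 := sw pq x0 x1 x2 (6 ^^^ v) with hy1
    have hc1 : (n * c * n) * z * (n * c * n)⁻¹ = eg z s r y1 := by
      rw [hy1, ← hn, e0', ← hnz]; group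
    have ho1 : om y1 = 1 := by
      have h := List.all_eq_true.1 (List.all_eq_true.1 sol_mid _ hs) v (List.mem_range.2 hv4)
      simpa using h
    have hy1lt : y1 < 2048 := sw_lt _ _ _ _ _
    have hncn : n * c * n ∈ normalizer (AA z s : Set G) := mul_mem (mul_mem hnN hcn) hnN
    -- a conjugate of full rank
    obtain ⟨c', hcz', hρ', hcn'⟩ := X.base.exists_gen 6
    have hrad := X.base.rad_conj (by norm_num) hcz' hρ' hcn'
      (show Rad z ρ s (eg z s r y1) 1 from ho1 ▸ X.base.rad_eg hr hy1lt)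
    rw [act_mid.1] at hrad
    obtain ⟨⟨y2, hy2⟩, e2'⟩ := X.base.eg_surj hr hrad.1
    simp only at e2'
    rw [← e2'] at hrad
    have ho2 : om y2 = 9 := X.om_eq hr ha hy2 (by norm_num) hrad
    have hy2r : 288 ≤ y2 ∧ y2 < 320 := by unfold om at ho2; omega
    have hl2 : low y2 = true := List.all_eq_true.1 low_first.2 y2 (List.mem_range'_1.2 ⟨hy2r.1, by omega⟩)
    have hcr : critT y2 = true := by
      refine (X.crit_conj hr ha hy2 hl2).1 ?_
      rw [e2', ← hc1]
      exact (isConj_iff.2 ⟨c' * (n * c * n), by group⟩)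
    have hhigh : low (sw pq x0 x1 x2 y2) = false := by
      have h := List.all_eq_true.1 (List.all_eq_true.1 sol_high _ hs) y2 (List.mem_range'_1.2 ⟨hy2r.1, by omega⟩)
      simpa [hcr] using h
    have hc2 : (n * c' * (n * c * n)) * z * (n * c' * (n * c * n))⁻¹ = eg z s r (sw pq x0 x1 x2 y2) := by
      rw [← hn, e2', ← hc1]; group
    intro k hk
    simp only [List.mem_cons, List.not_mem_nil, or_false] at hk
    rcases hk with rfl | rfl | rfl
    · exact key n hnN 2 (by norm_num) (hnz.trans hz2.symm) 0 (Or.inl ⟨rfl, by norm_num, rfl⟩)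
    · exact key _ (mul_mem (mul_mem hnN hcn') hncn) _ (sw_lt _ _ _ _ _) hc2 2 (Or.inr (Or.inr ⟨hhigh, rfl⟩))
    · refine key _ hncn y1 hy1lt hc1 4 (Or.inr (Or.inl ⟨by omega, ?_, rfl⟩))
      have : 32 ≤ y1 ∧ y1 < 64 := by unfold om at ho1; omega
      exact List.all_eq_true.1 low_first.1 y1 (List.mem_range'_1.2 ⟨this.1, by omega⟩)

theorem exists_octCoords (X : Four z Q π ρ s g) :
    ∃ e : ℕ → G, OctCoords z s e ∧ ∀ k ∈ [0, 2, 4], ∃ m ∈ normalizer (AA z s : Set G),
      ∃ y < 2048, m * z * m⁻¹ = e y ∧ popCount (octOf y &&& refOctad) 24 = k :=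
  let ⟨e, he, _, h⟩ := exists_octCoords_low X
  ⟨e, he, h⟩

end Cfsg.Agent.CoM24
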