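import Cfsg.Agent.Lib.CoM24.Flip
import Cfsg.Agent.Lib.CoM24.Checks

/-!
The centraliser of a maximal totally singular subgroup of the extraspecial subgroup, in coordinates.
-/

set_option autoImplicit false
set_option linter.style.haveILetI false
set_option linter.unusedSectionVars false
set_option maxRecDepth 20000
set_option synthInstance.maxSize 4000
set_option synthInstance.maxHeartbeats 400000

namespace Cfsg.Agent.CoM24

open Cfsg.Agent.CoT Subgroup LargeExtra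

local notation "F" => ZMod 2

/-- The six pairs. -/
def pr : Fin 6 → Fin 4 × Fin 4 := ![(0, 1), (0, 2), (0, 3), (1, 2), (1, 3), (2, 3)]

/-- The twelve elementary transvections. -/
def gp : Fin 12 → Fin 4 × Fin 4 :=
  ![(0, 1), (0, 2), (0, 3), (1, 0), (1, 2), (1, 3), (2, 0), (2, 1), (2, 3), (3, 0), (3, 1), (3, 2)]

/-- Their action on the radical. -/
def actTab : List (List ℕ) :=
  [[0, 1, 2, 3, 4, 5, 6, 7, 10, 11, 8, 9, 14, 15, 12, 13, 20, 21, 22, 23, 16, 17, 18, 19, 30, 31, 28, 29, 26, 27, 24, 25, 32, 33, 34, 35, 36, 37, 38, 39, 42, 43, 40, 41, 46, 47, 44, 45, 52, 53, 54, 55, 48, 49, 50, 51, 62, 63, 60, 61, 58, 59, 56, 57], [0, 1, 2, 3, 4, 5, 6, 7, 9, 8, 11, 10, 13, 12, 15, 14, 16, 17, 18, 19, 20, 21, 22, 23, 25, 24, 27, 26, 29, 28, 31, 30, 36, 37, 38, 39, 32, 33, 34, 35, 45, 44, 47, 46, 41, 40, 43, 42, 52, 53, 54, 55, 48, 49, 50, 51, 61, 60, 63, 62, 57, 56, 59, 58], [0, 1, 2, 3, 4, 5, 6,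 7, 8, 9, 10, 11, 12, 13, 14, 15, 17, 16, 19, 18, 21, 20, 23, 22, 25, 24, 27, 26, 29, 28, 31, 30, 34, 35, 32, 33, 38, 39, 36, 37, 42, 43, 40, 41, 46, 47, 44, 45, 51, 50, 49, 48, 55, 54, 53, 52, 59, 58, 57, 56, 63, 62, 61, 60], [0, 1, 10, 11, 20, 21, 30, 31, 8, 9, 2, 3, 28, 29, 22, 23, 16, 17, 26, 27, 4, 5, 14, 15, 24, 25, 18, 19, 12, 13, 6, 7, 32, 33, 42, 43, 52, 53, 62, 63, 40, 41, 34, 35, 60, 61, 54, 55, 48, 49, 58, 59, 36, 37, 46, 47, 56, 57, 50, 51, 44, 45, 38, 39], [0, 1, 3, 2, 4, 5, 7, 6, 8, 9, 11, 10, 12, 13, 15, 14, 16, 17, 19, 18, 20, 21, 23, 22, 24, 25, 27, 26, 28, 29, 31, 30, 48, 49, 51, 50, 52, 53, 55, 54, 56, 57, 59, 58, 60, 61, 63, 62, 32, 33, 35, 34, 36, 37, 39, 38, 40, 41, 43, 42, 44, 45, 47, 46], [0, 1, 2, 3, 5, 4, 7, 6, 8, 9, 10, 11, 13, 12, 15, 14, 16, 17, 18, 19, 21, 20, 23, 22, 24, 25, 26, 27, 29, 28, 31, 30, 40, 41, 42, 43, 45, 44, 47, 46, 32, 33, 34, 35, 37, 36, 39, 38,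 56, 57, 58, 59, 61, 60, 63, 62, 48, 49, 50, 51, 53, 52, 55, 54], [0, 9, 2, 11, 36, 45, 38, 47, 8, 1, 10, 3, 44, 37, 46, 39, 16, 25, 18, 27, 52, 61, 54, 63, 24, 17, 26, 19, 60, 53, 62, 55, 32, 41, 34, 43, 4, 13, 6, 15, 40, 33, 42, 35, 12, 5, 14, 7, 48, 57, 50, 59, 20, 29, 22, 31, 56, 49, 58, 51, 28, 21, 30, 23], [0, 3, 2, 1, 4, 7, 6, 5, 8, 11, 10, 9, 12, 15, 14, 13, 48, 51, 50, 49, 52, 55, 54, 53, 56, 59, 58, 57, 60, 63, 62, 61, 32, 35, 34, 33, 36, 39, 38, 37, 40, 43, 42, 41, 44, 47, 46, 45, 16, 19, 18, 17, 20, 23, 22, 21, 24, 27, 26, 25, 28, 31, 30, 29], [0, 1, 2, 3, 6, 7, 4, 5, 8, 9, 10, 11, 14, 15, 12, 13, 24, 25, 26, 27, 30, 31, 28, 29, 16, 17, 18, 19, 22, 23, 20, 21, 32, 33, 34, 35, 38, 39, 36, 37, 40, 41, 42, 43, 46, 47, 44, 45, 56, 57, 58, 59, 62, 63, 60, 61, 48, 49, 50, 51, 54, 55, 52, 53], [0, 17, 34, 51, 4, 21, 38, 55, 8, 25, 42, 59, 12, 29, 46, 63, 16, 1, 50, 35, 20, 5, 54, 39, 24,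 9, 58, 43, 28, 13, 62, 47, 32, 49, 2, 19, 36, 53, 6, 23, 40, 57, 10, 27, 44, 61, 14, 31, 48, 33, 18, 3, 52, 37, 22, 7, 56, 41, 26, 11, 60, 45, 30, 15], [0, 5, 2, 7, 4, 1, 6, 3, 40, 45, 42, 47, 44, 41, 46, 43, 16, 21, 18, 23, 20, 17, 22, 19, 56, 61, 58, 63, 60, 57, 62, 59, 32, 37, 34, 39, 36, 33, 38, 35, 8, 13, 10, 15, 12, 9, 14, 11, 48, 53, 50, 55, 52, 49, 54, 51, 24, 29, 26, 31, 28, 25, 30, 27], [0, 1, 6, 7, 4, 5, 2, 3, 24, 25, 30, 31, 28, 29, 26, 27, 16, 17, 22, 23, 20, 21, 18, 19, 8, 9, 14, 15, 12, 13, 10, 11, 32, 33, 38, 39, 36, 37, 34, 35, 56, 57, 62, 63, 60, 61, 58, 59, 48, 49, 54, 55, 52, 53, 50, 51, 40, 41, 46, 47, 44, 45, 42, 43]]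

/-- The action of one transvection. -/
def act (t : Fin 12) (o : ℕ) : ℕ := (actTab.getD t []).getD o 0

/-- The map of one transvection. -/
def gv (t : Fin 12) : V → V := sg (E (gp t).1) (Fv (gp t).2)

/-- A bit as a scalar. -/
def bitF (o k : ℕ) : F := bif o.testBit k then 1 else 0

/-- The map of one pair. -/
def tn (i j : Fin 4) (x : V) : V := sm (bil x (E j)) (E i) + sm (bil x (E i)) (E j)

/-- The map of an element of the radical. -/
def omV (o : ℕ) (x : V) : V :=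
  sm (bitF o 0) (tn 0 1 x) + sm (bitF o 1) (tn 0 2 x) + sm (bitF o 2) (tn 0 3 x) +
    sm (bitF o 3) (tn 1 2 x) + sm (bitF o 4) (tn 1 3 x) + sm (bitF o 5) (tn 2 3 x)

theorem base_bil : ∀ i j : Fin 4, bil (E i) (E j) = 0 ∧ bil (Fv i) (Fv j) = 0 ∧
    bil (Fv i) (E j) = (if i = j then 1 else 0) ∧ q (Fv i) = 0 := by decide +kernel

theorem E_bil (i j : Fin 4) : bil (E i) (E j) = 0 := (base_bil i j).1

theorem FE_bil (i j : Fin 4) : bil (Fv i) (E j) = if i = j then 1 else 0 := (base_bil i j).2.2.1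

theorem FE_ne {i j : Fin 4} (h : i ≠ j) : bil (Fv i) (E j) = 0 := (FE_bil i j).trans (if_neg h)

theorem FE_self (i : Fin 4) : bil (Fv i) (E i) = 1 := (FE_bil i i).trans (if_pos rfl)

theorem dualW : ∀ d : V, (∀ i, bil d (E i) = 0) →
    d = sm (bil (Fv 0) d) (E 0) + sm (bil (Fv 1) d) (E 1) + sm (bil (Fv 2) d) (E 2) +
      sm (bil (Fv 3) d) (E 3) := by decide +kernel

theorem dual_two : ∀ i j : Fin 4, i ≠ j → ∀ d : V, (∀ k, bil d (E k) = 0) →
    (∀ k, k ≠ i → k ≠ j → bil (Fv k) d = 0) →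
    d = sm (bil (Fv i) d) (E i) + sm (bil (Fv j) d) (E j) := by decide +kernel

theorem tn_symm (i j : Fin 4) (x : V) : tn i j x = tn j i x := add_comm _ _

theorem sg_EE (i j : Fin 4) (x : V) : sg (E i) (E j) x = x + tn i j x := by
  rw [sg, (E_sing j).1, sm_zero, add_zero, tn, add_assoc]

theorem tn_add (i j : Fin 4) (x y : V) : tn i j (x + y) = tn i j x + tn i j y := by
  simp only [tn, bil_add_left, sm_add]; abel

theorem omV_add (o : ℕ) (x y : V) : omV o (x + y) = omV o x + omV o y := by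
  simp only [omV, tn_add, sm_add_right]; abel

theorem omV_perp {y : V} (h : ∀ i, bil y (E i) = 0) (o : ℕ) : omV o y = 0 := by
  simp [omV, tn, h, sm_zero, sm]

theorem omV_E (o : ℕ) (i : Fin 4) : omV o (E i) = 0 := omV_perp (E_bil i) o

theorem omV_bil (o : ℕ) (x : V) (i : Fin 4) : bil (omV o x) (E i) = 0 := by
  simp only [omV, tn, bil_add_left, bil_sm_left, E_bil, mul_zero, add_zero]

theorem omV_omV (o o' : ℕ) (x : V) : omV o (omV o' x) = 0 := omV_perp (omV_bil o' x) o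

theorem bitF_xor (o o' k : ℕ) : bitF (o ^^^ o') k = bitF o k + bitF o' k := by
  simp only [bitF, Nat.testBit_xor]
  cases o.testBit k <;> cases o'.testBit k <;> decide

theorem omV_xor (o o' : ℕ) (x : V) : omV (o ^^^ o') x = omV o x + omV o' x := by
  simp only [omV, bitF_xor, sm_add]; abel

theorem omV_zero (x : V) : omV 0 x = 0 := by simp [omV, bitF, sm_zero]

theorem om_coord : ∀ o : Fin 64, (∀ k : Fin 6,
    bil (Fv (pr k).1) (omV o (Fv (pr k).2)) = bitF o k ∧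
    bil (Fv (pr k).2) (omV o (Fv (pr k).1)) = bitF o k) ∧
    ∀ i, bil (Fv i) (omV o (Fv i)) = 0 := by decide +kernel

theorem bits6 : ∀ c : Fin 6 → F, ∃ o : Fin 64, ∀ k : Fin 6, bitF o k = c k := by decide +kernel

theorem bits5 : ∀ a b₀ b₁ b₂ b₃ : F, ∃ w : Fin 32, bitF w 0 = a ∧ bitF w 1 = b₀ ∧ bitF w 2 = b₁ ∧
    bitF w 3 = b₂ ∧ bitF w 4 = b₃ := by decide +kernel

theorem pair_cases : ∀ i l : Fin 4, i = l ∨ ∃ k, pr k = (i, l) ∨ pr k = (l, i) := by decide +kernel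

theorem omV_single : ∀ k : Fin 6, ∀ l, tn (pr k).1 (pr k).2 (Fv l) = omV (2 ^ (k : ℕ)) (Fv l) := by
  decide +kernel

theorem om_inj : ∀ o : Fin 64, (∀ k, omV o (Fv k) = 0) → o = 0 := by decide +kernel

theorem act_ok : ∀ t : Fin 12, ∀ o : Fin 64, act t o < 64 ∧
    ∀ k, gv t (omV o (Fv k)) = omV (act t o) (gv t (Fv k)) := by decide +kernel

theorem gv_facts : ∀ t : Fin 12, (gp t).1 ≠ (gp t).2 ∧ (∀ i m, bil (gv t (E i)) (E m) = 0) := by
  decide +kernel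

theorem decomp8 (x : V) : x = sm x.1.1 (E 0) + sm x.1.2 (Fv 0) + sm x.2.1.1 (E 1) +
    sm x.2.1.2 (Fv 1) + sm x.2.2.1.1 (E 2) + sm x.2.2.1.2 (Fv 2) + sm x.2.2.2.1 (E 3) +
    sm x.2.2.2.2 (Fv 3) := by
  simp [sm_smul, E, Fv, e0, f0, e1, f1, e2, f2, e3, f3, Prod.ext_iff]

theorem add_sm {f : V → V} (hf : ∀ u v, f (u + v) = f u + f v) (c : F) (v : V) :
    f (sm c v) = sm c (f v) := by
  rcases F_cases c with rfl | rfl
  · rw [sm_zero, sm_zero]
    exact left_eq_add.1 (show f 0 = f 0 + f 0 by rw [← hf, add_zero])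
  · rw [sm_one, sm_one]

/-- Additive maps agreeing on the base are equal. -/
theorem ext8 {f f' : V → V} (hf : ∀ u v, f (u + v) = f u + f v)
    (hf' : ∀ u v, f' (u + v) = f' u + f' v) (hE : ∀ k, f (E k) = f' (E k))
    (hF : ∀ k, f (Fv k) = f' (Fv k)) (x : V) : f x = f' x := by
  rw [decomp8 x]
  simp only [hf, hf', add_sm hf, add_sm hf', hE, hF]

/-- An isometry fixing the singular subspace pointwise is in the radical. -/
theorem exists_omV {f : V → V} (hadd : ∀ u v, f (u + v) = f u + f v) (hq : ∀ v, q (f v) = q v)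
    (hb : ∀ u v, bil (f u) (f v) = bil u v) (hfix : ∀ i, f (E i) = E i) :
    ∃ o < 64, ∀ x, f x = x + omV o x := by
  set δ : Fin 4 → V := fun l => f (Fv l) + Fv l with hδ
  have hf : ∀ l, f (Fv l) = Fv l + δ l := fun l => by
    show f (Fv l) = Fv l + (f (Fv l) + Fv l)
    rw [add_left_comm, add_self, add_zero]
  have hW : ∀ l i, bil (δ l) (E i) = 0 := fun l i => by
    rw [hδ, bil_add_left]
    conv_lhs => arg 1; rw [← hfix i]
    rw [hb, F_add_self]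
  have hsym : ∀ i l, bil (Fv i) (δ l) = bil (Fv l) (δ i) := fun i l => by
    have h := hb (Fv i) (Fv l)
    rw [hf i, hf l] at h
    simp only [bil_add_left, bil_add_right, (base_bil i l).2.1, zero_add] at h
    have h2 : bil (δ i) (δ l) = 0 := by
      rw [dualW _ (hW i), bil_comm]
      simp only [bil_add_right, bil_sm_right, hW, mul_zero, add_zero]
    simp only [h2, add_zero, bil_comm (δ i) (Fv l)] at h
    exact F_eq_of_add _ _ ((add_comm _ _).trans h)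
  have hdiag : ∀ i, bil (Fv i) (δ i) = 0 := fun i => by
    have h := hq (Fv i)
    have h2 : q (δ i) = 0 := by
      have : ∀ d : V, (∀ i, bil d (E i) = 0) → q d = 0 := by decide +kernel
      exact this _ (hW i)
    rw [hf, q_add, (base_bil i i).2.2.2, h2, zero_add, zero_add] at h
    exact h
  obtain ⟨o, ho⟩ := bits6 fun k => bil (Fv (pr k).1) (δ (pr k).2)
  obtain ⟨hco, hd0⟩ := om_coord o
  have hcoord : ∀ i l, bil (Fv i) (δ l) = bil (Fv i) (omV o (Fv l)) := by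
    intro i l
    rcases pair_cases i l with rfl | ⟨k, hk | hk⟩
    · rw [hdiag, hd0]
    · have := (hco k).1
      rw [ho k, hk] at this
      exact this.symm
    · have := (hco k).2
      rw [ho k, hk] at this
      rw [this, hsym]
  refine ⟨o, o.2, fun x => ext8 hadd (f' := fun x => x + omV o x)
    (fun u v => by simp only [omV_add]; abel) (fun i => by rw [hfix, omV_E, add_zero]) (fun l => ?_) x⟩
  rw [hf]
  congr 1
  rw [dualW _ (hW l), dualW _ (fun i => omV_bil o (Fv l) i)]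
  simp only [hcoord]

/-- A product over the bits. -/
def ev {G : Type*} [Group G] : List G → ℕ → G
  | [], _ => 1
  | a :: l, y => (if Nat.testBit y 0 then a else 1) * ev l (y / 2)

section Ev

variable {G : Type*} [Group G]

theorem ev_mem {H : Subgroup G} : ∀ {l : List G}, (∀ a ∈ l, a ∈ H) → ∀ y, ev l y ∈ H
  | [], _, _ => one_mem _
  | a :: l, h, y => by
    refine mul_mem ?_ (ev_mem (fun b hb => h b (List.mem_cons_of_mem _ hb)) _)
    split_ifs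
    · exact h a List.mem_cons_self
    · exact one_mem _

theorem ev_append : ∀ (l l' : List G) (y : ℕ), ev (l ++ l') y = ev l y * ev l' (y / 2 ^ l.length)
  | [], l', y => by simp [ev]
  | a :: l, l', y => by
    simp only [List.cons_append, ev, ev_append l, List.length_cons, pow_succ', Nat.div_div_eq_div_mul,
      mul_assoc]

theorem ev_mod : ∀ (l : List G) (w o : ℕ), ev l (w + 2 ^ l.length * o) = ev l w
  | [], _, _ => rfl
  | a :: l, w, o => by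
    have h1 : Nat.testBit (w + 2 ^ (a :: l).length * o) 0 = Nat.testBit w 0 := by
      simp only [Nat.testBit_zero, List.length_cons, pow_succ', mul_assoc, Nat.add_mul_mod_self_left]
    have h2 : (w + 2 ^ (a :: l).length * o) / 2 = w / 2 + 2 ^ l.length * o := by
      rw [List.length_cons, pow_succ', mul_assoc, Nat.add_mul_div_left _ _ (by norm_num)]
    simp only [ev, h1, h2, ev_mod l]

theorem ev_conj (c : G) : ∀ (l : List G) (y : ℕ),
    c * ev l y * c⁻¹ = ev (l.map fun a => c * a * c⁻¹) y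
  | [], _ => by simp [ev]
  | a :: l, y => by
    simp only [ev, List.map_cons, ← ev_conj c l]
    split_ifs <;> group

theorem ev_zero : ∀ l : List G, ev l 0 = 1
  | [] => rfl
  | a :: l => by simp [ev, ev_zero l]

end Ev

variable {G : Type*} [Group G] [Finite G] {z : G} {Q : Subgroup G} {π : G → V} {ρ : G → V → V}
  {s g : Fin 4 → G}

/-- Frames at the four base vectors. -/
structure Base (z : G) (Q : Subgroup G) (π : G → V) (ρ : G → V → V) (s g : Fin 4 → G) : Prop where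
  fr : ∀ i, Fr z Q π ρ (s i) (g i)
  se : ∀ i, π (s i) = E i

theorem Four.base (X : Four z Q π ρ s g) : Base z Q π ρ s g := ⟨X.fr, X.se⟩

/-- The large abelian subgroup. -/
abbrev AA (z : G) (s : Fin 4 → G) : Subgroup G := centralizer (insert z (Set.range s))

theorem mem_AA {a : G} : a ∈ AA z s ↔ a * z = z * a ∧ ∀ i, a * s i = s i * a := by
  rw [mem_centralizer_iff]
  simp only [Set.forall_mem_insert, Set.forall_mem_range]
  exact ⟨fun h => ⟨h.1.symm, fun i => (h.2 i).symm⟩, fun h => ⟨h.1.symm, fun i => (h.2 i).symm⟩⟩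

/-- An element of the abelian subgroup with its action. -/
def Rad (z : G) (ρ : G → V → V) (s : Fin 4 → G) (a : G) (o : ℕ) : Prop :=
  a ∈ AA z s ∧ ∀ x, ρ a x = x + omV o x

/-- The lifts of the six pairs. -/
def RSys (z : G) (Q : Subgroup G) (π : G → V) (ρ : G → V → V) (s g : Fin 4 → G) (r : Fin 6 → G) : Prop :=
  ∀ k, (r k ∈ hB z Q (g (pr k).1) ∧ Vec π ρ (s (pr k).1) (r k) (E (pr k).2)) ∧
    (r k ∈ hB z Q (g (pr k).2) ∧ Vec π ρ (s (pr k).2) (r k) (E (pr k).1))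

/-- The basis. -/
def gens (z : G) (s : Fin 4 → G) (r : Fin 6 → G) : List G :=
  [z, s 0, s 1, s 2, s 3, r 0, r 1, r 2, r 3, r 4, r 5]

/-- The element with given coordinates. -/
def eg (z : G) (s : Fin 4 → G) (r : Fin 6 → G) (y : ℕ) : G := ev (gens z s r) y

theorem ev_step {a : G} (b : ℕ) : (if Nat.testBit b 0 then a else 1) = zb a (bitF b 0) := by
  cases h : Nat.testBit b 0 <;> simp [bitF, h, zb_zero, zb_one]

theorem bitF_div (b k : ℕ) : bitF (b / 2) k = bitF b (k + 1) := by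
  simp only [bitF, Nat.testBit_add_one]

theorem ev5 (z a b c d : G) (w : ℕ) : ev [z, a, b, c, d] w =
    zb z (bitF w 0) * zb a (bitF w 1) * zb b (bitF w 2) * zb c (bitF w 3) * zb d (bitF w 4) := by
  simp only [ev, ev_step, bitF_div, mul_one, mul_assoc]

namespace Base

variable (X : Base z Q π ρ s g)
include X

theorem su : Su z Q π ρ := (X.fr 0).S

theorem z_mem : z ∈ AA z s := mem_AA.2 ⟨rfl, fun i => ((X.fr i).sz).symm⟩

theorem s_comm (i j : Fin 4) : s i * s j = s j * s i :=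
  (X.su.comm_iff (X.fr i).sQ (X.fr j).sQ).2 (by rw [X.se, X.se, E_bil])

theorem s_mem (i : Fin 4) : s i ∈ AA z s := mem_AA.2 ⟨(X.fr i).sz, X.s_comm i⟩

theorem mem_Q {x : G} (hx : x ∈ Q) : x ∈ AA z s ↔ ∀ i, bil (π x) (E i) = 0 := by
  rw [mem_AA]
  exact ⟨fun h i => by rw [← X.se, ← X.su.comm_iff hx (X.fr i).sQ]; exact h.2 i,
    fun h => ⟨X.su.Qz hx, fun i => (X.su.comm_iff hx (X.fr i).sQ).2 (by rw [X.se, h])⟩⟩

theorem Az {a : G} (ha : a ∈ AA z s) : a * z = z * a := (mem_AA.1 ha).1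

theorem fix {a : G} (ha : a ∈ AA z s) (i : Fin 4) : ρ a (E i) = E i := by
  rw [← X.se]; exact (X.fr i).rho_fix (mem_AA.1 ha).1 ((mem_AA.1 ha).2 i)

theorem pi_zb (i : Fin 4) (c : F) : zb (s i) c ∈ Q ∧ π (zb (s i) c) = sm c (E i) := by
  rcases F_cases c with rfl | rfl
  · rw [zb_zero, sm_zero]; exact ⟨one_mem _, X.su.pi_one⟩
  · rw [zb_one, sm_one]; exact ⟨(X.fr i).sQ, X.se i⟩

theorem zb_z (c : F) : zb z c ∈ Q ∧ π (zb z c) = 0 := by
  rcases F_cases c with rfl | rfl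
  · rw [zb_zero]; exact ⟨one_mem _, X.su.pi_one⟩
  · rw [zb_one]; exact ⟨X.su.loc.mem, X.su.pi_z⟩

theorem low_spec (w : ℕ) : ev [z, s 0, s 1, s 2, s 3] w ∈ Q ∧ π (ev [z, s 0, s 1, s 2, s 3] w) =
    sm (bitF w 1) (E 0) + sm (bitF w 2) (E 1) + sm (bitF w 3) (E 2) + sm (bitF w 4) (E 3) := by
  rw [ev5]
  obtain ⟨m, e⟩ := X.zb_z (bitF w 0)
  obtain ⟨m0, e0'⟩ := X.pi_zb 0 (bitF w 1)
  obtain ⟨m1, e1'⟩ := X.pi_zb 1 (bitF w 2)
  obtain ⟨m2, e2'⟩ := X.pi_zb 2 (bitF w 3)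
  obtain ⟨m3, e3'⟩ := X.pi_zb 3 (bitF w 4)
  refine ⟨mul_mem (mul_mem (mul_mem (mul_mem m m0) m1) m2) m3, ?_⟩
  rw [X.su.pi_mul _ (mul_mem (mul_mem (mul_mem m m0) m1) m2) _ m3,
    X.su.pi_mul _ (mul_mem (mul_mem m m0) m1) _ m2, X.su.pi_mul _ (mul_mem m m0) _ m1,
    X.su.pi_mul _ m _ m0, e, e0', e1', e2', e3', zero_add]

/-- An element of the extraspecial subgroup in the abelian subgroup. -/
theorem low_surj {d : G} (hd : d ∈ Q) (h : ∀ i, bil (π d) (E i) = 0) :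
    ∃ w : Fin 32, d = ev [z, s 0, s 1, s 2, s 3] w := by
  obtain ⟨w, h0, h1, h2, h3, h4⟩ := bits5 0 (bil (Fv 0) (π d)) (bil (Fv 1) (π d)) (bil (Fv 2) (π d))
    (bil (Fv 3) (π d))
  obtain ⟨w', k0, k1, k2, k3, k4⟩ := bits5 1 (bil (Fv 0) (π d)) (bil (Fv 1) (π d)) (bil (Fv 2) (π d))
    (bil (Fv 3) (π d))
  obtain ⟨hm, hp⟩ := X.low_spec w
  rcases X.su.eq_of_pi hd hm (by rw [hp, h1, h2, h3, h4]; exact dualW _ h) with e | e
  · exact ⟨w, e⟩
  · refine ⟨w', e.trans ?_⟩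
    rw [ev5, ev5, h0, h1, h2, h3, h4, k0, k1, k2, k3, k4, zb_zero, zb_one, one_mul]
    have hc : ∀ {u : G}, u ∈ Q → u * z = z * u := fun hu => X.su.Qz hu
    rw [hc (mul_mem (mul_mem (mul_mem (X.pi_zb 0 _).1 (X.pi_zb 1 _).1) (X.pi_zb 2 _).1)
      (X.pi_zb 3 _).1)]
    simp only [mul_assoc]

theorem rad_one : Rad z ρ s 1 0 :=
  ⟨one_mem _, fun x => by rw [X.su.rho_one, omV_zero, add_zero]⟩

theorem rad_mul {a b : G} {o o' : ℕ} (ha : Rad z ρ s a o) (hb : Rad z ρ s b o') :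
    Rad z ρ s (a * b) (o ^^^ o') :=
  ⟨mul_mem ha.1 hb.1, fun x => by
    rw [X.su.rho_mul (X.Az ha.1) (X.Az hb.1), hb.2, ha.2, omV_add, omV_omV, omV_xor]; abel⟩

theorem rad_Q {a : G} (ha : a ∈ Q) (hA : a ∈ AA z s) : Rad z ρ s a 0 :=
  ⟨hA, fun x => by rw [X.su.rho_Q ha, omV_zero, add_zero]⟩

theorem rad_inv {a : G} {o : ℕ} (ha : Rad z ρ s a o) : Rad z ρ s a⁻¹ o :=
  ⟨inv_mem ha.1, fun x => X.su.rho_inj (X.Az ha.1) (by
    rw [← X.su.rho_mul (X.Az ha.1) (X.su.comm_inv (X.Az ha.1)), mul_inv_cancel, X.su.rho_one, ha.2,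
      omV_add, omV_omV, add_zero, CoT.add_cancel])⟩

theorem exists_rad {a : G} (ha : a ∈ AA z s) : ∃ o < 64, Rad z ρ s a o := by
  obtain ⟨o, ho, h⟩ := exists_omV (X.su.rho_add (X.Az ha)) (X.su.rho_q (X.Az ha))
    (X.su.rho_bil (X.Az ha)) (X.fix ha)
  exact ⟨o, ho, ha, h⟩

theorem rad_diff {a b : G} {o : ℕ} (ha : Rad z ρ s a o) (hb : Rad z ρ s b o) :
    a * b⁻¹ ∈ Q ∧ ∀ i, bil (π (a * b⁻¹)) (E i) = 0 := by
  have h := X.rad_mul ha (X.rad_inv hb)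
  rw [Nat.xor_self] at h
  have hQ : a * b⁻¹ ∈ Q := (X.su.ker _ (X.Az h.1)).1 fun x => by rw [h.2, omV_zero, add_zero]
  exact ⟨hQ, (X.mem_Q hQ).1 h.1⟩

theorem vec_mem {i j : Fin 4} {b : G} (hb : b ∈ hB z Q (g i)) (hv : Vec π ρ (s i) b (E j)) :
    b ∈ AA z s ∧ ∀ x, ρ b x = x + tn i j x := by
  refine ⟨mem_AA.2 ⟨((X.fr i).B_comm hb).1, fun k => ?_⟩, fun x => by rw [hv.2, X.se, sg_EE]⟩
  have hk : s k ∈ hA Q (s i) := (X.fr i).mem_A.2 ⟨(X.fr k).sQ, by rw [X.se, X.se, E_bil]⟩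
  have h := (X.fr i).conj_rule hk hb hv
  rw [X.se, E_bil, zb_zero, zb_zero, one_mul, one_mul] at h
  exact mul_inv_eq_iff_eq_mul.1 h

theorem exists_r {i j : Fin 4} (hij : i ≠ j) : ∃ r, (r ∈ hB z Q (g i) ∧ Vec π ρ (s i) r (E j)) ∧
    (r ∈ hB z Q (g j) ∧ Vec π ρ (s j) r (E i)) := by
  obtain ⟨b, hb, hv⟩ := (X.fr i).exists_B (v := E j) (by rw [X.se, E_bil])
  obtain ⟨b', hb', hv'⟩ := (X.fr j).exists_B (v := E i) (by rw [X.se, E_bil])
  obtain ⟨hbA, hρ⟩ := X.vec_mem hb hv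
  obtain ⟨hbA', hρ'⟩ := X.vec_mem hb' hv'
  set d := b⁻¹ * b' with hd
  have hdA : d ∈ AA z s := mul_mem (inv_mem hbA) hbA'
  have hdQ : d ∈ Q := (X.su.ker d (X.Az hdA)).1 fun x => by
    refine X.su.rho_inj (X.Az hbA) ?_
    rw [← X.su.rho_mul (X.Az hbA) (X.Az hdA), hd, mul_inv_cancel_left, hρ', hρ, tn_symm]
  have hdW := (X.mem_Q hdQ).1 hdA
  have hdk : ∀ k, k ≠ i → k ≠ j → bil (Fv k) (π d) = 0 := by
    intro k hki hkj
    obtain ⟨y, hy, hyp⟩ := X.su.pi_surj (Fv k)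
    have c1 := (X.fr i).conj_rule ((X.fr i).mem_A.2 ⟨hy, by rw [hyp, X.se, FE_ne hki]⟩) hb hv
    have c2 := (X.fr j).conj_rule ((X.fr j).mem_A.2 ⟨hy, by rw [hyp, X.se, FE_ne hkj]⟩) hb' hv'
    rw [hyp, FE_ne hkj, zb_zero, zb_zero, one_mul, one_mul] at c1
    rw [hyp, FE_ne hki, zb_zero, zb_zero, one_mul, one_mul] at c2
    have h1 : Commute b y := mul_inv_eq_iff_eq_mul.1 c1
    have h2 : Commute b' y := mul_inv_eq_iff_eq_mul.1 c2
    rw [← hyp, bil_comm]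
    exact (X.su.comm_iff hdQ hy).1 (h1.inv_left.mul_left h2).eq
  have hp := dual_two i j hij _ hdW hdk
  set e := zb z 0 * zb (s j) (bil (Fv j) (π d)) with he
  have heE : e ∈ Q ⊓ Q₁ Q (g j) := (X.fr j).zb_mem _ _
  have hde : b⁻¹ * (b' * e) ∈ Q ⊓ Q₁ Q (g i) := by
    rw [show b⁻¹ * (b' * e) = d * e by rw [hd]; group]
    have hm : d * e ∈ hA Q (s i) := (X.fr i).mem_A.2 ⟨mul_mem hdQ heE.1, by
      rw [X.su.pi_mul _ hdQ _ heE.1, he, (X.fr j).pi_zb, X.se, X.se, bil_add_left, bil_sm_left,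
        hdW, E_bil, mul_zero, add_zero]⟩
    have h1 := (X.fr i).A_diff (one_mem _) hm (by
      rw [X.su.pi_one, X.su.pi_mul _ hdQ _ heE.1, he, (X.fr j).pi_zb, X.se, X.se]
      set c := bil (Fv i) (π d) with hc
      set c' := bil (Fv j) (π d) with hc'
      rw [hp, CoT.add_cancel]
      rcases F_cases c with h0 | h0 <;> rw [h0]
      · rw [sm_zero]; exact Eqv.refl _ _
      · rw [sm_one]; exact Or.inr (CoT.add_self _).symm)
    simpa using h1
  refine ⟨b' * e, ⟨?_, ?_⟩, ?_, ?_⟩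
  · rw [show b' * e = b * (b⁻¹ * (b' * e)) by group]
    exact mul_mem hb ((X.fr i).orth.inf_le hde).2
  · rw [show b' * e = b * (b⁻¹ * (b' * e)) by group]
    simpa using (X.fr i).vec_mul hb ((X.fr i).orth.inf_le hde).2 hv ((X.fr i).vec_E hde)
  · exact mul_mem hb' ((X.fr j).orth.inf_le heE).2
  · simpa using (X.fr j).vec_mul hb' ((X.fr j).orth.inf_le heE).2 hv' ((X.fr j).vec_E heE)

theorem exists_rsys : ∃ r, RSys z Q π ρ s g r := by
  have h : ∀ k, (pr k).1 ≠ (pr k).2 := by decide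
  choose r hr using fun k => X.exists_r (h k)
  exact ⟨r, hr⟩

variable {r : Fin 6 → G} (hr : RSys z Q π ρ s g r)
include hr

theorem rad_r : ∀ k : Fin 6, Rad z ρ s (r k) (2 ^ (k : ℕ)) := by
  intro k
  obtain ⟨hm, h⟩ := X.vec_mem (hr k).1.1 (hr k).1.2
  refine ⟨hm, fun x => ?_⟩
  rw [h]
  congr 1
  exact ext8 (tn_add _ _) (omV_add _) (fun i => by simp [omV_E, tn, E_bil, sm_zero]) (omV_single k) x

theorem rad_ev : ∀ (l : List G) (L : List ℕ), List.Forall₂ (Rad z ρ s) l L →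
    ∀ y, Rad z ρ s (ev l y) (lin L y)
  | _, _, List.Forall₂.nil, _ => X.rad_one
  | _, _, @List.Forall₂.cons _ _ _ a o l L h h', y => by
    refine X.rad_mul ?_ (rad_ev l L h' _)
    cases Nat.testBit y 0
    · simpa using X.rad_one
    · simpa using h

theorem rad_eg {y : ℕ} (hy : y < 2048) : Rad z ρ s (eg z s r y) (om y) := by
  have hL : ((List.range 2048).all fun y =>
      Nat.beq (lin [0, 0, 0, 0, 0, 1, 2, 4, 8, 16, 32] y) (om y)) = true := by decide +kernel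
  rw [← Nat.eq_of_beq_eq_true (List.all_eq_true.1 hL y (List.mem_range.2 hy))]
  refine X.rad_ev hr _ _ ?_ y
  have hs := fun i => X.rad_Q (X.fr i).sQ (X.s_mem i)
  exact .cons (X.rad_Q X.su.loc.mem X.z_mem) (.cons (hs 0) (.cons (hs 1) (.cons (hs 2) (.cons (hs 3)
    (.cons (X.rad_r hr 0) (.cons (X.rad_r hr 1) (.cons (X.rad_r hr 2) (.cons (X.rad_r hr 3)
    (.cons (X.rad_r hr 4) (.cons (X.rad_r hr 5) .nil))))))))))

theorem eg_mem (y : ℕ) : eg z s r y ∈ AA z s := ev_mem (by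
  simp only [gens, List.forall_mem_cons, List.not_mem_nil, IsEmpty.forall_iff, implies_true, and_true]
  exact ⟨X.z_mem, X.s_mem 0, X.s_mem 1, X.s_mem 2, X.s_mem 3, (X.rad_r hr 0).1, (X.rad_r hr 1).1,
    (X.rad_r hr 2).1, (X.rad_r hr 3).1, (X.rad_r hr 4).1, (X.rad_r hr 5).1⟩) y

omit X hr in
theorem eg_split (w o : ℕ) (hw : w < 32) :
    eg z s r (w + 32 * o) = ev [z, s 0, s 1, s 2, s 3] w * ev [r 0, r 1, r 2, r 3, r 4, r 5] o := by
  have h := ev_append [z, s 0, s 1, s 2, s 3] [r 0, r 1, r 2, r 3, r 4, r 5] (w + 32 * o)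
  have h1 := ev_mod [z, s 0, s 1, s 2, s 3] w o
  have h2 : (w + 32 * o) / 2 ^ ([z, s 0, s 1, s 2, s 3] : List G).length = o := by
    show (w + 32 * o) / 32 = o
    omega
  rw [h2] at h
  exact h.trans (congrArg (fun u => u * _) h1)

theorem eg_surj {a : G} (ha : a ∈ AA z s) : ∃ y : Fin 2048, eg z s r y = a := by
  obtain ⟨o, ho, hR⟩ := X.exists_rad ha
  have hb := X.rad_eg hr (y := 0 + 32 * o) (by omega)
  rw [show om (0 + 32 * o) = o by unfold om; omega] at hb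
  obtain ⟨hQ, hW⟩ := X.rad_diff hR hb
  obtain ⟨w, hw⟩ := X.low_surj hQ hW
  refine ⟨⟨w + 32 * o, by omega⟩, ?_⟩
  rw [eg_split _ _ w.2, ← hw, eg_split _ _ (show 0 < 32 by norm_num), ev_zero, one_mul,
    inv_mul_cancel_right]

theorem card_le : Nat.card ↥(AA z s) ≤ 2048 := by
  rw [← Nat.card_fin 2048]
  refine Nat.card_le_card_of_surjective (fun y : Fin 2048 => ⟨eg z s r y, X.eg_mem hr y⟩) ?_
  rintro ⟨a, ha⟩
  obtain ⟨y, hy⟩ := X.eg_surj hr ha
  exact ⟨y, Subtype.ext hy⟩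

theorem eg_one {y : ℕ} (hy : y < 2048) (h : eg z s r y = 1) : y = 0 := by
  have hR := X.rad_eg hr hy
  rw [h] at hR
  have ho : om y < 64 := by unfold om; omega
  have h0 : (⟨om y, ho⟩ : Fin 64) = 0 := om_inj _ fun k => by
    have := hR.2 (Fv k)
    rw [X.su.rho_one] at this
    exact left_eq_add.1 this
  have hlt : y < 32 := by
    have := congrArg Fin.val h0
    simp only [om, Fin.val_zero] at this
    omega
  obtain ⟨-, hp⟩ := X.low_spec y
  have hs := eg_split (z := z) (s := s) (r := r) y 0 hlt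
  rw [mul_zero, add_zero, ev_zero, mul_one, h] at hs
  rw [← hs, X.su.pi_one] at hp
  have hc : ∀ a b c d : F, (0 : V) = sm a (E 0) + sm b (E 1) + sm c (E 2) + sm d (E 3) →
      a = 0 ∧ b = 0 ∧ c = 0 ∧ d = 0 := by decide +kernel
  obtain ⟨h1, h2, h3, h4⟩ := hc _ _ _ _ hp
  have hfin : ∀ u : Fin 32, bitF u 0 = 0 → bitF u 1 = 0 → bitF u 2 = 0 → bitF u 3 = 0 →
      bitF u 4 = 0 → u = 0 := by decide +kernel
  rw [ev5, h1, h2, h3, h4, zb_zero, zb_zero, zb_zero, zb_zero, mul_one, mul_one, mul_one, mul_one] at hs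
  have h5 : bitF y 0 = 0 := (F_cases _).resolve_right fun e => by
    rw [e, zb_one] at hs
    exact X.su.loc.ne_one hs.symm
  exact congrArg Fin.val (hfin ⟨y, hlt⟩ h5 h1 h2 h3 h4)

end Base

end Cfsg.Agent.CoM24
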