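import Cfsg.Agent.Lib.CoM24.Moves

/-!
An element of the normaliser of the abelian subgroup exchanging the central involution with the first
base lift, in normal form.
-/

set_option autoImplicit false
set_option linter.style.haveILetI false
set_option linter.unusedSectionVars false
set_option maxRecDepth 20000
set_option synthInstance.maxSize 4000
set_option synthInstance.maxHeartbeats 400000

namespace Cfsg.Agent.CoM24

open Cfsg.Agent.CoT Subgroup LargeExtra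

local notation "F" => ZMod 2

theorem third_cases : ∀ x : V, q x = 0 → bil x e0 = 0 → bil x e1 = 0 → bil x e2 = 0 →
    (∀ α β γ : F, x ≠ sm α e1 + sm β e2 + sm γ e0) → ∃ α β γ : F,
      x = e3 + sm α e1 + sm β e2 + sm γ e0 ∨ x = f3 + sm α e1 + sm β e2 + sm γ e0 := by
  decide +kernel

theorem adj_facts : ∀ α β γ : F,
    (let f := fun v => sg e1 (sm α f3) (sg e2 (sm β f3) v)
    f e0 = e0 ∧ f e1 = e1 ∧ f e2 = e2 ∧ Eqv e0 (f (e3 + sm α e1 + sm β e2 + sm γ e0)) e3) ∧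
    (let f := fun v => sg e1 (sm α e3) (sg e2 (sm β e3) v)
    f e0 = e0 ∧ f e1 = e1 ∧ f e2 = e2 ∧ Eqv e0 (f (f3 + sm α e1 + sm β e2 + sm γ e0)) f3) ∧
    bil (sm α f3) e1 = 0 ∧ bil (sm β f3) e2 = 0 ∧ bil (sm α e3) e1 = 0 ∧ bil (sm β e3) e2 = 0 := by
  decide +kernel

theorem exists_adj {x : V} (h : q x = 0) (h0 : bil x e0 = 0) (h1 : bil x e1 = 0) (h2 : bil x e2 = 0)
    (hs : ∀ α β γ : F, x ≠ sm α e1 + sm β e2 + sm γ e0) :
    ∃ f, IsOm f ∧ f e0 = e0 ∧ f e1 = e1 ∧ f e2 = e2 ∧ (Eqv e0 (f x) e3 ∨ Eqv e0 (f x) f3) := by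
  obtain ⟨q1, q2⟩ : q e1 = 0 ∧ q e2 = 0 := by decide +kernel
  obtain ⟨α, β, γ, rfl | rfl⟩ := third_cases x h h0 h1 h2 hs
  · obtain ⟨⟨a, b, c, d⟩, -, k1, k2, -, -⟩ := adj_facts α β γ
    exact ⟨_, (isOm_sg q1 k1).comp (isOm_sg q2 k2), a, b, c, Or.inl d⟩
  · obtain ⟨-, ⟨a, b, c, d⟩, -, -, k1, k2⟩ := adj_facts α β γ
    exact ⟨_, (isOm_sg q1 k1).comp (isOm_sg q2 k2), a, b, c, Or.inr d⟩

theorem comb_zero : ∀ a b c : F, Eqv e0 (sm a e1 + sm b e2 + sm c e3) 0 → a = 0 ∧ b = 0 ∧ c = 0 := by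
  decide +kernel

theorem f3_facts : bil f3 e0 = 0 ∧ bil f3 e1 = 0 ∧ bil f3 e2 = 0 ∧ bil f3 e3 = 1 ∧ flip3 f3 = e3 ∧
    flip3 e0 = e0 ∧ flip3 e1 = e1 ∧ flip3 e2 = e2 ∧ bil e1 e0 = 0 ∧ bil e2 e0 = 0 ∧ bil e2 e1 = 0 ∧
    q f3 = 0 ∧ f3 ≠ 0 ∧ bil e1 f3 = 0 ∧ bil e2 f3 = 0 := by decide +kernel

theorem flip3_E : flip3 (E 0) = E 0 ∧ flip3 (E 1) = E 1 ∧ flip3 (E 2) = E 2 := by decide +kernel

theorem sym_coords : ∀ o : Fin 64, ∀ i : Fin 4, bitF o 0 = 0 → bitF o 1 = 0 → bitF o 2 = 0 →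
    bil (Fv 0) (omV o (Fv i)) = 0 := by decide +kernel

variable {G : Type*} [Group G] [Finite G] {z : G} {Q : Subgroup G} {π : G → V} {ρ : G → V → V}
  {s g : Fin 4 → G}

/-- Exchange of the central involution and the first lift. -/
def SwapAt (z t h : G) : Prop := h * z * h⁻¹ = t ∧ h * t * h⁻¹ = z

theorem SwapAt.inv {t h : G} (H : SwapAt z t h) : SwapAt z t h⁻¹ :=
  ⟨by rw [inv_inv, ← H.2]; group, by rw [inv_inv, ← H.1]; group⟩

theorem SwapAt.comp {t h c : G} (H : SwapAt z t h) (hz : c * z = z * c) (ht : c * t = t * c) :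
    SwapAt z t (c * h) :=
  ⟨by rw [show c * h * z * (c * h)⁻¹ = c * (h * z * h⁻¹) * c⁻¹ by group, H.1, mul_inv_eq_iff_eq_mul, ht],
    by rw [show c * h * t * (c * h)⁻¹ = c * (h * t * h⁻¹) * c⁻¹ by group, H.2, mul_inv_eq_iff_eq_mul, hz]⟩

theorem conj_zb {h x : G} (c : F) : h * zb x c * h⁻¹ = zb (h * x * h⁻¹) c := by
  rcases F_cases c with rfl | rfl <;> simp [zb_zero, zb_one]

namespace Base

variable (X : Base z Q π ρ s g)
include X

theorem vec_zb {b : G} {u : V} (hb : b ∈ hB z Q (g 0)) (hu : Vec π ρ (s 0) b u) (c : F) :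
    zb b c ∈ hB z Q (g 0) ∧ Vec π ρ (s 0) (zb b c) (sm c u) := by
  rcases F_cases c with rfl | rfl
  · rw [zb_zero, sm_zero]; exact ⟨one_mem _, (X.fr 0).vec_E (one_mem _)⟩
  · rw [zb_one, sm_one]; exact ⟨hb, hu⟩

theorem s_hA (i : Fin 4) : s i ∈ hA Q (s 0) :=
  (X.fr 0).mem_A.2 ⟨(X.fr i).sQ, by rw [X.se, X.se, E_bil]⟩

/-- The images of the lifts under an exchange are independent. -/
theorem swap_indep {h : G} (H : SwapAt z (s 0) h) {u : Fin 3 → V}
    (hu : ∀ j : Fin 3, Vec π ρ (s 0) (h * s j.succ * h⁻¹) (u j)) (a b c : F)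
    (he : Eqv e0 (sm a (u 0) + sm b (u 1) + sm c (u 2)) 0) : a = 0 ∧ b = 0 ∧ c = 0 := by
  have X0 := X.fr 0
  have hm : ∀ j : Fin 3, h * s j.succ * h⁻¹ ∈ hB z Q (g 0) := fun j => X0.swap_A H.1 H.2 (X.s_hA _)
  obtain ⟨ma, va⟩ := X.vec_zb (hm 0) (hu 0) a
  obtain ⟨mb, vb⟩ := X.vec_zb (hm 1) (hu 1) b
  obtain ⟨mc, vc⟩ := X.vec_zb (hm 2) (hu 2) c
  have hd := X0.mem_E_of_vec (mul_mem (mul_mem ma mb) mc)
    (X0.vec_mul (mul_mem ma mb) mc (X0.vec_mul ma mb va vb) vc) (by rw [X.se]; exact he)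
  have hP := X0.swap_E H.inv.1 H.inv.2 hd
  rw [← conj_zb, ← conj_zb, ← conj_zb] at hP
  set P := h⁻¹ * (h * zb (s (0 : Fin 3).succ) a * h⁻¹ * (h * zb (s (1 : Fin 3).succ) b * h⁻¹) *
    (h * zb (s (2 : Fin 3).succ) c * h⁻¹)) * h⁻¹⁻¹ with hPd
  have hPe : P = zb (s 1) a * zb (s 2) b * zb (s 3) c := by rw [hPd]; simp [mul_assoc]
  rw [hPe] at hP
  have hp := X0.E_pi hP
  obtain ⟨m1, p1⟩ := X.pi_zb 1 a
  obtain ⟨m2, p2⟩ := X.pi_zb 2 b
  obtain ⟨m3, p3⟩ := X.pi_zb 3 c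
  rw [X.su.pi_mul _ (mul_mem m1 m2) _ m3, X.su.pi_mul _ m1 _ m2, p1, p2, p3, X.se] at hp
  exact comb_zero a b c hp

/-- An exchange carrying the lifts to one of the two kinds of singular subspace. -/
theorem swap_kinds : ∃ h, SwapAt z (s 0) h ∧ ∃ x, (x = e3 ∨ x = f3) ∧
    Vec π ρ (s 0) (h * s 1 * h⁻¹) e1 ∧ Vec π ρ (s 0) (h * s 2 * h⁻¹) e2 ∧
      Vec π ρ (s 0) (h * s 3 * h⁻¹) x := by
  have X0 := X.fr 0
  have se0 : π (s 0) = e0 := X.se 0
  obtain ⟨h, hz, hs⟩ := X0.exists_swap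
  have H : SwapAt z (s 0) h := ⟨hz, hs⟩
  have hm : ∀ j : Fin 3, h * s j.succ * h⁻¹ ∈ hB z Q (g 0) := fun j => X0.swap_A hz hs (X.s_hA _)
  choose u hu using fun j => X0.B_vec (hm j)
  have hu0 : ∀ j, bil (u j) e0 = 0 := fun j => by rw [← se0]; exact (hu j).1
  have huq : ∀ j, q (u j) = 0 := fun j => by
    have h1 := X0.B_sq (hm j) (hu j)
    have h2 : h * s j.succ * h⁻¹ * (h * s j.succ * h⁻¹) = 1 := by
      rw [show h * s j.succ * h⁻¹ * (h * s j.succ * h⁻¹) = h * (s j.succ * s j.succ) * h⁻¹ by group,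
        (X.fr _).ss]; group
    rw [h2] at h1
    exact ((X0.zb_eq_one (c := 0) (d := q (u j)) (by rw [zb_zero, one_mul]; exact h1.symm))).2
  have hub : ∀ i j, bil (u i) (u j) = 0 := fun i j => by
    have h1 := X0.B_rule (hm i) (hm j) (hu i) (hu j)
    have h2 : h * s j.succ * h⁻¹ * (h * s i.succ * h⁻¹) = h * s i.succ * h⁻¹ * (h * s j.succ * h⁻¹) := by
      calc _ = h * (s j.succ * s i.succ) * h⁻¹ := by group
        _ = h * (s i.succ * s j.succ) * h⁻¹ := by rw [X.s_comm]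
        _ = _ := by group
    rw [h2] at h1
    exact ((X0.zb_eq_one (c := 0) (d := bil (u i) (u j))
      (by rw [zb_zero, one_mul]; exact (left_eq_mul.1 h1)))).2
  have hind := X.swap_indep H hu
  have bad : ∀ (a b c : F) (d : F), sm a (u 0) + sm b (u 1) + sm c (u 2) = sm d e0 →
      a = 0 ∧ b = 0 ∧ c = 0 := fun a b c d e => hind a b c (by
    rw [e]
    rcases F_cases d with rfl | rfl
    · rw [sm_zero]; exact Eqv.refl _ _
    · rw [sm_one]; exact Or.inr (zero_add _).symm)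
  obtain ⟨k1, hk1, k10, k11⟩ := move_e1 (huq 0) (hu0 0)
    (fun e => one_ne_zero (bad 1 0 0 0 (by simp only [e, sm_zero, sm_one, add_zero])).1)
    (fun e => one_ne_zero (bad 1 0 0 1 (by simp only [e, sm_zero, sm_one, add_zero])).1)
  have hk1b : ∀ j, bil (k1 (u j)) e0 = 0 := fun j => by rw [← k10, hk1.bil_eq, hu0]
  have inj2 : ∀ v, k1 (u 1) = k1 v → u 1 = v := fun v e => hk1.inj e
  obtain ⟨k2, hk2, k20, k21, k22⟩ := move_e2 (x := k1 (u 1)) (by rw [hk1.q_eq, huq]) (hk1b 1)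
    (by rw [← k11, hk1.bil_eq, hub])
    (fun e => one_ne_zero (bad 0 1 0 0 (by
      simp only [inj2 0 (e.trans hk1.zero.symm), sm_zero, sm_one, add_zero])).2.1)
    (fun e => one_ne_zero (bad 0 1 0 1 (by
      simp only [inj2 e0 (e.trans k10.symm), sm_zero, sm_one, add_zero, zero_add])).2.1)
    (fun e => one_ne_zero (bad 1 1 0 0 (by
      simp only [inj2 (u 0) (e.trans k11.symm), sm_zero, sm_one, add_zero, CoT.add_self])).2.1)
    (fun e => one_ne_zero (bad 1 1 0 1 (by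
      simp only [inj2 (e0 + u 0) (by rw [e, hk1.add, k10, k11]), sm_zero, sm_one, add_zero]
      rw [add_left_comm, CoT.add_self, add_zero])).2.1)
  let k := fun v => k2 (k1 v)
  have hk : IsOm k := hk2.comp hk1
  have kf : k e0 = e0 ∧ k (u 0) = e1 ∧ k (u 1) = e2 :=
    ⟨by show k2 (k1 e0) = e0; rw [k10, k20], by show k2 (k1 (u 0)) = e1; rw [k11, k21], k22⟩
  obtain ⟨k3, hk3, k30, k31, k32, hk33⟩ := exists_adj (x := k (u 2)) (by rw [hk.q_eq, huq])
    (by rw [← kf.1, hk.bil_eq, hu0]) (by rw [← kf.2.1, hk.bil_eq, hub])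
    (by rw [← kf.2.2, hk.bil_eq, hub]) (fun α β γ e => by
      refine one_ne_zero (bad α β 1 γ ?_).2.2
      refine hk.inj ?_
      rw [hk.add, hk.add, hk.sm, hk.sm, hk.sm, hk.sm, kf.1, kf.2.1, kf.2.2, e, sm_one, ← add_assoc,
        CoT.add_self, zero_add])
  obtain ⟨c, hcz, hcs, hρ⟩ := X0.lift_fix (hk3.comp hk) (by
    show k3 (k (π (s 0))) = π (s 0)
    rw [se0, kf.1, k30])
  have hv : ∀ j : Fin 3, Vec π ρ (s 0) (c * h * s j.succ * (c * h)⁻¹) (k3 (k (u j))) := fun j => by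
    have h1 := (X0.conj_B hcz hcs (hm j) (hu j)).2
    rw [hρ] at h1
    rw [show c * h * s j.succ * (c * h)⁻¹ = c * (h * s j.succ * h⁻¹) * c⁻¹ by group]
    exact h1
  refine ⟨c * h, H.comp hcz hcs, ?_⟩
  have v0 := hv 0
  have v1 := hv 1
  have v2 := hv 2
  rw [kf.2.1, k31] at v0
  rw [kf.2.2, k32] at v1
  rcases hk33 with e | e
  · exact ⟨e3, Or.inl rfl, v0, v1, X0.vec_congr v2 (by rw [se0]; exact e.symm)⟩
  · exact ⟨f3, Or.inr rfl, v0, v1, X0.vec_congr v2 (by rw [se0]; exact e.symm)⟩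

end Base

namespace Four

variable (X : Four z Q π ρ s g) {r : Fin 6 → G} (hr : RSys z Q π ρ s g r)
include X hr

/-- The second kind does not occur. -/
theorem no_flip {h : G} (H : SwapAt z (s 0) h) (h1 : Vec π ρ (s 0) (h * s 1 * h⁻¹) e1)
    (h2 : Vec π ρ (s 0) (h * s 2 * h⁻¹) e2) (h3 : Vec π ρ (s 0) (h * s 3 * h⁻¹) f3) : False := by
  obtain ⟨b0, b1, b2, b3, fl, fl0, fl1, fl2, e10, e20, e21, qf, fne, b1', b2'⟩ := f3_facts
  obtain ⟨E0, E1, E2⟩ := flip3_E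
  have X0 := X.fr 0
  obtain ⟨x₃, g₃, X₃, e₃⟩ := X0.exists_vec qf fne
  set s' : Fin 4 → G := ![s 0, s 1, s 2, x₃] with hs'
  set g' : Fin 4 → G := ![g 0, g 1, g 2, g₃] with hg'
  have B' : Base z Q (pi' π) (rho' ρ) s' g' := by
    constructor
    · intro i
      fin_cases i
      exacts [flip_fr (X.fr 0), flip_fr (X.fr 1), flip_fr (X.fr 2), flip_fr X₃]
    · intro i
      fin_cases i
      · show flip3 (π (s 0)) = E 0; rw [X.se, E0]
      · show flip3 (π (s 1)) = E 1; rw [X.se, E1]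
      · show flip3 (π (s 2)) = E 2; rw [X.se, E2]
      · show flip3 (π x₃) = e3; rw [e₃, fl]
  obtain ⟨r', hr'⟩ := B'.exists_rsys
  set M := (AA z s).map (MulAut.conj h).toMonoidHom
  have hcard : Nat.card M = 2048 := by
    rw [card_map_of_injective (MulAut.conj h).injective, X.card_AA hr]
  have hm : ∀ i, h * s i * h⁻¹ ∈ hB z Q (g 0) := fun i => X0.swap_A H.1 H.2 (X.base.s_hA i)
  have hxm : ∀ i, s' i ∈ M := by
    intro i
    have hQ : s' i ∈ Q := (B'.fr i).sQ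
    have hp : ∀ v, v = e1 ∨ v = e2 ∨ v = f3 → bil (π (s' i)) v = 0 := fun v hv => by
      fin_cases i
      · show bil (π (s 0)) v = 0
        rw [X.se, show E 0 = e0 from rfl, bil_comm]
        rcases hv with rfl | rfl | rfl
        exacts [e10, e20, b0]
      · show bil (π (s 1)) v = 0
        rw [X.se, show E 1 = e1 from rfl]
        rcases hv with rfl | rfl | rfl
        exacts [bil_self _, by rw [bil_comm, e21], b1']
      · show bil (π (s 2)) v = 0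
        rw [X.se, show E 2 = e2 from rfl]
        rcases hv with rfl | rfl | rfl
        exacts [e21, bil_self _, b2']
      · show bil (π x₃) v = 0
        rw [e₃]
        rcases hv with rfl | rfl | rfl
        exacts [b1, b2, bil_self _]
    have hA : s' i ∈ hA Q (s 0) := X0.mem_A.2 ⟨hQ, by
      fin_cases i
      · show bil (π (s 0)) (π (s 0)) = 0; exact bil_self _
      · show bil (π (s 1)) (π (s 0)) = 0; rw [X.se, X.se, E_bil]
      · show bil (π (s 2)) (π (s 0)) = 0; rw [X.se, X.se, E_bil]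
      · show bil (π x₃) (π (s 0)) = 0; rw [e₃, X.se]; exact b0⟩
    have hc : ∀ (j : Fin 4) (v : V), Vec π ρ (s 0) (h * s j * h⁻¹) v →
        (v = e1 ∨ v = e2 ∨ v = f3) → Commute (h * s j * h⁻¹) (s' i) := fun j v hv hv' => by
      have := X0.conj_rule hA (hm j) hv
      rw [hp v hv', zb_zero, zb_zero, one_mul, one_mul] at this
      exact mul_inv_eq_iff_eq_mul.1 this
    have hcz : Commute (h * z * h⁻¹) (s' i) := by
      rw [H.1]; exact (mem_centralizer_one.1 hA.2).symm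
    have hcs : Commute (h * s 0 * h⁻¹) (s' i) := by
      rw [H.2]; exact (X.base.su.Qz hQ).symm
    refine ⟨h⁻¹ * s' i * h, ?_, by show h * (h⁻¹ * s' i * h) * h⁻¹ = s' i; group⟩
    have back : ∀ y : G, Commute (h * y * h⁻¹) (s' i) → h⁻¹ * s' i * h * y = y * (h⁻¹ * s' i * h) :=
      fun y hy => by
      calc h⁻¹ * s' i * h * y = h⁻¹ * (s' i * (h * y * h⁻¹)) * h := by group
        _ = h⁻¹ * (h * y * h⁻¹ * s' i) * h := by rw [hy.eq]
        _ = y * (h⁻¹ * s' i * h) := by group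
    refine mem_AA.2 ⟨back z hcz, fun j => back _ ?_⟩
    fin_cases j
    exacts [hcs, hc 1 e1 h1 (Or.inl rfl), hc 2 e2 h2 (Or.inr (Or.inl rfl)), hc 3 f3 h3 (Or.inr (Or.inr rfl))]
  have hzm : z ∈ M := ⟨s 0, X.base.s_mem 0, H.2⟩
  have hMc : ∀ u ∈ M, ∀ w ∈ M, u * w = w * u := by
    rintro _ ⟨u, hu, rfl⟩ _ ⟨w, hw, rfl⟩
    show h * u * h⁻¹ * (h * w * h⁻¹) = h * w * h⁻¹ * (h * u * h⁻¹)
    calc _ = h * (u * w) * h⁻¹ := by group
      _ = h * (w * u) * h⁻¹ := by rw [X.AA_comm hr hu hw]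
      _ = _ := by group
  have hle : M ≤ AA z s' := fun u hu => mem_AA.2 ⟨hMc u hu z hzm, fun i => hMc u hu _ (hxm i)⟩
  have heq : M = AA z s' := eq_of_le_of_card_ge hle (by rw [hcard]; exact B'.card_le hr')
  obtain ⟨b', hb', hv'⟩ := (X.fr 1).exists_B (v := e2) (by rw [X.se]; exact e21)
  have hb'A : b' ∈ M := by
    rw [heq]
    have hvf : Vec (pi' π) (rho' ρ) (s' 1) b' (E 2) := by
      have := flip_vec (π := pi' π) (ρ := rho' ρ) (s := s 1) (b := b') (v := e2) hv'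
      rwa [fl2] at this
    exact (B'.vec_mem (i := 1) (j := 2) hb' hvf).1
  have hd : h * s 3 * h⁻¹ ∈ M := ⟨s 3, X.base.s_mem 3, rfl⟩
  have hmu := X.mu f3 b0 b1 b2 _ (hm 3) h3 b' hb' hv'
  rw [b3, zb_one, hMc _ hb'A _ hd, mul_inv_cancel_right] at hmu
  exact X.base.su.loc.ne_one (left_eq_mul.1 hmu)

theorem rsys_twist (c : Fin 6 → F) : RSys z Q π ρ s g (fun k => r k * zb z (c k)) := by
  intro k
  have key : ∀ (i : Fin 4) (v : V), r k ∈ hB z Q (g i) → Vec π ρ (s i) (r k) v →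
      r k * zb z (c k) ∈ hB z Q (g i) ∧ Vec π ρ (s i) (r k * zb z (c k)) v := fun i v hm hv => by
    have hE : zb z (c k) ∈ Q ⊓ Q₁ Q (g i) := by
      have := (X.fr i).zb_mem (c k) 0
      rwa [zb_zero, mul_one] at this
    refine ⟨mul_mem hm ((X.fr i).orth.inf_le hE).2, ?_⟩
    simpa using (X.fr i).vec_mul hm ((X.fr i).orth.inf_le hE).2 hv ((X.fr i).vec_E hE)
  exact ⟨key _ _ (hr k).1.1 (hr k).1.2, key _ _ (hr k).2.1 (hr k).2.2⟩

end Four

/-- The first three pairs. -/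
def p0 (j : Fin 3) : Fin 6 := ⟨j.val, by omega⟩

/-- The exchange in normal form. -/
structure Sw (z : G) (Q : Subgroup G) (π : G → V) (ρ : G → V → V) (s g : Fin 4 → G) (r : Fin 6 → G)
    (a : Fin 4 → G) (n : G) : Prop where
  swap : SwapAt z (s 0) n
  norm : n ∈ normalizer (AA z s : Set G)
  ns : ∀ j : Fin 3, n * s j.succ * n⁻¹ = r (p0 j)
  w : ∀ k : Fin 3, ∃ w ∈ hB z Q (g 0), Vec π ρ (s 0) w (Fv k.succ) ∧ n * w * n⁻¹ = a k.succ

theorem succ_cases : ∀ i : Fin 4, i = 0 ∨ ∃ j : Fin 3, i = j.succ := by decide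

theorem pr_p0 : ∀ j : Fin 3, pr (p0 j) = (0, j.succ) := by decide

namespace Four

variable (X : Four z Q π ρ s g)
include X

/-- An exchange sending each lift to a lift of a pair. -/
theorem swap_first {r : Fin 6 → G} (hr : RSys z Q π ρ s g r) : ∃ (r' : Fin 6 → G) (h : G),
    RSys z Q π ρ s g r' ∧ SwapAt z (s 0) h ∧ ∀ j : Fin 3, h * s j.succ * h⁻¹ = r' (p0 j) := by
  classical
  have X0 := X.fr 0
  obtain ⟨h, H, x, hx, h1, h2, h3⟩ := X.base.swap_kinds
  obtain rfl : x = e3 := hx.resolve_right fun e => X.no_flip hr H h1 h2 (e ▸ h3)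
  have hm : ∀ j : Fin 3, h * s j.succ * h⁻¹ ∈ hB z Q (g 0) := fun j =>
    X0.swap_A H.1 H.2 (X.base.s_hA _)
  have hv : ∀ j : Fin 3, Vec π ρ (s 0) (h * s j.succ * h⁻¹) (E j.succ) := fun j => by
    fin_cases j
    exacts [h1, h2, h3]
  have hr0 : ∀ j : Fin 3, r (p0 j) ∈ hB z Q (g 0) ∧ Vec π ρ (s 0) (r (p0 j)) (E j.succ) := fun j => by
    have := (hr (p0 j)).1
    rwa [pr_p0] at this
  have hd : ∀ j : Fin 3, ∃ c c' : F, h * s j.succ * h⁻¹ = r (p0 j) * (zb z c * zb (s 0) c') := fun j => by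
    have he := X0.B_diff (hr0 j).1 (hm j) (hr0 j).2 (hv j) (Eqv.refl _ _)
    have e : h * s j.succ * h⁻¹ = r (p0 j) * ((r (p0 j))⁻¹ * (h * s j.succ * h⁻¹)) := by group
    rcases X0.mem_inter.1 he with e' | e' | e' | e' <;> rw [e'] at e
    · exact ⟨0, 0, by simp [e, zb_zero]⟩
    · exact ⟨1, 0, by simp [e, zb_zero, zb_one]⟩
    · exact ⟨0, 1, by simp [e, zb_zero, zb_one]⟩
    · exact ⟨1, 1, by rw [e, zb_one, zb_one, X0.sz]⟩
  choose c c' hcc using hd
  obtain ⟨t, ht, hpt⟩ := X.base.su.pi_surj (sm (c' 0) (Fv 1) + sm (c' 1) (Fv 2) + sm (c' 2) (Fv 3))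
  have htb : ∀ j : Fin 3, bil (π t) (E j.succ) = c' j := fun j => by
    rw [hpt]
    fin_cases j <;> simp [bil_add_left, bil_sm_left, FE_bil]
  have htA : t ∈ hA Q (s 0) := X0.mem_A.2 ⟨ht, by
    rw [hpt, X.se]; simp [bil_add_left, bil_sm_left, FE_bil]⟩
  let cc : Fin 6 → F := fun k => if hk : k.val < 3 then c ⟨k.val, hk⟩ + c' ⟨k.val, hk⟩ else 0
  refine ⟨fun k => r k * zb z (cc k), t * h, X.rsys_twist hr cc,
    H.comp (X.base.su.Qz ht) (X0.A_comm htA).2, fun j => ?_⟩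
  have hc0 : cc (p0 j) = c j + c' j := by
    have : (p0 j).val < 3 := j.2
    simp only [cc, dif_pos this]
    rfl
  show t * h * s j.succ * (t * h)⁻¹ = r (p0 j) * zb z (cc (p0 j))
  have hE : t * (zb z (c j) * zb (s 0) (c' j)) = zb z (c j) * zb (s 0) (c' j) * t :=
    X0.E_central_A htA (X0.zb_mem _ _)
  have e1 := X0.conj_B_by_A htA (hr0 j).1 (hr0 j).2
  rw [htb] at e1
  rw [hc0, show t * h * s j.succ * (t * h)⁻¹ = t * (h * s j.succ * h⁻¹) * t⁻¹ by group, hcc]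
  calc t * (r (p0 j) * (zb z (c j) * zb (s 0) (c' j))) * t⁻¹
      = t * r (p0 j) * t⁻¹ * (t * (zb z (c j) * zb (s 0) (c' j)) * t⁻¹) := by group
    _ = r (p0 j) * (zb z (c' j) * zb (s 0) (c' j) * (zb z (c j) * zb (s 0) (c' j))) := by
      rw [e1, hE]; group
    _ = r (p0 j) * zb z (c j + c' j) := by
      rw [X0.zb_mul', F_add_self, zb_zero, mul_one, add_comm (c' j)]

/-- An exchange in normal form. -/
theorem exists_sw : ∃ (r : Fin 6 → G) (a : Fin 4 → G) (n : G),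
    RSys z Q π ρ s g r ∧ TSys Q π a ∧ Sw z Q π ρ s g r a n := by
  classical
  obtain ⟨r₁, hr₁⟩ := X.base.exists_rsys
  obtain ⟨r, h, hr, H, hns⟩ := X.swap_first hr₁
  obtain ⟨a, ha⟩ := X.exists_tsys hr
  have X0 := X.fr 0
  have B := X.base
  -- the normaliser
  have himg : ∀ i, h * s i * h⁻¹ ∈ AA z s := fun i => by
    rcases succ_cases i with rfl | ⟨j, rfl⟩
    · rw [H.2]; exact B.z_mem
    · rw [hns]; exact (B.rad_r hr _).1
  set M := (AA z s).map (MulAut.conj h).toMonoidHom with hM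
  have hsM : ∀ u : G, u ∈ AA z s → (∀ i, Commute (h * s i * h⁻¹) u) → Commute (h * z * h⁻¹) u → u ∈ M :=
    fun u _ hc hcz => ⟨h⁻¹ * u * h, by
      have back : ∀ y : G, Commute (h * y * h⁻¹) u → h⁻¹ * u * h * y = y * (h⁻¹ * u * h) := fun y hy => by
        calc h⁻¹ * u * h * y = h⁻¹ * (u * (h * y * h⁻¹)) * h := by group
          _ = h⁻¹ * (h * y * h⁻¹ * u) * h := by rw [hy.eq]
          _ = y * (h⁻¹ * u * h) := by group
      exact mem_AA.2 ⟨back z hcz, fun i => back _ (hc i)⟩, by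
      show h * (h⁻¹ * u * h) * h⁻¹ = u; group⟩
  have hzA : h * z * h⁻¹ ∈ AA z s := by rw [H.1]; exact B.s_mem 0
  have hge : AA z s ≤ M := fun u hu => hsM u hu (fun i => X.AA_comm hr (himg i) hu) (X.AA_comm hr hzA hu)
  have hnorm : h ∈ normalizer (AA z s : Set G) := mem_normalizer_iff_map_conj_eq.2
    (eq_of_le_of_card_ge hge
      (Nat.card_congr ((AA z s).equivMapOfInjective _ (MulAut.conj h).injective).toEquiv).ge).symm
  -- the preimages of the translations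
  have hak : ∀ k : Fin 3, a k.succ ∈ hA Q (s 0) := fun k =>
    X0.mem_A.2 ⟨(ha _).1, by rw [(ha _).2, X.se, FE_ne (Fin.succ_ne_zero k)]⟩
  have hwm : ∀ k : Fin 3, h⁻¹ * a k.succ * h ∈ hB z Q (g 0) := fun k => by
    simpa using X0.swap_A H.inv.1 H.inv.2 (hak k)
  choose u hu using fun k => X0.B_vec (hwm k)
  have hu0 : ∀ k, bil (u k) e0 = 0 := fun k => by
    have := (hu k).1
    rwa [X.se] at this
  have hue : ∀ k j : Fin 3, bil (u k) (E j.succ) = bil (Fv k.succ) (E j.succ) := fun k j => by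
    have h1 := X0.conj_rule (B.s_hA j.succ) (hwm k) (hu k)
    rw [X.se, bil_comm] at h1
    set β := bil (u k) (E j.succ)
    have hrj := (hr (p0 j)).1
    rw [pr_p0] at hrj
    have h2 := X0.conj_B_by_A (hak k) hrj.1 hrj.2
    rw [(ha _).2] at h2
    have h3 := congrArg (fun y => h * y * h⁻¹) h1
    rw [show h * (h⁻¹ * a k.succ * h * s j.succ * (h⁻¹ * a k.succ * h)⁻¹) * h⁻¹ =
        a k.succ * (h * s j.succ * h⁻¹) * (a k.succ)⁻¹ by group, hns, h2,
      show h * (zb z β * zb (s 0) β * s j.succ) * h⁻¹ =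
        (h * zb z β * h⁻¹) * (h * zb (s 0) β * h⁻¹) * (h * s j.succ * h⁻¹) by group,
      conj_zb, conj_zb, H.1, H.2, hns] at h3
    have hc : zb (s 0) β * zb z β = zb z β * zb (s 0) β := zb_comm (by
      rcases F_cases β with e | e <;> rw [e]
      · simp [zb_zero]
      · rw [zb_one]; exact X0.sz) β
    rw [hc, ← X0.E_central_B hrj.1 (X0.zb_mem β β)] at h3
    exact (X0.zb_inj (mul_left_cancel h3)).1.symm
  have huq : ∀ k, q (u k) = 0 := fun k => by
    have h1 := X0.B_sq (hwm k) (hu k)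
    have h2 : a k.succ * a k.succ = 1 := by
      rw [B.su.sq _ (ha _).1, (ha _).2, (base_bil k.succ k.succ).2.2.2, zb_zero]
    rw [show h⁻¹ * a k.succ * h * (h⁻¹ * a k.succ * h) = h⁻¹ * (a k.succ * a k.succ) * h by group, h2,
      mul_one, inv_mul_cancel] at h1
    exact (X0.zb_eq_one (c := 0) (d := q (u k)) (by rw [zb_zero, one_mul]; exact h1.symm)).2
  have hub : ∀ k l, bil (u k) (u l) = 0 := fun k l => by
    have h1 := X0.B_rule (hwm k) (hwm l) (hu k) (hu l)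
    have h2 : a l.succ * a k.succ = a k.succ * a l.succ :=
      (B.su.comm_iff (ha _).1 (ha _).1).2 (by rw [(ha _).2, (ha _).2, (base_bil _ _).2.1])
    rw [show h⁻¹ * a l.succ * h * (h⁻¹ * a k.succ * h) = h⁻¹ * (a l.succ * a k.succ) * h by group, h2,
      show h⁻¹ * (a k.succ * a l.succ) * h = h⁻¹ * a k.succ * h * (h⁻¹ * a l.succ * h) by group] at h1
    exact (X0.zb_eq_one (c := 0) (d := bil (u k) (u l))
      (by rw [zb_zero, one_mul]; exact left_eq_mul.1 h1)).2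
  set T : Fin 3 → V := fun k => u k + Fv k.succ with hT
  have hTu : ∀ k, u k = Fv k.succ + T k := fun k => by
    show u k = Fv k.succ + (u k + Fv k.succ)
    rw [add_left_comm, CoT.add_self, add_zero]
  have hTW : ∀ k i, bil (T k) (E i) = 0 := fun k i => by
    show bil (u k + Fv k.succ) (E i) = 0
    rw [bil_add_left]
    rcases succ_cases i with rfl | ⟨j, rfl⟩
    · rw [FE_ne (Fin.succ_ne_zero k)]
      show bil (u k) e0 + 0 = 0
      rw [hu0, add_zero]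
    · rw [hue, F_add_self]
  have hTT : ∀ k l, bil (T k) (T l) = 0 := fun k l => by
    rw [dualW _ (hTW l)]
    simp only [bil_add_right, bil_sm_right, hTW, mul_zero, add_zero]
  have hsym : ∀ k l : Fin 3, bil (Fv k.succ) (T l) = bil (Fv l.succ) (T k) := fun k l => by
    have h1 := hub k l
    rw [hTu k, hTu l] at h1
    simp only [bil_add_left, bil_add_right, (base_bil k.succ l.succ).2.1, hTT, add_zero, zero_add,
      bil_comm (T k) (Fv l.succ)] at h1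
    exact F_eq_of_add _ _ ((add_comm _ _).trans h1)
  have hdiag : ∀ k, bil (Fv k.succ) (T k) = 0 := fun k => by
    have h1 := huq k
    have h2 : q (T k) = 0 := by
      have : ∀ d : V, (∀ i, bil d (E i) = 0) → q d = 0 := by decide +kernel
      exact this _ (hTW k)
    rw [hTu, q_add, (base_bil k.succ k.succ).2.2.2, h2, zero_add, zero_add] at h1
    exact h1
  obtain ⟨o, ho⟩ := bits6 ![0, 0, 0, bil (Fv 1) (T 1), bil (Fv 1) (T 2), bil (Fv 2) (T 2)]
  have hco : ∀ k l : Fin 3, bil (Fv k.succ) (omV o (Fv l.succ)) = bil (Fv k.succ) (T l) := by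
    obtain ⟨hco, hd0⟩ := om_coord o
    intro k l
    fin_cases k <;> fin_cases l
    · exact (hd0 1).trans (hdiag 0).symm
    · exact (hco 3).1.trans (ho 3)
    · exact (hco 4).1.trans (ho 4)
    · exact ((hco 3).2.trans (ho 3)).trans (hsym 1 0).symm
    · exact (hd0 2).trans (hdiag 1).symm
    · exact (hco 5).1.trans (ho 5)
    · exact ((hco 4).2.trans (ho 4)).trans (hsym 2 0).symm
    · exact ((hco 5).2.trans (ho 5)).trans (hsym 2 1).symm
    · exact (hd0 3).trans (hdiag 2).symm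
  have hkey : ∀ k : Fin 3, Eqv e0 (u k + omV o (u k)) (Fv k.succ) := fun k => by
    have h1 : omV o (u k) = omV o (Fv k.succ) := by
      rw [hTu, omV_add, omV_perp (hTW k), add_zero]
    set d := T k + omV o (Fv k.succ) with hd
    have hdW : ∀ i, bil d (E i) = 0 := fun i => by rw [hd, bil_add_left, hTW, omV_bil, add_zero]
    have hdl : ∀ l : Fin 3, bil (Fv l.succ) d = 0 := fun l => by
      rw [hd, bil_add_right, hco, F_add_self]
    have h2 := dualW d hdW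
    rw [show bil (Fv 1) d = 0 from hdl 0, show bil (Fv 2) d = 0 from hdl 1,
      show bil (Fv 3) d = 0 from hdl 2, sm_zero, sm_zero, sm_zero, add_zero, add_zero, add_zero] at h2
    rw [h1, hTu, add_assoc, ← hd, h2]
    rcases F_cases (bil (Fv 0) d) with e | e <;> rw [e]
    · rw [sm_zero, add_zero]; exact Eqv.refl _ _
    · rw [sm_one]; exact Or.inr rfl
  have hb := B.rad_eg hr (y := 32 * (o : ℕ)) (by omega)
  rw [show om (32 * (o : ℕ)) = o by unfold om; omega] at hb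
  set b := eg z s r (32 * (o : ℕ))
  have hbz := B.Az hb.1
  have hbs : ∀ i, b * s i = s i * b := (mem_AA.1 hb.1).2
  have hbi := B.rad_inv hb
  refine ⟨r, a, h * b, hr, ha, ⟨⟨?_, ?_⟩, mul_mem hnorm (le_normalizer hb.1), fun j => ?_, fun k => ?_⟩⟩
  · rw [show h * b * z * (h * b)⁻¹ = h * (b * z * b⁻¹) * h⁻¹ by group,
      mul_inv_eq_iff_eq_mul.2 hbz, H.1]
  · rw [show h * b * s 0 * (h * b)⁻¹ = h * (b * s 0 * b⁻¹) * h⁻¹ by group,
      mul_inv_eq_iff_eq_mul.2 (hbs 0), H.2]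
  · rw [show h * b * s j.succ * (h * b)⁻¹ = h * (b * s j.succ * b⁻¹) * h⁻¹ by group,
      mul_inv_eq_iff_eq_mul.2 (hbs _), hns]
  · refine ⟨b⁻¹ * (h⁻¹ * a k.succ * h) * b⁻¹⁻¹,
      (X0.conj_B (B.su.comm_inv hbz) (Commute.inv_left (hbs 0)).eq (hwm k) (hu k)).1, ?_, by group⟩
    have hv := (X0.conj_B (B.su.comm_inv hbz) (Commute.inv_left (hbs 0)).eq (hwm k) (hu k)).2
    rw [hbi.2] at hv
    exact X0.vec_congr hv (by rw [X.se]; exact (hkey k).symm)

end Four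

end Cfsg.Agent.CoM24
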