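import Cfsg.Agent.Lib.CoM24.Radical

/-!
A subgroup of order 1024 which normalises the large abelian subgroup of a group of Conway type and meets
it trivially: sixteen lifts of the dual singular subspace, extended by lifts of the unitriangular maps.
-/

set_option autoImplicit false
set_option linter.style.haveILetI false
set_option linter.unusedSectionVars false
set_option maxRecDepth 20000
set_option synthInstance.maxSize 4000
set_option synthInstance.maxHeartbeats 400000

namespace Cfsg.Agent.CoM24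

open Cfsg.Agent.CoT Subgroup LargeExtra

local notation "F" => ZMod 2

/-! ### Finite checks -/

/-- A combination of four vectors. -/
def comb (B : Fin 4 → V) (c : Fin 4 → F) : V :=
  sm (c 0) (B 0) + sm (c 1) (B 1) + sm (c 2) (B 2) + sm (c 3) (B 3)

theorem comb_inj : (∀ c : Fin 4 → F, comb E c = 0 → c = 0) ∧
    ∀ c : Fin 4 → F, comb Fv c = 0 → c = 0 := by decide +kernel

theorem comb_perp : ∀ c : Fin 4 → F, (∀ i, bil (comb Fv c) (E i) = 0) → c = 0 := by decide +kernel

theorem Fv_bil (i j : Fin 4) : bil (Fv i) (Fv j) = 0 := (base_bil i j).2.1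

theorem Fv_q (i : Fin 4) : q (Fv i) = 0 := (base_bil i i).2.2.2

theorem EF_bil (i j : Fin 4) : bil (E i) (Fv j) = if j = i then 1 else 0 := by
  rw [bil_comm, FE_bil]

theorem EF_ne {i j : Fin 4} (h : i ≠ j) : bil (E i) (Fv j) = 0 :=
  (EF_bil i j).trans (if_neg h.symm)

theorem sgEF_Fv : ∀ i j : Fin 4, i ≠ j → sg (E i) (Fv j) (Fv i) = Fv i + Fv j := by decide +kernel

/-- The elementary map of a pair. -/
abbrev el (i j : Fin 4) : V → V := sg (E i) (Fv j)

theorem el_p : ∀ k, el 0 1 (el 1 2 (el 0 1 (el 1 2 (E k)))) = el 0 2 (E k) ∧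
    el 0 1 (el 1 2 (el 0 1 (el 1 2 (Fv k)))) = el 0 2 (Fv k) := by decide +kernel

theorem el_q : ∀ k, el 1 2 (el 2 3 (el 1 2 (el 2 3 (E k)))) = el 1 3 (E k) ∧
    el 1 2 (el 2 3 (el 1 2 (el 2 3 (Fv k)))) = el 1 3 (Fv k) := by decide +kernel

theorem el_r : ∀ k, el 0 2 (el 2 3 (el 0 2 (el 2 3 (E k)))) = el 0 3 (E k) ∧
    el 0 2 (el 2 3 (el 0 2 (el 2 3 (Fv k)))) = el 0 3 (Fv k) := by decide +kernel

/-- The three-cycle of the last three indices, as a product of elementary maps. -/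
def cyc (x : V) : V := el 2 3 (el 3 2 (el 2 3 (el 1 3 (el 3 1 (el 1 3 x)))))

theorem cyc_el : ∀ k, (el 0 1 (cyc (E k)) = cyc (el 0 3 (E k)) ∧
    el 0 1 (cyc (Fv k)) = cyc (el 0 3 (Fv k))) ∧
    el 2 3 (cyc (E k)) = cyc (el 1 2 (E k)) ∧ el 2 3 (cyc (Fv k)) = cyc (el 1 2 (Fv k)) := by
  decide +kernel

theorem cyc_add (u v : V) : cyc (u + v) = cyc u + cyc v := by simp only [cyc, el, sg_add]

theorem om_flip : CoT.tr (e2 + f2) (CoT.tr (e3 + f3) e0) = e0 ∧ CoT.tr (e2 + f2) (CoT.tr (e3 + f3) e1) = e1 ∧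
    CoT.tr (e2 + f2) (CoT.tr (e3 + f3) e3) = f3 ∧ CoT.tr (e2 + f2) (CoT.tr (e3 + f3) e2) = f2 ∧
    q (e2 + f2) = 1 ∧ q (e3 + f3) = 1 ∧
    bil e3 e0 = 0 ∧ bil e3 e1 = 0 ∧ bil e3 e2 = 0 := by decide +kernel

/-- An optional map. -/
def pf (f : V → V) (c : F) : V → V := if c = 0 then fun x => x else f

/-- The indices of the normal forms. -/
abbrev N6 := (F × F × F) × (F × F × F)

/-- The action of a normal form. -/
def nmap (w : N6) (x : V) : V :=
  pf (el 0 1) w.1.1 (pf (el 0 2) w.1.2.1 (pf (el 0 3) w.1.2.2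
    (pf (el 1 2) w.2.1 (pf (el 2 3) w.2.2.1 (pf (el 1 3) w.2.2.2 x)))))

theorem nmap_faithful : ∀ w : N6, (∀ k, nmap w (E k) = E k) → w = 0 := by decide +kernel

variable {G : Type*} [Group G]

/-! ### Four commuting involutions -/

/-- A product of powers of four elements. -/
def pw (x : Fin 4 → G) (c : Fin 4 → F) : G :=
  zb (x 0) (c 0) * zb (x 1) (c 1) * zb (x 2) (c 2) * zb (x 3) (c 3)

/-- The subgroup generated by four elements. -/
abbrev EE (x : Fin 4 → G) : Subgroup G := closure (Set.range x)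

theorem zb_commute {a b : G} (h : Commute a b) (c d : F) : Commute (zb a c) (zb b d) := by
  rcases F_cases c with rfl | rfl <;> rcases F_cases d with rfl | rfl <;>
    simp [zb_zero, zb_one, h]

theorem commute_zb {a b : G} (h : Commute a b) (d : F) : Commute a (zb b d) := by
  rcases F_cases d with rfl | rfl <;> simp [zb_zero, zb_one, h]

theorem zb_self {z : G} (hz : z * z = 1) (c : F) : zb z c * zb z c = 1 := by
  rw [← zb_add hz, F_add_self, zb_zero]

theorem pw_add {x : Fin 4 → G} (hc : ∀ i j, Commute (x i) (x j)) (h2 : ∀ i, x i * x i = 1)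
    (c d : Fin 4 → F) : pw x c * pw x d = pw x (c + d) := by
  have h : ∀ i j, Commute (zb (x i) (c i)) (zb (x j) (d j)) := fun i j => zb_commute (hc i j) _ _
  simp only [pw, Pi.add_apply, zb_add (h2 _)]
  rw [Commute.mul_mul_mul_comm (((h 3 0).mul_right (h 3 1)).mul_right (h 3 2)),
    Commute.mul_mul_mul_comm ((h 2 0).mul_right (h 2 1)), Commute.mul_mul_mul_comm (h 1 0)]

theorem pw_zero (x : Fin 4 → G) : pw x 0 = 1 := by simp [pw, zb_zero]

theorem zb_mem' {H : Subgroup G} {a : G} (h : a ∈ H) (c : F) : zb a c ∈ H := by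
  rcases F_cases c with rfl | rfl
  · rw [zb_zero]; exact one_mem _
  · rwa [zb_one]

theorem pw_mem (x : Fin 4 → G) (c : Fin 4 → F) : pw x c ∈ EE x :=
  mul_mem (mul_mem (mul_mem (zb_mem' (Subgroup.subset_closure (Set.mem_range_self 0)) _)
    (zb_mem' (Subgroup.subset_closure (Set.mem_range_self 1)) _)) (zb_mem' (Subgroup.subset_closure (Set.mem_range_self 2)) _))
    (zb_mem' (Subgroup.subset_closure (Set.mem_range_self 3)) _)

theorem gen_eq_pw (x : Fin 4 → G) (i : Fin 4) : pw x (fun k => if k = i then 1 else 0) = x i := by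
  fin_cases i <;> simp [pw, zb_zero, zb_one]

theorem mem_EE {x : Fin 4 → G} (hc : ∀ i j, Commute (x i) (x j)) (h2 : ∀ i, x i * x i = 1) {a : G}
    (ha : a ∈ EE x) : ∃ c, pw x c = a := by
  induction ha using closure_induction with
  | mem a ha => obtain ⟨i, rfl⟩ := ha; exact ⟨_, gen_eq_pw x i⟩
  | one => exact ⟨0, pw_zero x⟩
  | mul a b _ _ ha hb =>
    obtain ⟨c, rfl⟩ := ha
    obtain ⟨d, rfl⟩ := hb
    exact ⟨c + d, (pw_add hc h2 c d).symm⟩
  | inv a _ ha =>
    obtain ⟨c, rfl⟩ := ha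
    refine ⟨c, (inv_eq_of_mul_eq_one_right ?_).symm⟩
    rw [pw_add hc h2, show c + c = 0 from funext fun i => F_add_self _, pw_zero]

/-- An involution mapping generators into the subgroup normalises it. -/
theorem norm_EE {x : Fin 4 → G} {t : G} (h2 : t * t = 1) (h : ∀ k, t * x k * t⁻¹ ∈ EE x) :
    t ∈ normalizer (EE x : Set G) := by
  have hle : EE x ≤ (EE x).comap (MulAut.conj t).toMonoidHom := by
    refine (closure_le _).2 ?_
    rintro _ ⟨k, rfl⟩
    exact h k
  refine mem_normalizer_iff.2 fun a => ⟨fun ha => hle ha, fun ha => ?_⟩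
  have h1 : t * (t * a * t⁻¹) * t⁻¹ ∈ EE x := hle ha
  rwa [show t * (t * a * t⁻¹) * t⁻¹ = t * t * a * (t * t)⁻¹ by group, h2, one_mul, inv_one,
    mul_one] at h1

/-- The elements of the centraliser of `z` normalising both subgroups. -/
abbrev NN (z : G) (a s : Fin 4 → G) : Subgroup G :=
  centralizer ({z} : Set G) ⊓ normalizer (EE a : Set G) ⊓ normalizer (EE s : Set G)

variable [Finite G] {z : G} {Q : Subgroup G} {π : G → V} {ρ : G → V → V} {s g a : Fin 4 → G}

theorem NN_z {c : G} (h : c ∈ NN z a s) : c * z = z * c := mem_centralizer_one.1 h.1.1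

/-- Lifts of four singular orthogonal vectors. -/
structure Fam (z : G) (Q : Subgroup G) (π : G → V) (ρ : G → V → V) (B : Fin 4 → V) (x : Fin 4 → G) :
    Prop where
  S : Su z Q π ρ
  orth : ∀ i j, bil (B i) (B j) = 0
  sing : ∀ i, q (B i) = 0
  indep : ∀ c, comb B c = 0 → c = 0
  mem : ∀ i, x i ∈ Q
  pi : ∀ i, π (x i) = B i

namespace Fam

variable {B : Fin 4 → V} {x : Fin 4 → G} (M : Fam z Q π ρ B x)
include M

theorem comm (i j : Fin 4) : Commute (x i) (x j) :=
  (M.S.comm_iff (M.mem i) (M.mem j)).2 (by rw [M.pi, M.pi, M.orth])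

theorem sq (i : Fin 4) : x i * x i = 1 := by
  rw [M.S.sq _ (M.mem i), M.pi, M.sing, zb_zero]

theorem sub : EE x ≤ Q := (closure_le _).2 (by rintro _ ⟨i, rfl⟩; exact M.mem i)

theorem pi_zb (i : Fin 4) (c : F) : π (zb (x i) c) = sm c (B i) := by
  rcases F_cases c with rfl | rfl
  · rw [zb_zero, sm_zero]; exact M.S.pi_one
  · rw [zb_one, sm_one]; exact M.pi i

theorem pi_pw (c : Fin 4 → F) : π (pw x c) = comb B c := by
  have h : ∀ i, zb (x i) (c i) ∈ Q := fun i => zb_mem' (M.mem i) _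
  simp only [pw, M.S.pi_mul _ (mul_mem (mul_mem (h 0) (h 1)) (h 2)) _ (h 3),
    M.S.pi_mul _ (mul_mem (h 0) (h 1)) _ (h 2), M.S.pi_mul _ (h 0) _ (h 1), M.pi_zb, comb]

theorem exists_pw {e : G} (he : e ∈ EE x) : ∃ c, pw x c = e := mem_EE M.comm M.sq he

theorem eq_one {e : G} (he : e ∈ EE x) (h : π e = 0) : e = 1 := by
  obtain ⟨c, rfl⟩ := M.exists_pw he
  rw [M.pi_pw] at h
  rw [M.indep c h, pw_zero]

theorem zb_zero_of_mem {c : F} (h : zb z c ∈ EE x) : c = 0 :=
  (F_cases c).resolve_right fun e => by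
    rw [e, zb_one] at h
    exact M.S.loc.ne_one (M.eq_one h M.S.pi_z)

theorem card : Nat.card ↥(EE x) = 16 := by
  have h : Function.Bijective fun c : Fin 4 → F => (⟨pw x c, pw_mem x c⟩ : ↥(EE x)) := by
    constructor
    · intro c d e
      have h1 : pw x c = pw x d := congrArg Subtype.val e
      have h2 : pw x (c + d) = 1 := by
        rw [← pw_add M.comm M.sq, h1, pw_add M.comm M.sq,
          show d + d = 0 from funext fun i => F_add_self _, pw_zero]
      have h3 := M.indep _ (by rw [← M.pi_pw, h2, M.S.pi_one])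
      exact funext fun i => F_eq_of_add _ _ (congrFun h3 i)
    · rintro ⟨e, he⟩
      obtain ⟨c, rfl⟩ := M.exists_pw he
      exact ⟨c, rfl⟩
  rw [← Nat.card_eq_of_bijective _ h]
  simp [Nat.card_eq_fintype_card]

/-- An element of `Q` normalising the subgroup is orthogonal to it. -/
theorem perp {d : G} (hd : d ∈ Q) (hn : d ∈ normalizer (EE x : Set G)) (i : Fin 4) :
    bil (π d) (B i) = 0 := by
  have h := (mem_normalizer_iff.1 hn (x i)).1 (Subgroup.subset_closure (Set.mem_range_self i))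
  rw [M.S.conj_Q hd (M.mem i), M.pi] at h
  exact M.zb_zero_of_mem ((mul_mem_cancel_left (Subgroup.subset_closure (Set.mem_range_self i))).1 h)

end Fam

/-! ### Lifts of the elementary maps -/

theorem Base.famS (X : Base z Q π ρ s g) : Fam z Q π ρ E s :=
  ⟨X.su, E_bil, fun i => (E_sing i).1, comb_inj.1, fun i => (X.fr i).sQ, X.se⟩

namespace Base

variable (X : Base z Q π ρ s g)
include X

variable (M : Fam z Q π ρ Fv a)
include M

theorem lift_uniq {x y : G} (hx : x ∈ NN z a s) (hy : y ∈ NN z a s) (h : ∀ v, ρ x v = ρ y v) :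
    y = x ∨ y = x * z := by
  have hd : x⁻¹ * y ∈ NN z a s := mul_mem (inv_mem hx) hy
  have hQ : x⁻¹ * y ∈ Q := (X.su.ker _ (NN_z hd)).1 fun v => X.su.rho_inj (NN_z hx) (by
    rw [← X.su.rho_mul (NN_z hx) (NN_z hd), mul_inv_cancel_left, h])
  have hE := fun i => X.famS.perp hQ hd.2 i
  have hF := fun i => M.perp hQ hd.1.2 i
  have h0 : π (x⁻¹ * y) = 0 := bil_nondeg fun v => by
    rw [decomp8 v]
    simp only [bil_add_right, bil_sm_right, hE, hF, mul_zero, add_zero]
  rcases (X.su.pi_eq _ hQ).1 h0 with e | e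
  · exact Or.inl (inv_mul_eq_one.1 e).symm
  · exact Or.inr (by rw [← e, mul_inv_cancel_left])

/-- Two lifts of the same map commute with the same lifts. -/
theorem comm_uniq {x x' y : G} (hx : x ∈ NN z a s) (hx' : x' ∈ NN z a s) (hy : y ∈ NN z a s)
    (h : ∀ v, ρ x v = ρ x' v) (hc : Commute x y) : Commute x' y := by
  rcases X.lift_uniq M hx hx' h with e | e <;> rw [e]
  · exact hc
  · exact hc.mul_left (show Commute y z from NN_z hy).symm

theorem sq_uniq {x x' : G} (hx : x ∈ NN z a s) (hx' : x' ∈ NN z a s)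
    (h : ∀ v, ρ x v = ρ x' v) (hc : x * x = 1) : x' * x' = 1 := by
  rcases X.lift_uniq M hx hx' h with e | e <;> rw [e]
  · exact hc
  · rw [Commute.mul_mul_mul_comm (show Commute x z from NN_z hx).symm, hc, X.su.loc.sq, one_mul]

omit M in
/-- The right half commutes with a lift of a vector orthogonal to both parameters. -/
theorem B_fix {i : Fin 4} {v : V} {b d : G} (hb : b ∈ hB z Q (g i)) (hv : Vec π ρ (s i) b v)
    (hd : d ∈ Q) (h1 : bil (π d) (E i) = 0) (h2 : bil (π d) v = 0) : Commute b d := by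
  have h := (X.fr i).conj_rule ((X.fr i).mem_A.2 ⟨hd, by rw [X.se, h1]⟩) hb hv
  rw [h2, zb_zero, zb_zero, one_mul, one_mul] at h
  exact mul_inv_eq_iff_eq_mul.1 h

/-- The lift of an elementary map normalising both subgroups. -/
theorem exists_el {i j : Fin 4} (hij : i ≠ j) : ∃ (b : G) (ε : F), (b ∈ hB z Q (g i) ∧
    Vec π ρ (s i) b (Fv j)) ∧ b * a j * zb (s i) ε ∈ NN z a s ∧
    (∀ v, ρ (b * a j * zb (s i) ε) v = el i j v) ∧
    b * a j * zb (s i) ε * (b * a j * zb (s i) ε) = 1 := by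
  obtain ⟨b, hb, hv⟩ := (X.fr i).exists_B (v := Fv j) (by rw [X.se, FE_ne hij.symm])
  have hbz := ((X.fr i).B_comm hb).1
  have haz := X.su.Qz (M.mem j)
  have hba : Commute b (a j) := X.B_fix hb hv (M.mem j) (by rw [M.pi, FE_ne hij.symm])
    (by rw [M.pi, Fv_bil])
  have hρu : ∀ v, ρ (b * a j) v = el i j v := fun v => by
    rw [X.su.rho_mul hbz haz, X.su.rho_Q (M.mem j), hv.2, X.se]
  have hu := X.su.comm_mul hbz haz
  have hm := X.su.conj_mem hu (M.mem i)
  have hp : π (b * a j * a i * (b * a j)⁻¹) = π (a i * a j) := by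
    rw [X.su.conj _ hu _ (M.mem i), hρu, M.pi, X.su.pi_mul _ (M.mem i) _ (M.mem j), M.pi, M.pi]
    exact sgEF_Fv i j hij
  have hsz : ∀ c, zb (s i) c * a i * (zb (s i) c)⁻¹ = a i * zb z c := fun c => by
    rw [X.su.conj_Q (zb_mem' (X.fr i).sQ c) (M.mem i), X.famS.pi_zb, M.pi, bil_sm_left, EF_bil,
      if_pos rfl, mul_one]
  obtain ⟨ε, hε⟩ : ∃ ε, b * a j * (a i * zb z ε) * (b * a j)⁻¹ = a i * a j := by
    rcases X.su.eq_of_pi hm (mul_mem (M.mem i) (M.mem j)) hp with e | e
    · exact ⟨0, by rw [zb_zero, mul_one, e]⟩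
    · refine ⟨1, ?_⟩
      rw [zb_one, show b * a j * (a i * z) * (b * a j)⁻¹ =
        b * a j * a i * (b * a j)⁻¹ * (b * a j * z * (b * a j)⁻¹) by group, X.su.zpi hu, e,
        mul_assoc, X.su.loc.sq, mul_one]
  refine ⟨b, ε, ⟨hb, hv⟩, ?_⟩
  set t := b * a j * zb (s i) ε with ht
  have hsQ := zb_mem' (X.fr i).sQ ε
  have htz : t * z = z * t := X.su.comm_mul hu (X.su.Qz hsQ)
  have hρ : ∀ v, ρ t v = el i j v := fun v => by
    rw [X.su.rho_mul hu (X.su.Qz hsQ), X.su.rho_Q hsQ, hρu]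
  have hcb : Commute (zb (s i) ε) (b * a j) := by
    refine ((commute_zb (show Commute b (s i) from ((X.fr i).B_comm hb).2) ε).mul_left
      (commute_zb ?_ ε)).symm
    exact (X.su.comm_iff (M.mem j) (X.fr i).sQ).2 (by rw [M.pi, X.se, FE_ne hij.symm])
  have h2 : t * t = 1 := by
    rw [ht, Commute.mul_mul_mul_comm hcb, zb_self (X.fr i).ss, mul_one,
      Commute.mul_mul_mul_comm hba.symm, (X.fr i).B_sq hb hv, Fv_q, zb_zero, one_mul, M.sq]
  have hA : ∀ k, t * a k * t⁻¹ ∈ EE a := by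
    intro k
    rcases eq_or_ne k i with rfl | hk
    · rw [show t * a k * t⁻¹ = b * a j * (zb (s k) ε * a k * (zb (s k) ε)⁻¹) * (b * a j)⁻¹ by
        rw [ht]; group, hsz, hε]
      exact mul_mem (Subgroup.subset_closure (Set.mem_range_self k)) (Subgroup.subset_closure (Set.mem_range_self j))
    · have c1 : Commute (zb (s i) ε) (a k) := ((commute_zb ((X.su.comm_iff (M.mem k) (X.fr i).sQ).2
        (by rw [M.pi, X.se, FE_ne hk])) ε)).symm
      have c2 : Commute b (a k) := X.B_fix hb hv (M.mem k) (by rw [M.pi, FE_ne hk])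
        (by rw [M.pi, Fv_bil])
      have c3 : Commute t (a k) := (c2.mul_left (M.comm j k)).mul_left c1
      rw [c3.eq, mul_inv_cancel_right]
      exact Subgroup.subset_closure (Set.mem_range_self k)
  have hS : ∀ k, t * s k * t⁻¹ ∈ EE s := by
    intro k
    have c1 : Commute (zb (s i) ε) (s k) := (commute_zb (X.famS.comm k i) ε).symm
    have e1 : a j * s k * (a j)⁻¹ = s k * zb z (bil (Fv j) (E k)) := by
      rw [X.su.conj_Q (M.mem j) (X.fr k).sQ, M.pi, X.se]
    have e2 := (X.fr i).conj_rule ((X.fr i).mem_A.2 ⟨(X.fr k).sQ, by rw [X.se, X.se, E_bil]⟩) hb hv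
    rw [X.se, bil_comm] at e2
    set δ := bil (Fv j) (E k)
    have e3 : b * zb z δ * b⁻¹ = zb z δ := by rw [zb_comm hbz, mul_inv_cancel_right]
    have e4 : Commute (zb (s i) δ * s k) (zb z δ) :=
      commute_zb (X.su.Qz (mul_mem (zb_mem' (X.fr i).sQ δ) (X.fr k).sQ)) δ
    have e5 : t * s k * t⁻¹ = zb (s i) δ * s k := by
      calc t * s k * t⁻¹ = b * a j * (zb (s i) ε * s k * (zb (s i) ε)⁻¹) * (b * a j)⁻¹ := by
            rw [ht]; group
        _ = b * (a j * s k * (a j)⁻¹) * b⁻¹ := by rw [c1.eq, mul_inv_cancel_right]; group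
        _ = b * s k * b⁻¹ * (b * zb z δ * b⁻¹) := by rw [e1]; group
        _ = zb z δ * (zb (s i) δ * s k) * zb z δ := by rw [e2, e3]; group
        _ = zb (s i) δ * s k := by
          rw [mul_assoc, e4.eq, ← mul_assoc, zb_self X.su.loc.sq, one_mul]
    rw [e5]
    exact mul_mem (zb_mem' (Subgroup.subset_closure (Set.mem_range_self i)) _) (Subgroup.subset_closure (Set.mem_range_self k))
  exact ⟨⟨⟨mem_centralizer_one.2 htz, norm_EE h2 hA⟩, norm_EE h2 hS⟩, hρ, h2⟩

/-- Lifts of two elementary maps commute when their right halves do. -/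
theorem comm_el {i j k l : Fin 4} (hij : i ≠ j) (hkl : k ≠ l) (hli : l ≠ i) (hkj : k ≠ j)
    (h : ∀ b ∈ hB z Q (g i), Vec π ρ (s i) b (Fv j) → ∀ b' ∈ hB z Q (g k),
      Vec π ρ (s k) b' (Fv l) → Commute b b')
    {x y : G} (hx : x ∈ NN z a s) (hy : y ∈ NN z a s) (hρx : ∀ v, ρ x v = el i j v)
    (hρy : ∀ v, ρ y v = el k l v) : Commute x y := by
  obtain ⟨b, ε, ⟨hb, hv⟩, ht, hρt, -⟩ := X.exists_el M hij
  obtain ⟨b', ε', ⟨hb', hv'⟩, ht', hρt', -⟩ := X.exists_el M hkl
  have hsk := (X.fr k).sQ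
  have hsi := (X.fr i).sQ
  have c1 : Commute b (a l) :=
    X.B_fix hb hv (M.mem l) (by rw [M.pi, FE_ne hli]) (by rw [M.pi, Fv_bil])
  have c2 : Commute b (s k) := X.B_fix hb hv hsk (by rw [X.se, E_bil]) (by rw [X.se, EF_ne hkj])
  have c3 : Commute b' (a j) :=
    X.B_fix hb' hv' (M.mem j) (by rw [M.pi, FE_ne hkj.symm]) (by rw [M.pi, Fv_bil])
  have c4 : Commute b' (s i) :=
    X.B_fix hb' hv' hsi (by rw [X.se, E_bil]) (by rw [X.se, EF_ne hli.symm])
  have c5 : Commute (a j) (s k) :=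
    (X.su.comm_iff (M.mem j) hsk).2 (by rw [M.pi, X.se, FE_ne hkj.symm])
  have c6 : Commute (s i) (a l) :=
    (X.su.comm_iff hsi (M.mem l)).2 (by rw [M.pi, X.se, EF_ne hli.symm])
  have hc : Commute (b * a j * zb (s i) ε) (b' * a l * zb (s k) ε') := by
    refine ((?_ : Commute b _).mul_left ?_).mul_left ?_
    · exact ((h b hb hv b' hb' hv').mul_right c1).mul_right (commute_zb c2 _)
    · exact (c3.symm.mul_right (M.comm j l)).mul_right (commute_zb c5 _)
    · exact ((commute_zb c4 _).symm.mul_right (commute_zb c6.symm _).symm).mul_right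
        (zb_commute (X.famS.comm i k) _ _)
  exact (X.comm_uniq M ht' hy hx (fun v => by rw [hρt', hρy])
    (X.comm_uniq M ht hx ht' (fun v => by rw [hρt, hρx]) hc).symm).symm

theorem sq_el {i j : Fin 4} (hij : i ≠ j) {x : G} (hx : x ∈ NN z a s)
    (hρx : ∀ v, ρ x v = el i j v) : x * x = 1 := by
  obtain ⟨b, ε, -, ht, hρt, h2⟩ := X.exists_el M hij
  exact X.sq_uniq M ht hx (fun v => by rw [hρt, hρx]) h2

theorem exists_lift {i j : Fin 4} (hij : i ≠ j) :
    ∃ t ∈ NN z a s, ∀ v, ρ t v = el i j v := by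
  obtain ⟨b, ε, -, ht, hρt, -⟩ := X.exists_el M hij
  exact ⟨_, ht, hρt⟩

end Base

namespace Four

variable (X : Four z Q π ρ s g)
include X

theorem mu_flip : MU z Q π ρ (s 0) (g 0) (s 1) (g 1) (Fv 3) (Fv 2) 0 := by
  obtain ⟨h0, h1, h3, h2, qa, qb, p0, p1, p2⟩ := om_flip
  have hT : Two z Q π ρ (s 0) (g 0) (s 1) (g 1) := ⟨X.fr 0, X.fr 1, X.se 0, X.se 1⟩
  have h := hT.mu_map (isOm_tr_tr qa qb) h0 h1 (X.mu e3 p0 p1 p2)
  simp only [h2, h3, bil_self] at h
  exact h

variable (M : Fam z Q π ρ Fv a)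
include M

theorem comm_03_12 {x y : G} (hx : x ∈ NN z a s) (hy : y ∈ NN z a s)
    (hρx : ∀ v, ρ x v = el 0 3 v) (hρy : ∀ v, ρ y v = el 1 2 v) : Commute x y :=
  X.base.comm_el M (by decide) (by decide) (by decide) (by decide) (fun b hb hv b' hb' hv' => by
    have h := X.mu_flip b hb hv b' hb' hv'
    rw [zb_zero, mul_one] at h
    exact Commute.symm (show Commute b' b from mul_inv_eq_iff_eq_mul.1 h)) hx hy hρx hρy

theorem comm_01_23 {x y : G} (hx : x ∈ NN z a s) (hy : y ∈ NN z a s)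
    (hρx : ∀ v, ρ x v = el 0 1 v) (hρy : ∀ v, ρ y v = el 2 3 v) : Commute x y := by
  have S := X.base.su
  obtain ⟨p, hp, ρp⟩ := X.base.exists_lift M (show (2 : Fin 4) ≠ 3 by decide)
  obtain ⟨p', hp', ρp'⟩ := X.base.exists_lift M (show (3 : Fin 4) ≠ 2 by decide)
  obtain ⟨o, ho, ρo⟩ := X.base.exists_lift M (show (1 : Fin 4) ≠ 3 by decide)
  obtain ⟨o', ho', ρo'⟩ := X.base.exists_lift M (show (3 : Fin 4) ≠ 1 by decide)
  set w := p * (p' * (p * (o * (o' * o)))) with hw
  have m5 := mul_mem ho' ho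
  have m4 := mul_mem ho m5
  have m3 := mul_mem hp m4
  have m2 := mul_mem hp' m3
  have hwN : w ∈ NN z a s := mul_mem hp m2
  have hρw : ∀ v, ρ w v = cyc v := fun v => by
    rw [hw, S.rho_mul (NN_z hp) (NN_z m2), S.rho_mul (NN_z hp') (NN_z m3),
      S.rho_mul (NN_z hp) (NN_z m4), S.rho_mul (NN_z ho) (NN_z m5), S.rho_mul (NN_z ho') (NN_z ho),
      ρp, ρp', ρp, ρo, ρo', ρo, cyc]
  have conj : ∀ {u : G} {i j k l : Fin 4}, u ∈ NN z a s → (∀ v, ρ u v = el i j v) →
      (∀ m, el i j (cyc (E m)) = cyc (el k l (E m)) ∧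
        el i j (cyc (Fv m)) = cyc (el k l (Fv m))) →
      w⁻¹ * u * w ∈ NN z a s ∧ ∀ v, ρ (w⁻¹ * u * w) v = el k l v := by
    intro u i j k l hu hρu hm
    have hn : w⁻¹ * u * w ∈ NN z a s := mul_mem (mul_mem (inv_mem hwN) hu) hwN
    refine ⟨hn, fun v => S.rho_inj (NN_z hwN) ?_⟩
    rw [← S.rho_mul (NN_z hwN) (NN_z hn), show w * (w⁻¹ * u * w) = u * w by group,
      S.rho_mul (NN_z hu) (NN_z hwN), hρu, hρw, hρw]
    exact ext8 (f := fun v => el i j (cyc v)) (f' := fun v => cyc (el k l v))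
      (fun u v => by simp only [cyc_add, el, sg_add])
      (fun u v => by simp only [cyc_add, el, sg_add]) (fun m => (hm m).1) (fun m => (hm m).2) v
  obtain ⟨hx', ρx'⟩ := conj hx hρx (fun m => (cyc_el m).1)
  obtain ⟨hy', ρy'⟩ := conj hy hρy (fun m => (cyc_el m).2)
  have h := (X.comm_03_12 M hx' hy' ρx' ρy').eq
  show x * y = y * x
  calc x * y = w * (w⁻¹ * x * w * (w⁻¹ * y * w)) * w⁻¹ := by group
    _ = y * x := by rw [h]; group

end Four

/-! ### The unitriangular group -/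

/-- A normal form. -/
def nf (t : Fin 6 → G) (w : N6) : G :=
  zb (t 0) w.1.1 * zb (t 1) w.1.2.1 * zb (t 2) w.1.2.2 *
    (zb (t 3) w.2.1 * zb (t 4) w.2.2.1 * zb (t 5) w.2.2.2)

omit [Finite G] in
theorem word_facts {a b c : G} (ha : a * a = 1) (hb : b * b = 1) (hc : c * c = 1)
    (hp : a * b * a * b * (a * b * a * b) = 1) :
    b * a = a * (a * b * a * b) * b ∧
      b * (a * b * a * b) = a * b * a * b * b ∧
      c * (a * b * a * b) = a * b * a * b * (a * b * a * b * c * (a * b * a * b * c)) * c := by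
  have e1 : a⁻¹ = a := inv_eq_of_mul_eq_one_right ha
  have e2 : b⁻¹ = b := inv_eq_of_mul_eq_one_right hb
  have hpi : (a * b * a * b)⁻¹ = b * a * b * a := by simp [mul_inv_rev, e1, e2, mul_assoc]
  have hpb : b * a * b * a = a * b * a * b := by
    rw [← hpi]; exact inv_eq_of_mul_eq_one_right hp
  refine ⟨?_, ?_, ?_⟩
  · calc b * a = a * a * (b * a * (b * b)) := by rw [ha, hb, one_mul, mul_one]
      _ = a * (a * b * a * b) * b := by group
  · calc b * (a * b * a * b) = b * a * b * a * b := by group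
      _ = a * b * a * b * b := by rw [hpb]
  · calc c * (a * b * a * b) = a * b * a * b * (a * b * a * b) * c * (a * b * a * b) * (c * c) := by
          rw [hp, hc, one_mul, mul_one]
      _ = _ := by group

omit [Finite G] in
/-- Left multiplication by the three generators keeps the normal forms. -/
theorem nf_step {a b c : G} (ha : a * a = 1) (hb : b * b = 1) (hc : c * c = 1)
    (hp : a * b * a * b * (a * b * a * b) = 1) (hq : b * c * b * c * (b * c * b * c) = 1)
    (hr : a * b * a * b * c * (a * b * a * b * c) * (a * b * a * b * c * (a * b * a * b * c)) = 1)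
    (hac : Commute a c)
    (hbr : Commute b (a * b * a * b * c * (a * b * a * b * c))) (w : N6) :
    let t : Fin 6 → G := ![a, a * b * a * b, a * b * a * b * c * (a * b * a * b * c), b, c,
      b * c * b * c]
    (∃ w', a * nf t w = nf t w') ∧ (∃ w', b * nf t w = nf t w') ∧
      ∃ w', c * nf t w = nf t w' := by
  intro t
  obtain ⟨hba, hbp, hcp⟩ := word_facts ha hb hc hp
  obtain ⟨hcb, hcq, -⟩ := word_facts hb hc ha hq
  set p := a * b * a * b with hp'
  set q := b * c * b * c with hq'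
  set r := p * c * (p * c) with hr'
  obtain ⟨⟨i, l, o⟩, j, k, m⟩ := w
  have ep := zb_add hp
  have er := zb_add hr
  have eq' := zb_add hq
  have cbp : Commute b p := hbp
  have ccr : Commute c r := by
    show c * r = r * c
    calc c * r = (c * p) * (c * p) * c := by rw [hr']; group
      _ = r * c := by
        have : (c * p) * (c * p) = r := by
          refine (inv_inj.1 ?_)
          rw [inv_eq_of_mul_eq_one_right hr]
          simp only [hr', mul_inv_rev, inv_eq_of_mul_eq_one_right hp, inv_eq_of_mul_eq_one_right hc,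
            mul_assoc]
        rw [this]
  refine ⟨⟨((i + 1, l, o), (j, k, m)), ?_⟩, ⟨((i, l + i, o), (j + 1, k, m)), ?_⟩,
    ((i, l, o + l), (j, k + 1, m + j)), ?_⟩
  · show a * (zb a i * zb p l * zb r o * (zb b j * zb c k * zb q m)) =
      zb a (i + 1) * zb p l * zb r o * (zb b j * zb c k * zb q m)
    rw [add_comm i 1, zb_add ha, zb_one]
    group
  · show b * (zb a i * zb p l * zb r o * (zb b j * zb c k * zb q m)) =
      zb a i * zb p (l + i) * zb r o * (zb b (j + 1) * zb c k * zb q m)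
    have h1 : b * zb a i = zb a i * zb p i * b := by
      rcases F_cases i with rfl | rfl <;> simp only [zb_zero, zb_one, mul_one, one_mul]
      exact hba
    have h2 : Commute b (zb p l * zb r o) := (commute_zb cbp l).mul_right (commute_zb hbr o)
    rw [add_comm j 1, zb_add hb, zb_one, add_comm l i, ep]
    calc b * (zb a i * zb p l * zb r o * (zb b j * zb c k * zb q m))
        = b * zb a i * (zb p l * zb r o) * (zb b j * zb c k * zb q m) := by group
      _ = zb a i * zb p i * (b * (zb p l * zb r o)) * (zb b j * zb c k * zb q m) := by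
          rw [h1]; group
      _ = _ := by rw [h2.eq]; group
  · show c * (zb a i * zb p l * zb r o * (zb b j * zb c k * zb q m)) =
      zb a i * zb p l * zb r (o + l) * (zb b j * zb c (k + 1) * zb q (m + j))
    have h1 : Commute c (zb a i) := commute_zb hac.symm i
    have h2 : c * zb p l = zb p l * zb r l * c := by
      rcases F_cases l with rfl | rfl <;> simp only [zb_zero, zb_one, mul_one, one_mul]
      exact hcp
    have h3 : Commute c (zb r o) := commute_zb ccr o
    have h4 : c * zb b j * zb c k = zb b j * zb c (k + 1) * zb q j := by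
      have hcq' : Commute c q := hcq
      rw [add_comm k 1, zb_add hc, zb_one]
      rcases F_cases j with rfl | rfl <;> simp only [zb_zero, zb_one, mul_one, one_mul]
      rw [hcb, show b * q * c * zb c k = b * (q * (c * zb c k)) by group,
        (hcq'.symm.mul_right (commute_zb hcq'.symm k)).eq]
      group
    calc c * (zb a i * zb p l * zb r o * (zb b j * zb c k * zb q m))
        = c * zb a i * zb p l * zb r o * (zb b j * zb c k * zb q m) := by group
      _ = zb a i * (c * zb p l) * zb r o * (zb b j * zb c k * zb q m) := by rw [h1.eq]; group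
      _ = zb a i * zb p l * zb r l * (c * zb r o) * (zb b j * zb c k * zb q m) := by
          rw [h2]; group
      _ = zb a i * zb p l * (zb r l * zb r o) * (c * zb b j * zb c k) * zb q m := by
          rw [h3.eq]; group
      _ = _ := by rw [h4, ← er, add_comm l o, add_comm m j, eq']; group

theorem Four.exists_tri (X : Four z Q π ρ s g) (M : Fam z Q π ρ Fv a) :
    ∃ U : Subgroup G, U ≤ NN z a s ∧ Nat.card U = 64 ∧
      ∀ u ∈ U, (∀ k, ρ u (E k) = E k) → u = 1 := by
  have S := X.base.su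
  obtain ⟨x, hx, ρx⟩ := X.base.exists_lift M (show (0 : Fin 4) ≠ 1 by decide)
  obtain ⟨y, hy, ρy⟩ := X.base.exists_lift M (show (1 : Fin 4) ≠ 2 by decide)
  obtain ⟨w, hw, ρw⟩ := X.base.exists_lift M (show (2 : Fin 4) ≠ 3 by decide)
  have four : ∀ {u v : G} {i j k l m n : Fin 4}, u ∈ NN z a s → v ∈ NN z a s →
      (∀ e, ρ u e = el i j e) → (∀ e, ρ v e = el k l e) →
      (∀ h, el i j (el k l (el i j (el k l (E h)))) = el m n (E h) ∧
        el i j (el k l (el i j (el k l (Fv h)))) = el m n (Fv h)) →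
      u * v * u * v ∈ NN z a s ∧ ∀ e, ρ (u * v * u * v) e = el m n e := by
    intro u v i j k l m n hu hv ρu ρv hh
    have m1 := mul_mem hu hv
    have m2 := mul_mem m1 hu
    refine ⟨mul_mem m2 hv, fun e => ?_⟩
    rw [S.rho_mul (NN_z m2) (NN_z hv), S.rho_mul (NN_z m1) (NN_z hu),
      S.rho_mul (NN_z hu) (NN_z hv), ρu, ρv, ρu, ρv]
    exact ext8 (f := fun e => el i j (el k l (el i j (el k l e)))) (f' := el m n)
      (fun u v => by simp only [el, sg_add]) (fun u v => sg_add _ _ u v) (fun h => (hh h).1)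
      (fun h => (hh h).2) e
  obtain ⟨hp, ρp⟩ := four hx hy ρx ρy el_p
  obtain ⟨hq, ρq⟩ := four hy hw ρy ρw el_q
  obtain ⟨hr, ρr⟩ := four hp hw ρp ρw el_r
  rw [show x * y * x * y * w * (x * y * x * y) * w = x * y * x * y * w * (x * y * x * y * w) by
    group] at hr ρr
  have hx2 := X.base.sq_el M (by decide) hx ρx
  have hy2 := X.base.sq_el M (by decide) hy ρy
  have hw2 := X.base.sq_el M (by decide) hw ρw
  have hp2 := X.base.sq_el M (by decide) hp ρp
  have hq2 := X.base.sq_el M (by decide) hq ρq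
  have hr2 := X.base.sq_el M (by decide) hr ρr
  have hac := X.comm_01_23 M hx hw ρx ρw
  have hbr := (X.comm_03_12 M hr hy ρr ρy).symm
  set t : Fin 6 → G := ![x, x * y * x * y, x * y * x * y * w * (x * y * x * y * w), y, w,
    y * w * y * w] with ht
  set U := closure ({x, y, w} : Set G) with hU
  have hUN : U ≤ NN z a s := (closure_le _).2 (by
    simp only [Set.insert_subset_iff, Set.singleton_subset_iff, SetLike.mem_coe]
    exact ⟨hx, hy, hw⟩)
  have step := nf_step hx2 hy2 hw2 hp2 hq2 hr2 hac hbr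
  have hnf : ∀ u ∈ U, ∃ d, nf t d = u := by
    have inv3 : ∀ u ∈ ({x, y, w} : Set G), u⁻¹ = u := by
      intro u hu
      rcases hu with rfl | rfl | rfl
      · exact inv_eq_of_mul_eq_one_right hx2
      · exact inv_eq_of_mul_eq_one_right hy2
      · exact inv_eq_of_mul_eq_one_right hw2
    have left : ∀ u ∈ ({x, y, w} : Set G), ∀ d, ∃ d', nf t d' = u * nf t d := by
      intro u hu d
      obtain ⟨⟨da, ea⟩, ⟨db, eb⟩, dc, ec⟩ := step d
      rcases hu with rfl | rfl | rfl
      exacts [⟨da, ea.symm⟩, ⟨db, eb.symm⟩, ⟨dc, ec.symm⟩]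
    intro u hu
    induction hu using closure_induction_left with
    | one => exact ⟨0, by simp [nf, zb_zero]⟩
    | mul_left u hu v _ hv =>
      obtain ⟨d, rfl⟩ := hv
      exact left u hu d
    | inv_mul_cancel u hu v _ hv =>
      obtain ⟨d, rfl⟩ := hv
      rw [inv3 u hu]
      exact left u hu d
  have mx : x ∈ U := subset_closure (by simp)
  have my : y ∈ U := subset_closure (by simp)
  have mw : w ∈ U := subset_closure (by simp)
  have htU : ∀ i, t i ∈ U := by
    intro i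
    have := mul_mem (mul_mem (mul_mem mx my) mx) my
    fin_cases i
    exacts [mx, this, mul_mem (mul_mem this mw) (mul_mem this mw), my, mw,
      mul_mem (mul_mem (mul_mem my mw) my) mw]
  have hnfU : ∀ d, nf t d ∈ U := fun d =>
    mul_mem (mul_mem (mul_mem (zb_mem' (htU 0) _) (zb_mem' (htU 1) _)) (zb_mem' (htU 2) _))
      (mul_mem (mul_mem (zb_mem' (htU 3) _) (zb_mem' (htU 4) _)) (zb_mem' (htU 5) _))
  have hρnf : ∀ d e, ρ (nf t d) e = nmap d e := by
    intro d e
    have n : ∀ i c, zb (t i) c * z = z * zb (t i) c := fun i c =>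
      NN_z (hUN (zb_mem' (htU i) c))
    have hz : ∀ (i : Fin 6) (c : F) (f : V → V) (e : V), (∀ e, ρ (t i) e = f e) →
        ρ (zb (t i) c) e = pf f c e := by
      intro i c f e hf
      rcases F_cases c with rfl | rfl
      · rw [zb_zero, S.rho_one]; rfl
      · rw [zb_one, hf]; rfl
    rw [nf, S.rho_mul (S.comm_mul (S.comm_mul (n 0 _) (n 1 _)) (n 2 _))
        (S.comm_mul (S.comm_mul (n 3 _) (n 4 _)) (n 5 _)),
      S.rho_mul (S.comm_mul (n 0 _) (n 1 _)) (n 2 _), S.rho_mul (n 0 _) (n 1 _),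
      S.rho_mul (S.comm_mul (n 3 _) (n 4 _)) (n 5 _), S.rho_mul (n 3 _) (n 4 _),
      hz 0 _ _ _ ρx, hz 1 _ _ _ ρp, hz 2 _ _ _ ρr, hz 3 _ _ _ ρy, hz 4 _ _ _ ρw, hz 5 _ _ _ ρq]
    rfl
  have hfix : ∀ u ∈ U, (∀ k, ρ u (E k) = E k) → u = 1 := by
    intro u hu hk
    obtain ⟨d, rfl⟩ := hnf u hu
    rw [nmap_faithful d fun k => by rw [← hρnf]; exact hk k]
    simp [nf, zb_zero]
  refine ⟨U, hUN, ?_, hfix⟩
  have hbij : Function.Bijective fun d => (⟨nf t d, hnfU d⟩ : ↥U) := by
    constructor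
    · intro d d' e
      have h1 : nf t d = nf t d' := congrArg Subtype.val e
      have h2 : ∀ e, nmap d e = nmap d' e := fun e => by rw [← hρnf, ← hρnf, h1]
      have : ∀ d d' : N6, (∀ k, nmap d (E k) = nmap d' (E k)) → d = d' := by decide +kernel
      exact this d d' fun k => h2 _
    · rintro ⟨u, hu⟩
      obtain ⟨d, rfl⟩ := hnf u hu
      exact ⟨d, rfl⟩
  rw [← Nat.card_eq_of_bijective _ hbij]
  simp [Nat.card_eq_fintype_card]

/-- An element of the centraliser of `z` normalises the large abelian subgroup. -/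
theorem norm_AA_of {c : G} (hc : ∀ d ∈ AA z s, c * d * c⁻¹ ∈ AA z s)
    (hc' : ∀ d ∈ AA z s, c⁻¹ * d * c ∈ AA z s) : c ∈ normalizer (AA z s : Set G) :=
  mem_normalizer_iff.2 fun d => ⟨hc d, fun h => by simpa [mul_assoc] using hc' _ h⟩

/-- A subgroup of order 1024 normalising the large abelian subgroup, meeting it trivially. -/
theorem exists_sylow_part (X : Four z Q π ρ s g) :
    ∃ S0 : Subgroup G, S0 ≤ normalizer (AA z s : Set G) ∧ Nat.card S0 = 1024 ∧
      S0 ⊓ AA z s = ⊥ := by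
  have B := X.base
  have S := B.su
  choose a ha hπ using fun k => S.pi_surj (Fv k)
  have M : Fam z Q π ρ Fv a := ⟨S, Fv_bil, Fv_q, comb_inj.2, ha, hπ⟩
  obtain ⟨U, hUN, hU, hfix⟩ := X.exists_tri M
  have hUn : U ≤ normalizer (EE a : Set G) := fun u hu => (hUN hu).1.2
  have hmem : ∀ x ∈ EE a ⊔ U, ∃ e ∈ EE a, ∃ u ∈ U, e * u = x := fun x hx => by
    rw [← SetLike.mem_coe, coe_mul_of_right_le_normalizer_left _ _ hUn] at hx
    obtain ⟨e, he, u, hu, rfl⟩ := Set.mem_mul.1 hx
    exact ⟨e, he, u, hu, rfl⟩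
  have hρe : ∀ {e u : G}, e ∈ EE a → u ∈ U → ∀ v, ρ (e * u) v = ρ u v := fun he hu v => by
    rw [S.rho_mul (S.Qz (M.sub he)) (NN_z (hUN hu)), S.rho_Q (M.sub he)]
  refine ⟨EE a ⊔ U, sup_le ?_ ?_, ?_, ?_⟩
  · refine (closure_le _).2 ?_
    rintro _ ⟨k, rfl⟩
    have hz := S.Qz (ha k)
    have key : ∀ c, c * z = z * c → (∀ i, ∃ δ, c⁻¹ * s i * c = s i * zb z δ) →
        ∀ d ∈ AA z s, c * d * c⁻¹ ∈ AA z s := by
      intro c hcz hcs d hd
      refine mem_AA.2 ⟨?_, fun i => ?_⟩
      · exact S.comm_mul (S.comm_mul hcz (B.Az hd)) (S.comm_inv hcz)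
      · obtain ⟨δ, e⟩ := hcs i
        have hd' : Commute d (s i * zb z δ) :=
          (show Commute d (s i) from (mem_AA.1 hd).2 i).mul_right (commute_zb (B.Az hd) δ)
        rw [← e] at hd'
        calc c * d * c⁻¹ * s i = c * (d * (c⁻¹ * s i * c)) * c⁻¹ := by group
          _ = c * (c⁻¹ * s i * c * d) * c⁻¹ := by rw [hd'.eq]
          _ = s i * (c * d * c⁻¹) := by group
    have hci : (a k)⁻¹ = a k := inv_eq_of_mul_eq_one_right (M.sq k)
    have h := key (a k) hz fun i => ⟨_, by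
      have := S.conj_Q (Q.inv_mem (ha k)) (B.fr i).sQ
      rwa [inv_inv] at this⟩
    exact norm_AA_of h (fun d hd => by simpa [hci] using h d hd)
  · intro u hu
    have key : ∀ c ∈ NN z a s, ∀ d ∈ AA z s, c * d * c⁻¹ ∈ AA z s := by
      intro c hc d hd
      refine mem_AA.2 ⟨S.comm_mul (S.comm_mul (NN_z hc) (B.Az hd)) (S.comm_inv (NN_z hc)),
        fun i => ?_⟩
      have hm : c⁻¹ * s i * c ∈ EE s := by
        have := (mem_normalizer_iff.1 (inv_mem hc.2) (s i)).1 (Subgroup.subset_closure (Set.mem_range_self i))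
        rwa [inv_inv] at this
      obtain ⟨e, he⟩ := B.famS.exists_pw hm
      have hd' : Commute d (c⁻¹ * s i * c) := by
        rw [← he]
        exact (((commute_zb ((mem_AA.1 hd).2 0) _).mul_right (commute_zb ((mem_AA.1 hd).2 1) _)
          ).mul_right (commute_zb ((mem_AA.1 hd).2 2) _)).mul_right
          (commute_zb ((mem_AA.1 hd).2 3) _)
      calc c * d * c⁻¹ * s i = c * (d * (c⁻¹ * s i * c)) * c⁻¹ := by group
        _ = c * (c⁻¹ * s i * c * d) * c⁻¹ := by rw [hd'.eq]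
        _ = s i * (c * d * c⁻¹) := by group
    refine norm_AA_of (key u (hUN hu)) fun d hd => ?_
    simpa using key u⁻¹ (inv_mem (hUN hu)) d hd
  · have hbij : Function.Bijective fun p : ↥(EE a) × ↥U =>
        (⟨p.1 * p.2, mul_mem_sup p.1.2 p.2.2⟩ : ↥(EE a ⊔ U)) := by
      constructor
      · rintro ⟨e, u⟩ ⟨e', u'⟩ h
        have h1 : (e : G) * u = e' * u' := congrArg Subtype.val h
        have h2 : (u : G) * (u' : G)⁻¹ = (e : G)⁻¹ * e' := by
          calc (u : G) * (u' : G)⁻¹ = (e : G)⁻¹ * (e * u) * (u' : G)⁻¹ := by group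
            _ = _ := by rw [h1]; group
        have hm : (u : G) * (u' : G)⁻¹ ∈ EE a := h2 ▸ mul_mem (inv_mem e.2) e'.2
        have h3 := hfix _ (mul_mem u.2 (inv_mem u'.2)) fun k => S.rho_Q (M.sub hm) _
        have hu : u = u' := Subtype.ext (mul_inv_eq_one.1 h3)
        subst hu
        exact Prod.ext (Subtype.ext (mul_right_cancel h1)) rfl
      · rintro ⟨x, hx⟩
        obtain ⟨e, he, u, hu, rfl⟩ := hmem x hx
        exact ⟨(⟨e, he⟩, ⟨u, hu⟩), rfl⟩
    rw [← Nat.card_eq_of_bijective _ hbij, Nat.card_prod, M.card, hU]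
  · refine eq_bot_iff.2 fun x hx => ?_
    obtain ⟨e, he, u, hu, rfl⟩ := hmem x hx.1
    have h1 : u = 1 := hfix u hu fun k => by rw [← hρe he hu]; exact B.fix hx.2 k
    subst h1
    rw [mul_one] at hx ⊢
    have h2 := (B.mem_Q (M.sub he)).1 hx.2
    obtain ⟨c, rfl⟩ := M.exists_pw he
    rw [mem_bot, comb_perp c fun i => by rw [← M.pi_pw]; exact h2 i, pw_zero]

end Cfsg.Agent.CoM24
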